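import Cfsg.Agent.Lib.TC.G.Fi24
import Cfsg.Agent.Lib.TC.D.Fi24a.CT0
import Cfsg.Agent.Lib.TC.D.Fi24a.CT1
import Cfsg.Agent.Lib.TC.D.Fi24a.CT2
import Cfsg.Agent.Lib.TC.D.Fi24a.CT3
import Cfsg.Agent.Lib.TC.D.Fi24a.CT4
import Cfsg.Agent.Lib.TC.D.Fi24a.CT5
import Cfsg.Agent.Lib.TC.D.Fi24a.CT6
import Cfsg.Agent.Lib.TC.D.Fi24a.CT7
import Cfsg.Agent.Lib.TC.D.Fi24a.CT8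
import Cfsg.Agent.Lib.TC.D.Fi24a.CT9
import Cfsg.Agent.Lib.TC.D.Fi24a.CT10
import Cfsg.Agent.Lib.TC.D.Fi24a.CT11
import Cfsg.Agent.Lib.TC.D.Fi24a.CT12
import Cfsg.Agent.Lib.TC.D.Fi24a.CT13
import Cfsg.Agent.Lib.TC.D.Fi24a.CT14
import Cfsg.Agent.Lib.TC.D.Fi24a.CT15
import Cfsg.Agent.Lib.TC.D.Fi24a.PT0
import Cfsg.Agent.Lib.TC.D.Fi24a.PT1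
import Cfsg.Agent.Lib.TC.D.Fi24a.PT2
import Cfsg.Agent.Lib.TC.D.Fi24a.PT3
import Cfsg.Agent.Lib.TC.D.Fi24a.PT4
import Cfsg.Agent.Lib.TC.D.Fi24a.PT5
import Cfsg.Agent.Lib.TC.D.Fi24a.PT6
import Cfsg.Agent.Lib.TC.D.Fi24a.PT7

namespace Cfsg.Agent.Lib.TC.D.Fi24a.Tab

open Cfsg.Agent.Lib.TC.Core Cfsg.Agent.Lib.TC.Enc Cfsg.Agent.Lib.TC.Pres Cfsg.Agent.Lib.TC.Perm Cfsg.Agent.Lib.TC.Main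

set_option maxRecDepth 100000

/-- The chunks of the certificate. -/
noncomputable def ctree : Tr Nat := (Tr.node (Tr.node (Tr.node (Tr.node Cfsg.Agent.Lib.TC.D.Fi24a.CT0.tree Cfsg.Agent.Lib.TC.D.Fi24a.CT8.tree) (Tr.node Cfsg.Agent.Lib.TC.D.Fi24a.CT4.tree Cfsg.Agent.Lib.TC.D.Fi24a.CT12.tree)) (Tr.node (Tr.node Cfsg.Agent.Lib.TC.D.Fi24a.CT2.tree Cfsg.Agent.Lib.TC.D.Fi24a.CT10.tree) (Tr.node Cfsg.Agent.Lib.TC.D.Fi24a.CT6.tree Cfsg.Agent.Lib.TC.D.Fi24a.CT14.tree))) (Tr.node (Tr.node (Tr.node Cfsg.Agent.Lib.TC.D.Fi24a.CT1.tree Cfsg.Agent.Lib.TC.D.Fi24a.CT9.tree) (Tr.node Cfsg.Agent.Lib.TC.D.Fi24a.CT5.tree Cfsg.Agent.Lib.TC.D.Fi24a.CT13.tree)) (Tr.node (Tr.node Cfsg.Agent.Lib.TC.D.Fi24a.CT3.tree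 Cfsg.Agent.Lib.TC.D.Fi24a.CT11.tree) (Tr.node Cfsg.Agent.Lib.TC.D.Fi24a.CT7.tree Cfsg.Agent.Lib.TC.D.Fi24a.CT15.tree))))

/-- The relator rotations. -/
noncomputable def rotT : Tr (List Nat) := (Tr.node (Tr.node (Tr.node (Tr.node (Tr.node (Tr.node (Tr.node (Tr.node (Tr.node (Tr.leaf [])
 (Tr.leaf [3,2,10,7,6,5,4,3,2,0,10,7,6,5,4,3,2,10,7,6,5,4,3,2,10,7,6,5,4,3,2,10,7,6,5,4,3,2,10,7,6,5,4,3,2,10,7,6,5,4,3,2,10,7,6,5,4,3,2,10,7,6,5,4]))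
 (Tr.node (Tr.leaf [7,9,7,9])
 (Tr.leaf [11,5,4,3,2,1,0,5,6,7,8,9,5,10,11,5,4,3,2,1,0,5,6,7,8,9,5,10,11,5,4,3,2,1,0,5,6,7,8,9,5,10,11,5,4,3,2,1,0,5,6,7,8,9,5,10,11,5,4,3,2,1,0,5,6,7,8,9,5,10,11,5,4,3,2,1,0,5,6,7,8,9,5,10,11,5,4,3,2,1,0,5,6,7,8,9,5,10,11,5,4,3,2,1,0,5,6,7,8,9,5,10,11,5,4,3,2,1,0,5,6,7,8,9,5,10,11,5,4,3,2,1,0,5,6,7,8,9,5,10,11,5,4,3,2,1,0,5,6,7,8,9,5,10,11,5,4,3,2,1,0,5,6,7,8,9,5,10,11,5,4,3,2,1,0,5,6,7,8,9,5,10,11,5,4,3,2,1,0,5,6,7,8,9,5,10,11,5,4,3,2,1,0,5,6,7,8,9,5,10,11,5,4,3,2,1,0,5,6,7,8,9,5,10,11,5,4,3,2,1,0,5,6,7,8,9,5,10])))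
 (Tr.node (Tr.node (Tr.leaf [2,7,2,7])
 (Tr.leaf [11,5,4,3,2,1,0,5,6,7,8,9,5,10,11,5,4,3,2,1,0,5,6,7,8,9,5,10,11,5,4,3,2,1,0,5,6,7,8,9,5,10,11,5,4,3,2,1,0,5,6,7,8,9,5,10,11,5,4,3,2,1,0,5,6,7,8,9,5,10,11,5,4,3,2,1,0,5,6,7,8,9,5,10,11,5,4,3,2,1,0,5,6,7,8,9,5,10,11,5,4,3,2,1,0,5,6,7,8,9,5,10,11,5,4,3,2,1,0,5,6,7,8,9,5,10,11,5,4,3,2,1,0,5,6,7,8,9,5,10,11,5,4,3,2,1,0,5,6,7,8,9,5,10,11,5,4,3,2,1,0,5,6,7,8,9,5,10,11,5,4,3,2,1,0,5,6,7,8,9,5,10,11,5,4,3,2,1,0,5,6,7,8,9,5,10,11,5,4,3,2,1,0,5,6,7,8,9,5,10,11,5,4,3,2,1,0,5,6,7,8,9,5,10,11,5,4,3,2,1,0,5,6,7,8,9,5,10]))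
 (Tr.node (Tr.leaf [7,6,5,4,3,2,10,7,6,5,4,3,2,10,7,6,5,4,3,2,10,7,6,5,4,3,2,10,7,6,5,4,3,2,10,7,6,5,4,3,2,0,10,7,6,5,4,3,2,10,7,6,5,4,3,2,10,7,6,5,4,3,2,10])
 (Tr.leaf [11,5,4,3,2,1,0,5,6,7,8,9,5,10,11,5,4,3,2,1,0,5,6,7,8,9,5,10,11,5,4,3,2,1,0,5,6,7,8,9,5,10,11,5,4,3,2,1,0,5,6,7,8,9,5,10,11,5,4,3,2,1,0,5,6,7,8,9,5,10,11,5,4,3,2,1,0,5,6,7,8,9,5,10,11,5,4,3,2,1,0,5,6,7,8,9,5,10,11,5,4,3,2,1,0,5,6,7,8,9,5,10,11,5,4,3,2,1,0,5,6,7,8,9,5,10,11,5,4,3,2,1,0,5,6,7,8,9,5,10,11,5,4,3,2,1,0,5,6,7,8,9,5,10,11,5,4,3,2,1,0,5,6,7,8,9,5,10,11,5,4,3,2,1,0,5,6,7,8,9,5,10,11,5,4,3,2,1,0,5,6,7,8,9,5,10,11,5,4,3,2,1,0,5,6,7,8,9,5,10,11,5,4,3,2,1,0,5,6,7,8,9,5,10,11,5,4,3,2,1,0,5,6,7,8,9,5,10]))))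
 (Tr.node (Tr.node (Tr.node (Tr.leaf [0,10,0,10])
 (Tr.leaf [6,7,8,9,5,10,11,5,4,3,2,1,0,5,6,7,8,9,5,10,11,5,4,3,2,1,0,5,6,7,8,9,5,10,11,5,4,3,2,1,0,5,6,7,8,9,5,10,11,5,4,3,2,1,0,5,6,7,8,9,5,10,11,5,4,3,2,1,0,5,6,7,8,9,5,10,11,5,4,3,2,1,0,5,6,7,8,9,5,10,11,5,4,3,2,1,0,5,6,7,8,9,5,10,11,5,4,3,2,1,0,5,6,7,8,9,5,10,11,5,4,3,2,1,0,5,6,7,8,9,5,10,11,5,4,3,2,1,0,5,6,7,8,9,5,10,11,5,4,3,2,1,0,5,6,7,8,9,5,10,11,5,4,3,2,1,0,5,6,7,8,9,5,10,11,5,4,3,2,1,0,5,6,7,8,9,5,10,11,5,4,3,2,1,0,5,6,7,8,9,5,10,11,5,4,3,2,1,0,5,6,7,8,9,5,10,11,5,4,3,2,1,0,5,6,7,8,9,5,10,11,5,4,3,2,1,0,5]))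
 (Tr.node (Tr.leaf [2,10,7,6,5,4,3,2,10,7,6,5,4,3,2,10,7,6,5,4,3,2,10,7,6,5,4,3,2,10,7,6,5,4,3,2,10,7,6,5,4,3,2,10,7,6,5,4,3,2,10,7,6,5,4,3,2,0,10,7,6,5,4,3])
 (Tr.leaf [11,5,4,3,2,1,0,5,6,7,8,9,5,10,11,5,4,3,2,1,0,5,6,7,8,9,5,10,11,5,4,3,2,1,0,5,6,7,8,9,5,10,11,5,4,3,2,1,0,5,6,7,8,9,5,10,11,5,4,3,2,1,0,5,6,7,8,9,5,10,11,5,4,3,2,1,0,5,6,7,8,9,5,10,11,5,4,3,2,1,0,5,6,7,8,9,5,10,11,5,4,3,2,1,0,5,6,7,8,9,5,10,11,5,4,3,2,1,0,5,6,7,8,9,5,10,11,5,4,3,2,1,0,5,6,7,8,9,5,10,11,5,4,3,2,1,0,5,6,7,8,9,5,10,11,5,4,3,2,1,0,5,6,7,8,9,5,10,11,5,4,3,2,1,0,5,6,7,8,9,5,10,11,5,4,3,2,1,0,5,6,7,8,9,5,10,11,5,4,3,2,1,0,5,6,7,8,9,5,10,11,5,4,3,2,1,0,5,6,7,8,9,5,10,11,5,4,3,2,1,0,5,6,7,8,9,5,10])))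
 (Tr.node (Tr.node (Tr.leaf [4,8,4,8])
 (Tr.leaf [11,5,4,3,2,1,0,5,6,7,8,9,5,10,11,5,4,3,2,1,0,5,6,7,8,9,5,10,11,5,4,3,2,1,0,5,6,7,8,9,5,10,11,5,4,3,2,1,0,5,6,7,8,9,5,10,11,5,4,3,2,1,0,5,6,7,8,9,5,10,11,5,4,3,2,1,0,5,6,7,8,9,5,10,11,5,4,3,2,1,0,5,6,7,8,9,5,10,11,5,4,3,2,1,0,5,6,7,8,9,5,10,11,5,4,3,2,1,0,5,6,7,8,9,5,10,11,5,4,3,2,1,0,5,6,7,8,9,5,10,11,5,4,3,2,1,0,5,6,7,8,9,5,10,11,5,4,3,2,1,0,5,6,7,8,9,5,10,11,5,4,3,2,1,0,5,6,7,8,9,5,10,11,5,4,3,2,1,0,5,6,7,8,9,5,10,11,5,4,3,2,1,0,5,6,7,8,9,5,10,11,5,4,3,2,1,0,5,6,7,8,9,5,10,11,5,4,3,2,1,0,5,6,7,8,9,5,10]))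
 (Tr.node (Tr.leaf [5,4,3,2,10,7,6,5,4,3,2,10,7,6,5,4,3,2,10,7,6,5,4,3,2,0,10,7,6,5,4,3,2,10,7,6,5,4,3,2,10,7,6,5,4,3,2,10,7,6,5,4,3,2,10,7,6,5,4,3,2,10,7,6])
 (Tr.leaf [11,5,4,3,2,1,0,5,6,7,8,9,5,10,11,5,4,3,2,1,0,5,6,7,8,9,5,10,11,5,4,3,2,1,0,5,6,7,8,9,5,10,11,5,4,3,2,1,0,5,6,7,8,9,5,10,11,5,4,3,2,1,0,5,6,7,8,9,5,10,11,5,4,3,2,1,0,5,6,7,8,9,5,10,11,5,4,3,2,1,0,5,6,7,8,9,5,10,11,5,4,3,2,1,0,5,6,7,8,9,5,10,11,5,4,3,2,1,0,5,6,7,8,9,5,10,11,5,4,3,2,1,0,5,6,7,8,9,5,10,11,5,4,3,2,1,0,5,6,7,8,9,5,10,11,5,4,3,2,1,0,5,6,7,8,9,5,10,11,5,4,3,2,1,0,5,6,7,8,9,5,10,11,5,4,3,2,1,0,5,6,7,8,9,5,10,11,5,4,3,2,1,0,5,6,7,8,9,5,10,11,5,4,3,2,1,0,5,6,7,8,9,5,10,11,5,4,3,2,1,0,5,6,7,8,9,5,10])))))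
 (Tr.node (Tr.node (Tr.node (Tr.node (Tr.leaf [0,2,0,2])
 (Tr.leaf [2,0,10,7,6,5,4,3,2,10,7,6,5,4,3,2,10,7,6,5,4,3,2,10,7,6,5,4,3,2,10,7,6,5,4,3,2,10,7,6,5,4,3,2,10,7,6,5,4,3,2,10,7,6,5,4,3,2,10,7,6,5,4,3]))
 (Tr.node (Tr.leaf [10,11,10,11,10,11])
 (Tr.leaf [11,5,4,3,2,1,0,5,6,7,8,9,5,10,11,5,4,3,2,1,0,5,6,7,8,9,5,10,11,5,4,3,2,1,0,5,6,7,8,9,5,10,11,5,4,3,2,1,0,5,6,7,8,9,5,10,11,5,4,3,2,1,0,5,6,7,8,9,5,10,11,5,4,3,2,1,0,5,6,7,8,9,5,10,11,5,4,3,2,1,0,5,6,7,8,9,5,10,11,5,4,3,2,1,0,5,6,7,8,9,5,10,11,5,4,3,2,1,0,5,6,7,8,9,5,10,11,5,4,3,2,1,0,5,6,7,8,9,5,10,11,5,4,3,2,1,0,5,6,7,8,9,5,10,11,5,4,3,2,1,0,5,6,7,8,9,5,10,11,5,4,3,2,1,0,5,6,7,8,9,5,10,11,5,4,3,2,1,0,5,6,7,8,9,5,10,11,5,4,3,2,1,0,5,6,7,8,9,5,10,11,5,4,3,2,1,0,5,6,7,8,9,5,10,11,5,4,3,2,1,0,5,6,7,8,9,5,10])))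
 (Tr.node (Tr.node (Tr.leaf [3,7,3,7])
 (Tr.leaf [11,5,4,3,2,1,0,5,6,7,8,9,5,10,11,5,4,3,2,1,0,5,6,7,8,9,5,10,11,5,4,3,2,1,0,5,6,7,8,9,5,10,11,5,4,3,2,1,0,5,6,7,8,9,5,10,11,5,4,3,2,1,0,5,6,7,8,9,5,10,11,5,4,3,2,1,0,5,6,7,8,9,5,10,11,5,4,3,2,1,0,5,6,7,8,9,5,10,11,5,4,3,2,1,0,5,6,7,8,9,5,10,11,5,4,3,2,1,0,5,6,7,8,9,5,10,11,5,4,3,2,1,0,5,6,7,8,9,5,10,11,5,4,3,2,1,0,5,6,7,8,9,5,10,11,5,4,3,2,1,0,5,6,7,8,9,5,10,11,5,4,3,2,1,0,5,6,7,8,9,5,10,11,5,4,3,2,1,0,5,6,7,8,9,5,10,11,5,4,3,2,1,0,5,6,7,8,9,5,10,11,5,4,3,2,1,0,5,6,7,8,9,5,10,11,5,4,3,2,1,0,5,6,7,8,9,5,10]))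
 (Tr.node (Tr.leaf [6,5,4,3,2,10,7,6,5,4,3,2,10,7,6,5,4,3,2,10,7,6,5,4,3,2,10,7,6,5,4,3,2,0,10,7,6,5,4,3,2,10,7,6,5,4,3,2,10,7,6,5,4,3,2,10,7,6,5,4,3,2,10,7])
 (Tr.leaf [11,5,4,3,2,1,0,5,6,7,8,9,5,10,11,5,4,3,2,1,0,5,6,7,8,9,5,10,11,5,4,3,2,1,0,5,6,7,8,9,5,10,11,5,4,3,2,1,0,5,6,7,8,9,5,10,11,5,4,3,2,1,0,5,6,7,8,9,5,10,11,5,4,3,2,1,0,5,6,7,8,9,5,10,11,5,4,3,2,1,0,5,6,7,8,9,5,10,11,5,4,3,2,1,0,5,6,7,8,9,5,10,11,5,4,3,2,1,0,5,6,7,8,9,5,10,11,5,4,3,2,1,0,5,6,7,8,9,5,10,11,5,4,3,2,1,0,5,6,7,8,9,5,10,11,5,4,3,2,1,0,5,6,7,8,9,5,10,11,5,4,3,2,1,0,5,6,7,8,9,5,10,11,5,4,3,2,1,0,5,6,7,8,9,5,10,11,5,4,3,2,1,0,5,6,7,8,9,5,10,11,5,4,3,2,1,0,5,6,7,8,9,5,10,11,5,4,3,2,1,0,5,6,7,8,9,5,10]))))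
 (Tr.node (Tr.node (Tr.node (Tr.leaf [1,8,1,8])
 (Tr.leaf [11,5,4,3,2,1,0,5,6,7,8,9,5,10,11,5,4,3,2,1,0,5,6,7,8,9,5,10,11,5,4,3,2,1,0,5,6,7,8,9,5,10,11,5,4,3,2,1,0,5,6,7,8,9,5,10,11,5,4,3,2,1,0,5,6,7,8,9,5,10,11,5,4,3,2,1,0,5,6,7,8,9,5,10,11,5,4,3,2,1,0,5,6,7,8,9,5,10,11,5,4,3,2,1,0,5,6,7,8,9,5,10,11,5,4,3,2,1,0,5,6,7,8,9,5,10,11,5,4,3,2,1,0,5,6,7,8,9,5,10,11,5,4,3,2,1,0,5,6,7,8,9,5,10,11,5,4,3,2,1,0,5,6,7,8,9,5,10,11,5,4,3,2,1,0,5,6,7,8,9,5,10,11,5,4,3,2,1,0,5,6,7,8,9,5,10,11,5,4,3,2,1,0,5,6,7,8,9,5,10,11,5,4,3,2,1,0,5,6,7,8,9,5,10,11,5,4,3,2,1,0,5,6,7,8,9,5,10]))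
 (Tr.node (Tr.leaf [10,7,6,5,4,3,2,10,7,6,5,4,3,2,10,7,6,5,4,3,2,10,7,6,5,4,3,2,10,7,6,5,4,3,2,10,7,6,5,4,3,2,10,7,6,5,4,3,2,0,10,7,6,5,4,3,2,10,7,6,5,4,3,2])
 (Tr.leaf [11,5,4,3,2,1,0,5,6,7,8,9,5,10,11,5,4,3,2,1,0,5,6,7,8,9,5,10,11,5,4,3,2,1,0,5,6,7,8,9,5,10,11,5,4,3,2,1,0,5,6,7,8,9,5,10,11,5,4,3,2,1,0,5,6,7,8,9,5,10,11,5,4,3,2,1,0,5,6,7,8,9,5,10,11,5,4,3,2,1,0,5,6,7,8,9,5,10,11,5,4,3,2,1,0,5,6,7,8,9,5,10,11,5,4,3,2,1,0,5,6,7,8,9,5,10,11,5,4,3,2,1,0,5,6,7,8,9,5,10,11,5,4,3,2,1,0,5,6,7,8,9,5,10,11,5,4,3,2,1,0,5,6,7,8,9,5,10,11,5,4,3,2,1,0,5,6,7,8,9,5,10,11,5,4,3,2,1,0,5,6,7,8,9,5,10,11,5,4,3,2,1,0,5,6,7,8,9,5,10,11,5,4,3,2,1,0,5,6,7,8,9,5,10,11,5,4,3,2,1,0,5,6,7,8,9,5,10])))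
 (Tr.node (Tr.node (Tr.leaf [5,10,5,10,5,10])
 (Tr.leaf [11,5,4,3,2,1,0,5,6,7,8,9,5,10,11,5,4,3,2,1,0,5,6,7,8,9,5,10,11,5,4,3,2,1,0,5,6,7,8,9,5,10,11,5,4,3,2,1,0,5,6,7,8,9,5,10,11,5,4,3,2,1,0,5,6,7,8,9,5,10,11,5,4,3,2,1,0,5,6,7,8,9,5,10,11,5,4,3,2,1,0,5,6,7,8,9,5,10,11,5,4,3,2,1,0,5,6,7,8,9,5,10,11,5,4,3,2,1,0,5,6,7,8,9,5,10,11,5,4,3,2,1,0,5,6,7,8,9,5,10,11,5,4,3,2,1,0,5,6,7,8,9,5,10,11,5,4,3,2,1,0,5,6,7,8,9,5,10,11,5,4,3,2,1,0,5,6,7,8,9,5,10,11,5,4,3,2,1,0,5,6,7,8,9,5,10,11,5,4,3,2,1,0,5,6,7,8,9,5,10,11,5,4,3,2,1,0,5,6,7,8,9,5,10,11,5,4,3,2,1,0,5,6,7,8,9,5,10]))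
 (Tr.node (Tr.leaf [4,3,2,10,7,6,5,4,3,2,10,7,6,5,4,3,2,0,10,7,6,5,4,3,2,10,7,6,5,4,3,2,10,7,6,5,4,3,2,10,7,6,5,4,3,2,10,7,6,5,4,3,2,10,7,6,5,4,3,2,10,7,6,5])
 (Tr.leaf [11,5,4,3,2,1,0,5,6,7,8,9,5,10,11,5,4,3,2,1,0,5,6,7,8,9,5,10,11,5,4,3,2,1,0,5,6,7,8,9,5,10,11,5,4,3,2,1,0,5,6,7,8,9,5,10,11,5,4,3,2,1,0,5,6,7,8,9,5,10,11,5,4,3,2,1,0,5,6,7,8,9,5,10,11,5,4,3,2,1,0,5,6,7,8,9,5,10,11,5,4,3,2,1,0,5,6,7,8,9,5,10,11,5,4,3,2,1,0,5,6,7,8,9,5,10,11,5,4,3,2,1,0,5,6,7,8,9,5,10,11,5,4,3,2,1,0,5,6,7,8,9,5,10,11,5,4,3,2,1,0,5,6,7,8,9,5,10,11,5,4,3,2,1,0,5,6,7,8,9,5,10,11,5,4,3,2,1,0,5,6,7,8,9,5,10,11,5,4,3,2,1,0,5,6,7,8,9,5,10,11,5,4,3,2,1,0,5,6,7,8,9,5,10,11,5,4,3,2,1,0,5,6,7,8,9,5,10]))))))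
 (Tr.node (Tr.node (Tr.node (Tr.node (Tr.node (Tr.leaf [7,7])
 (Tr.leaf [6,5,4,3,2,0,10,7,6,5,4,3,2,10,7,6,5,4,3,2,10,7,6,5,4,3,2,10,7,6,5,4,3,2,10,7,6,5,4,3,2,10,7,6,5,4,3,2,10,7,6,5,4,3,2,10,7,6,5,4,3,2,10,7]))
 (Tr.node (Tr.leaf [8,10,8,10])
 (Tr.leaf [11,5,4,3,2,1,0,5,6,7,8,9,5,10,11,5,4,3,2,1,0,5,6,7,8,9,5,10,11,5,4,3,2,1,0,5,6,7,8,9,5,10,11,5,4,3,2,1,0,5,6,7,8,9,5,10,11,5,4,3,2,1,0,5,6,7,8,9,5,10,11,5,4,3,2,1,0,5,6,7,8,9,5,10,11,5,4,3,2,1,0,5,6,7,8,9,5,10,11,5,4,3,2,1,0,5,6,7,8,9,5,10,11,5,4,3,2,1,0,5,6,7,8,9,5,10,11,5,4,3,2,1,0,5,6,7,8,9,5,10,11,5,4,3,2,1,0,5,6,7,8,9,5,10,11,5,4,3,2,1,0,5,6,7,8,9,5,10,11,5,4,3,2,1,0,5,6,7,8,9,5,10,11,5,4,3,2,1,0,5,6,7,8,9,5,10,11,5,4,3,2,1,0,5,6,7,8,9,5,10,11,5,4,3,2,1,0,5,6,7,8,9,5,10,11,5,4,3,2,1,0,5,6,7,8,9,5,10])))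
 (Tr.node (Tr.node (Tr.leaf [2,11,2,11])
 (Tr.leaf [11,5,4,3,2,1,0,5,6,7,8,9,5,10,11,5,4,3,2,1,0,5,6,7,8,9,5,10,11,5,4,3,2,1,0,5,6,7,8,9,5,10,11,5,4,3,2,1,0,5,6,7,8,9,5,10,11,5,4,3,2,1,0,5,6,7,8,9,5,10,11,5,4,3,2,1,0,5,6,7,8,9,5,10,11,5,4,3,2,1,0,5,6,7,8,9,5,10,11,5,4,3,2,1,0,5,6,7,8,9,5,10,11,5,4,3,2,1,0,5,6,7,8,9,5,10,11,5,4,3,2,1,0,5,6,7,8,9,5,10,11,5,4,3,2,1,0,5,6,7,8,9,5,10,11,5,4,3,2,1,0,5,6,7,8,9,5,10,11,5,4,3,2,1,0,5,6,7,8,9,5,10,11,5,4,3,2,1,0,5,6,7,8,9,5,10,11,5,4,3,2,1,0,5,6,7,8,9,5,10,11,5,4,3,2,1,0,5,6,7,8,9,5,10,11,5,4,3,2,1,0,5,6,7,8,9,5,10]))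
 (Tr.node (Tr.leaf [3,2,10,7,6,5,4,3,2,10,7,6,5,4,3,2,10,7,6,5,4,3,2,10,7,6,5,4,3,2,10,7,6,5,4,3,2,0,10,7,6,5,4,3,2,10,7,6,5,4,3,2,10,7,6,5,4,3,2,10,7,6,5,4])
 (Tr.leaf [11,5,4,3,2,1,0,5,6,7,8,9,5,10,11,5,4,3,2,1,0,5,6,7,8,9,5,10,11,5,4,3,2,1,0,5,6,7,8,9,5,10,11,5,4,3,2,1,0,5,6,7,8,9,5,10,11,5,4,3,2,1,0,5,6,7,8,9,5,10,11,5,4,3,2,1,0,5,6,7,8,9,5,10,11,5,4,3,2,1,0,5,6,7,8,9,5,10,11,5,4,3,2,1,0,5,6,7,8,9,5,10,11,5,4,3,2,1,0,5,6,7,8,9,5,10,11,5,4,3,2,1,0,5,6,7,8,9,5,10,11,5,4,3,2,1,0,5,6,7,8,9,5,10,11,5,4,3,2,1,0,5,6,7,8,9,5,10,11,5,4,3,2,1,0,5,6,7,8,9,5,10,11,5,4,3,2,1,0,5,6,7,8,9,5,10,11,5,4,3,2,1,0,5,6,7,8,9,5,10,11,5,4,3,2,1,0,5,6,7,8,9,5,10,11,5,4,3,2,1,0,5,6,7,8,9,5,10]))))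
 (Tr.node (Tr.node (Tr.node (Tr.leaf [1,4,1,4])
 (Tr.leaf [5,10,11,5,4,3,2,1,0,5,6,7,8,9,5,10,11,5,4,3,2,1,0,5,6,7,8,9,5,10,11,5,4,3,2,1,0,5,6,7,8,9,5,10,11,5,4,3,2,1,0,5,6,7,8,9,5,10,11,5,4,3,2,1,0,5,6,7,8,9,5,10,11,5,4,3,2,1,0,5,6,7,8,9,5,10,11,5,4,3,2,1,0,5,6,7,8,9,5,10,11,5,4,3,2,1,0,5,6,7,8,9,5,10,11,5,4,3,2,1,0,5,6,7,8,9,5,10,11,5,4,3,2,1,0,5,6,7,8,9,5,10,11,5,4,3,2,1,0,5,6,7,8,9,5,10,11,5,4,3,2,1,0,5,6,7,8,9,5,10,11,5,4,3,2,1,0,5,6,7,8,9,5,10,11,5,4,3,2,1,0,5,6,7,8,9,5,10,11,5,4,3,2,1,0,5,6,7,8,9,5,10,11,5,4,3,2,1,0,5,6,7,8,9,5,10,11,5,4,3,2,1,0,5,6,7,8,9]))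
 (Tr.node (Tr.leaf [5,4,3,2,10,7,6,5,4,3,2,10,7,6,5,4,3,2,10,7,6,5,4,3,2,10,7,6,5,4,3,2,10,7,6,5,4,3,2,10,7,6,5,4,3,2,10,7,6,5,4,3,2,0,10,7,6,5,4,3,2,10,7,6])
 (Tr.leaf [11,5,4,3,2,1,0,5,6,7,8,9,5,10,11,5,4,3,2,1,0,5,6,7,8,9,5,10,11,5,4,3,2,1,0,5,6,7,8,9,5,10,11,5,4,3,2,1,0,5,6,7,8,9,5,10,11,5,4,3,2,1,0,5,6,7,8,9,5,10,11,5,4,3,2,1,0,5,6,7,8,9,5,10,11,5,4,3,2,1,0,5,6,7,8,9,5,10,11,5,4,3,2,1,0,5,6,7,8,9,5,10,11,5,4,3,2,1,0,5,6,7,8,9,5,10,11,5,4,3,2,1,0,5,6,7,8,9,5,10,11,5,4,3,2,1,0,5,6,7,8,9,5,10,11,5,4,3,2,1,0,5,6,7,8,9,5,10,11,5,4,3,2,1,0,5,6,7,8,9,5,10,11,5,4,3,2,1,0,5,6,7,8,9,5,10,11,5,4,3,2,1,0,5,6,7,8,9,5,10,11,5,4,3,2,1,0,5,6,7,8,9,5,10,11,5,4,3,2,1,0,5,6,7,8,9,5,10])))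
 (Tr.node (Tr.node (Tr.leaf [5,6,5,6,5,6])
 (Tr.leaf [11,5,4,3,2,1,0,5,6,7,8,9,5,10,11,5,4,3,2,1,0,5,6,7,8,9,5,10,11,5,4,3,2,1,0,5,6,7,8,9,5,10,11,5,4,3,2,1,0,5,6,7,8,9,5,10,11,5,4,3,2,1,0,5,6,7,8,9,5,10,11,5,4,3,2,1,0,5,6,7,8,9,5,10,11,5,4,3,2,1,0,5,6,7,8,9,5,10,11,5,4,3,2,1,0,5,6,7,8,9,5,10,11,5,4,3,2,1,0,5,6,7,8,9,5,10,11,5,4,3,2,1,0,5,6,7,8,9,5,10,11,5,4,3,2,1,0,5,6,7,8,9,5,10,11,5,4,3,2,1,0,5,6,7,8,9,5,10,11,5,4,3,2,1,0,5,6,7,8,9,5,10,11,5,4,3,2,1,0,5,6,7,8,9,5,10,11,5,4,3,2,1,0,5,6,7,8,9,5,10,11,5,4,3,2,1,0,5,6,7,8,9,5,10,11,5,4,3,2,1,0,5,6,7,8,9,5,10]))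
 (Tr.node (Tr.leaf [10,7,6,5,4,3,2,10,7,6,5,4,3,2,10,7,6,5,4,3,2,0,10,7,6,5,4,3,2,10,7,6,5,4,3,2,10,7,6,5,4,3,2,10,7,6,5,4,3,2,10,7,6,5,4,3,2,10,7,6,5,4,3,2])
 (Tr.leaf [11,5,4,3,2,1,0,5,6,7,8,9,5,10,11,5,4,3,2,1,0,5,6,7,8,9,5,10,11,5,4,3,2,1,0,5,6,7,8,9,5,10,11,5,4,3,2,1,0,5,6,7,8,9,5,10,11,5,4,3,2,1,0,5,6,7,8,9,5,10,11,5,4,3,2,1,0,5,6,7,8,9,5,10,11,5,4,3,2,1,0,5,6,7,8,9,5,10,11,5,4,3,2,1,0,5,6,7,8,9,5,10,11,5,4,3,2,1,0,5,6,7,8,9,5,10,11,5,4,3,2,1,0,5,6,7,8,9,5,10,11,5,4,3,2,1,0,5,6,7,8,9,5,10,11,5,4,3,2,1,0,5,6,7,8,9,5,10,11,5,4,3,2,1,0,5,6,7,8,9,5,10,11,5,4,3,2,1,0,5,6,7,8,9,5,10,11,5,4,3,2,1,0,5,6,7,8,9,5,10,11,5,4,3,2,1,0,5,6,7,8,9,5,10,11,5,4,3,2,1,0,5,6,7,8,9,5,10])))))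
 (Tr.node (Tr.node (Tr.node (Tr.node (Tr.leaf [0,6,0,6])
 (Tr.leaf [2,1,0,5,6,7,8,9,5,10,11,5,4,3,2,1,0,5,6,7,8,9,5,10,11,5,4,3,2,1,0,5,6,7,8,9,5,10,11,5,4,3,2,1,0,5,6,7,8,9,5,10,11,5,4,3,2,1,0,5,6,7,8,9,5,10,11,5,4,3,2,1,0,5,6,7,8,9,5,10,11,5,4,3,2,1,0,5,6,7,8,9,5,10,11,5,4,3,2,1,0,5,6,7,8,9,5,10,11,5,4,3,2,1,0,5,6,7,8,9,5,10,11,5,4,3,2,1,0,5,6,7,8,9,5,10,11,5,4,3,2,1,0,5,6,7,8,9,5,10,11,5,4,3,2,1,0,5,6,7,8,9,5,10,11,5,4,3,2,1,0,5,6,7,8,9,5,10,11,5,4,3,2,1,0,5,6,7,8,9,5,10,11,5,4,3,2,1,0,5,6,7,8,9,5,10,11,5,4,3,2,1,0,5,6,7,8,9,5,10,11,5,4,3,2,1,0,5,6,7,8,9,5,10,11,5,4,3]))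
 (Tr.node (Tr.leaf [6,5,4,3,2,10,7,6,5,4,3,2,10,7,6,5,4,3,2,10,7,6,5,4,3,2,10,7,6,5,4,3,2,10,7,6,5,4,3,2,10,7,6,5,4,3,2,10,7,6,5,4,3,2,10,7,6,5,4,3,2,0,10,7])
 (Tr.leaf [11,5,4,3,2,1,0,5,6,7,8,9,5,10,11,5,4,3,2,1,0,5,6,7,8,9,5,10,11,5,4,3,2,1,0,5,6,7,8,9,5,10,11,5,4,3,2,1,0,5,6,7,8,9,5,10,11,5,4,3,2,1,0,5,6,7,8,9,5,10,11,5,4,3,2,1,0,5,6,7,8,9,5,10,11,5,4,3,2,1,0,5,6,7,8,9,5,10,11,5,4,3,2,1,0,5,6,7,8,9,5,10,11,5,4,3,2,1,0,5,6,7,8,9,5,10,11,5,4,3,2,1,0,5,6,7,8,9,5,10,11,5,4,3,2,1,0,5,6,7,8,9,5,10,11,5,4,3,2,1,0,5,6,7,8,9,5,10,11,5,4,3,2,1,0,5,6,7,8,9,5,10,11,5,4,3,2,1,0,5,6,7,8,9,5,10,11,5,4,3,2,1,0,5,6,7,8,9,5,10,11,5,4,3,2,1,0,5,6,7,8,9,5,10,11,5,4,3,2,1,0,5,6,7,8,9,5,10])))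
 (Tr.node (Tr.node (Tr.leaf [3,11,3,11])
 (Tr.leaf [11,5,4,3,2,1,0,5,6,7,8,9,5,10,11,5,4,3,2,1,0,5,6,7,8,9,5,10,11,5,4,3,2,1,0,5,6,7,8,9,5,10,11,5,4,3,2,1,0,5,6,7,8,9,5,10,11,5,4,3,2,1,0,5,6,7,8,9,5,10,11,5,4,3,2,1,0,5,6,7,8,9,5,10,11,5,4,3,2,1,0,5,6,7,8,9,5,10,11,5,4,3,2,1,0,5,6,7,8,9,5,10,11,5,4,3,2,1,0,5,6,7,8,9,5,10,11,5,4,3,2,1,0,5,6,7,8,9,5,10,11,5,4,3,2,1,0,5,6,7,8,9,5,10,11,5,4,3,2,1,0,5,6,7,8,9,5,10,11,5,4,3,2,1,0,5,6,7,8,9,5,10,11,5,4,3,2,1,0,5,6,7,8,9,5,10,11,5,4,3,2,1,0,5,6,7,8,9,5,10,11,5,4,3,2,1,0,5,6,7,8,9,5,10,11,5,4,3,2,1,0,5,6,7,8,9,5,10]))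
 (Tr.node (Tr.leaf [2,10,7,6,5,4,3,2,10,7,6,5,4,3,2,10,7,6,5,4,3,2,10,7,6,5,4,3,2,0,10,7,6,5,4,3,2,10,7,6,5,4,3,2,10,7,6,5,4,3,2,10,7,6,5,4,3,2,10,7,6,5,4,3])
 (Tr.leaf [11,5,4,3,2,1,0,5,6,7,8,9,5,10,11,5,4,3,2,1,0,5,6,7,8,9,5,10,11,5,4,3,2,1,0,5,6,7,8,9,5,10,11,5,4,3,2,1,0,5,6,7,8,9,5,10,11,5,4,3,2,1,0,5,6,7,8,9,5,10,11,5,4,3,2,1,0,5,6,7,8,9,5,10,11,5,4,3,2,1,0,5,6,7,8,9,5,10,11,5,4,3,2,1,0,5,6,7,8,9,5,10,11,5,4,3,2,1,0,5,6,7,8,9,5,10,11,5,4,3,2,1,0,5,6,7,8,9,5,10,11,5,4,3,2,1,0,5,6,7,8,9,5,10,11,5,4,3,2,1,0,5,6,7,8,9,5,10,11,5,4,3,2,1,0,5,6,7,8,9,5,10,11,5,4,3,2,1,0,5,6,7,8,9,5,10,11,5,4,3,2,1,0,5,6,7,8,9,5,10,11,5,4,3,2,1,0,5,6,7,8,9,5,10,11,5,4,3,2,1,0,5,6,7,8,9,5,10]))))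
 (Tr.node (Tr.node (Tr.node (Tr.leaf [2,3,2,3,2,3])
 (Tr.leaf [11,5,4,3,2,1,0,5,6,7,8,9,5,10,11,5,4,3,2,1,0,5,6,7,8,9,5,10,11,5,4,3,2,1,0,5,6,7,8,9,5,10,11,5,4,3,2,1,0,5,6,7,8,9,5,10,11,5,4,3,2,1,0,5,6,7,8,9,5,10,11,5,4,3,2,1,0,5,6,7,8,9,5,10,11,5,4,3,2,1,0,5,6,7,8,9,5,10,11,5,4,3,2,1,0,5,6,7,8,9,5,10,11,5,4,3,2,1,0,5,6,7,8,9,5,10,11,5,4,3,2,1,0,5,6,7,8,9,5,10,11,5,4,3,2,1,0,5,6,7,8,9,5,10,11,5,4,3,2,1,0,5,6,7,8,9,5,10,11,5,4,3,2,1,0,5,6,7,8,9,5,10,11,5,4,3,2,1,0,5,6,7,8,9,5,10,11,5,4,3,2,1,0,5,6,7,8,9,5,10,11,5,4,3,2,1,0,5,6,7,8,9,5,10,11,5,4,3,2,1,0,5,6,7,8,9,5,10]))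
 (Tr.node (Tr.leaf [4,3,2,10,7,6,5,4,3,2,10,7,6,5,4,3,2,10,7,6,5,4,3,2,10,7,6,5,4,3,2,10,7,6,5,4,3,2,10,7,6,5,4,3,2,0,10,7,6,5,4,3,2,10,7,6,5,4,3,2,10,7,6,5])
 (Tr.leaf [11,5,4,3,2,1,0,5,6,7,8,9,5,10,11,5,4,3,2,1,0,5,6,7,8,9,5,10,11,5,4,3,2,1,0,5,6,7,8,9,5,10,11,5,4,3,2,1,0,5,6,7,8,9,5,10,11,5,4,3,2,1,0,5,6,7,8,9,5,10,11,5,4,3,2,1,0,5,6,7,8,9,5,10,11,5,4,3,2,1,0,5,6,7,8,9,5,10,11,5,4,3,2,1,0,5,6,7,8,9,5,10,11,5,4,3,2,1,0,5,6,7,8,9,5,10,11,5,4,3,2,1,0,5,6,7,8,9,5,10,11,5,4,3,2,1,0,5,6,7,8,9,5,10,11,5,4,3,2,1,0,5,6,7,8,9,5,10,11,5,4,3,2,1,0,5,6,7,8,9,5,10,11,5,4,3,2,1,0,5,6,7,8,9,5,10,11,5,4,3,2,1,0,5,6,7,8,9,5,10,11,5,4,3,2,1,0,5,6,7,8,9,5,10,11,5,4,3,2,1,0,5,6,7,8,9,5,10])))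
 (Tr.node (Tr.node (Tr.leaf [6,9,6,9])
 (Tr.leaf [11,5,4,3,2,1,0,5,6,7,8,9,5,10,11,5,4,3,2,1,0,5,6,7,8,9,5,10,11,5,4,3,2,1,0,5,6,7,8,9,5,10,11,5,4,3,2,1,0,5,6,7,8,9,5,10,11,5,4,3,2,1,0,5,6,7,8,9,5,10,11,5,4,3,2,1,0,5,6,7,8,9,5,10,11,5,4,3,2,1,0,5,6,7,8,9,5,10,11,5,4,3,2,1,0,5,6,7,8,9,5,10,11,5,4,3,2,1,0,5,6,7,8,9,5,10,11,5,4,3,2,1,0,5,6,7,8,9,5,10,11,5,4,3,2,1,0,5,6,7,8,9,5,10,11,5,4,3,2,1,0,5,6,7,8,9,5,10,11,5,4,3,2,1,0,5,6,7,8,9,5,10,11,5,4,3,2,1,0,5,6,7,8,9,5,10,11,5,4,3,2,1,0,5,6,7,8,9,5,10,11,5,4,3,2,1,0,5,6,7,8,9,5,10,11,5,4,3,2,1,0,5,6,7,8,9,5,10]))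
 (Tr.node (Tr.leaf [7,6,5,4,3,2,10,7,6,5,4,3,2,0,10,7,6,5,4,3,2,10,7,6,5,4,3,2,10,7,6,5,4,3,2,10,7,6,5,4,3,2,10,7,6,5,4,3,2,10,7,6,5,4,3,2,10,7,6,5,4,3,2,10])
 (Tr.leaf [11,5,4,3,2,1,0,5,6,7,8,9,5,10,11,5,4,3,2,1,0,5,6,7,8,9,5,10,11,5,4,3,2,1,0,5,6,7,8,9,5,10,11,5,4,3,2,1,0,5,6,7,8,9,5,10,11,5,4,3,2,1,0,5,6,7,8,9,5,10,11,5,4,3,2,1,0,5,6,7,8,9,5,10,11,5,4,3,2,1,0,5,6,7,8,9,5,10,11,5,4,3,2,1,0,5,6,7,8,9,5,10,11,5,4,3,2,1,0,5,6,7,8,9,5,10,11,5,4,3,2,1,0,5,6,7,8,9,5,10,11,5,4,3,2,1,0,5,6,7,8,9,5,10,11,5,4,3,2,1,0,5,6,7,8,9,5,10,11,5,4,3,2,1,0,5,6,7,8,9,5,10,11,5,4,3,2,1,0,5,6,7,8,9,5,10,11,5,4,3,2,1,0,5,6,7,8,9,5,10,11,5,4,3,2,1,0,5,6,7,8,9,5,10,11,5,4,3,2,1,0,5,6,7,8,9,5,10])))))))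
 (Tr.node (Tr.node (Tr.node (Tr.node (Tr.node (Tr.node (Tr.leaf [3,3])
 (Tr.leaf [10,7,6,5,4,3,2,0,10,7,6,5,4,3,2,10,7,6,5,4,3,2,10,7,6,5,4,3,2,10,7,6,5,4,3,2,10,7,6,5,4,3,2,10,7,6,5,4,3,2,10,7,6,5,4,3,2,10,7,6,5,4,3,2]))
 (Tr.node (Tr.leaf [7,11,7,11])
 (Tr.leaf [11,5,4,3,2,1,0,5,6,7,8,9,5,10,11,5,4,3,2,1,0,5,6,7,8,9,5,10,11,5,4,3,2,1,0,5,6,7,8,9,5,10,11,5,4,3,2,1,0,5,6,7,8,9,5,10,11,5,4,3,2,1,0,5,6,7,8,9,5,10,11,5,4,3,2,1,0,5,6,7,8,9,5,10,11,5,4,3,2,1,0,5,6,7,8,9,5,10,11,5,4,3,2,1,0,5,6,7,8,9,5,10,11,5,4,3,2,1,0,5,6,7,8,9,5,10,11,5,4,3,2,1,0,5,6,7,8,9,5,10,11,5,4,3,2,1,0,5,6,7,8,9,5,10,11,5,4,3,2,1,0,5,6,7,8,9,5,10,11,5,4,3,2,1,0,5,6,7,8,9,5,10,11,5,4,3,2,1,0,5,6,7,8,9,5,10,11,5,4,3,2,1,0,5,6,7,8,9,5,10,11,5,4,3,2,1,0,5,6,7,8,9,5,10,11,5,4,3,2,1,0,5,6,7,8,9,5,10])))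
 (Tr.node (Tr.node (Tr.leaf [2,9,2,9])
 (Tr.leaf [11,5,4,3,2,1,0,5,6,7,8,9,5,10,11,5,4,3,2,1,0,5,6,7,8,9,5,10,11,5,4,3,2,1,0,5,6,7,8,9,5,10,11,5,4,3,2,1,0,5,6,7,8,9,5,10,11,5,4,3,2,1,0,5,6,7,8,9,5,10,11,5,4,3,2,1,0,5,6,7,8,9,5,10,11,5,4,3,2,1,0,5,6,7,8,9,5,10,11,5,4,3,2,1,0,5,6,7,8,9,5,10,11,5,4,3,2,1,0,5,6,7,8,9,5,10,11,5,4,3,2,1,0,5,6,7,8,9,5,10,11,5,4,3,2,1,0,5,6,7,8,9,5,10,11,5,4,3,2,1,0,5,6,7,8,9,5,10,11,5,4,3,2,1,0,5,6,7,8,9,5,10,11,5,4,3,2,1,0,5,6,7,8,9,5,10,11,5,4,3,2,1,0,5,6,7,8,9,5,10,11,5,4,3,2,1,0,5,6,7,8,9,5,10,11,5,4,3,2,1,0,5,6,7,8,9,5,10]))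
 (Tr.node (Tr.leaf [5,4,3,2,10,7,6,5,4,3,2,10,7,6,5,4,3,2,10,7,6,5,4,3,2,10,7,6,5,4,3,2,10,7,6,5,4,3,2,0,10,7,6,5,4,3,2,10,7,6,5,4,3,2,10,7,6,5,4,3,2,10,7,6])
 (Tr.leaf [11,5,4,3,2,1,0,5,6,7,8,9,5,10,11,5,4,3,2,1,0,5,6,7,8,9,5,10,11,5,4,3,2,1,0,5,6,7,8,9,5,10,11,5,4,3,2,1,0,5,6,7,8,9,5,10,11,5,4,3,2,1,0,5,6,7,8,9,5,10,11,5,4,3,2,1,0,5,6,7,8,9,5,10,11,5,4,3,2,1,0,5,6,7,8,9,5,10,11,5,4,3,2,1,0,5,6,7,8,9,5,10,11,5,4,3,2,1,0,5,6,7,8,9,5,10,11,5,4,3,2,1,0,5,6,7,8,9,5,10,11,5,4,3,2,1,0,5,6,7,8,9,5,10,11,5,4,3,2,1,0,5,6,7,8,9,5,10,11,5,4,3,2,1,0,5,6,7,8,9,5,10,11,5,4,3,2,1,0,5,6,7,8,9,5,10,11,5,4,3,2,1,0,5,6,7,8,9,5,10,11,5,4,3,2,1,0,5,6,7,8,9,5,10,11,5,4,3,2,1,0,5,6,7,8,9,5,10]))))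
 (Tr.node (Tr.node (Tr.node (Tr.leaf [1,2,1,2,1,2])
 (Tr.leaf [8,9,5,10,11,5,4,3,2,1,0,5,6,7,8,9,5,10,11,5,4,3,2,1,0,5,6,7,8,9,5,10,11,5,4,3,2,1,0,5,6,7,8,9,5,10,11,5,4,3,2,1,0,5,6,7,8,9,5,10,11,5,4,3,2,1,0,5,6,7,8,9,5,10,11,5,4,3,2,1,0,5,6,7,8,9,5,10,11,5,4,3,2,1,0,5,6,7,8,9,5,10,11,5,4,3,2,1,0,5,6,7,8,9,5,10,11,5,4,3,2,1,0,5,6,7,8,9,5,10,11,5,4,3,2,1,0,5,6,7,8,9,5,10,11,5,4,3,2,1,0,5,6,7,8,9,5,10,11,5,4,3,2,1,0,5,6,7,8,9,5,10,11,5,4,3,2,1,0,5,6,7,8,9,5,10,11,5,4,3,2,1,0,5,6,7,8,9,5,10,11,5,4,3,2,1,0,5,6,7,8,9,5,10,11,5,4,3,2,1,0,5,6,7,8,9,5,10,11,5,4,3,2,1,0,5,6,7]))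
 (Tr.node (Tr.leaf [7,6,5,4,3,2,10,7,6,5,4,3,2,10,7,6,5,4,3,2,10,7,6,5,4,3,2,10,7,6,5,4,3,2,10,7,6,5,4,3,2,10,7,6,5,4,3,2,10,7,6,5,4,3,2,0,10,7,6,5,4,3,2,10])
 (Tr.leaf [11,5,4,3,2,1,0,5,6,7,8,9,5,10,11,5,4,3,2,1,0,5,6,7,8,9,5,10,11,5,4,3,2,1,0,5,6,7,8,9,5,10,11,5,4,3,2,1,0,5,6,7,8,9,5,10,11,5,4,3,2,1,0,5,6,7,8,9,5,10,11,5,4,3,2,1,0,5,6,7,8,9,5,10,11,5,4,3,2,1,0,5,6,7,8,9,5,10,11,5,4,3,2,1,0,5,6,7,8,9,5,10,11,5,4,3,2,1,0,5,6,7,8,9,5,10,11,5,4,3,2,1,0,5,6,7,8,9,5,10,11,5,4,3,2,1,0,5,6,7,8,9,5,10,11,5,4,3,2,1,0,5,6,7,8,9,5,10,11,5,4,3,2,1,0,5,6,7,8,9,5,10,11,5,4,3,2,1,0,5,6,7,8,9,5,10,11,5,4,3,2,1,0,5,6,7,8,9,5,10,11,5,4,3,2,1,0,5,6,7,8,9,5,10,11,5,4,3,2,1,0,5,6,7,8,9,5,10])))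
 (Tr.node (Tr.node (Tr.leaf [4,10,4,10])
 (Tr.leaf [11,5,4,3,2,1,0,5,6,7,8,9,5,10,11,5,4,3,2,1,0,5,6,7,8,9,5,10,11,5,4,3,2,1,0,5,6,7,8,9,5,10,11,5,4,3,2,1,0,5,6,7,8,9,5,10,11,5,4,3,2,1,0,5,6,7,8,9,5,10,11,5,4,3,2,1,0,5,6,7,8,9,5,10,11,5,4,3,2,1,0,5,6,7,8,9,5,10,11,5,4,3,2,1,0,5,6,7,8,9,5,10,11,5,4,3,2,1,0,5,6,7,8,9,5,10,11,5,4,3,2,1,0,5,6,7,8,9,5,10,11,5,4,3,2,1,0,5,6,7,8,9,5,10,11,5,4,3,2,1,0,5,6,7,8,9,5,10,11,5,4,3,2,1,0,5,6,7,8,9,5,10,11,5,4,3,2,1,0,5,6,7,8,9,5,10,11,5,4,3,2,1,0,5,6,7,8,9,5,10,11,5,4,3,2,1,0,5,6,7,8,9,5,10,11,5,4,3,2,1,0,5,6,7,8,9,5,10]))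
 (Tr.node (Tr.leaf [3,2,10,7,6,5,4,3,2,10,7,6,5,4,3,2,10,7,6,5,4,3,2,0,10,7,6,5,4,3,2,10,7,6,5,4,3,2,10,7,6,5,4,3,2,10,7,6,5,4,3,2,10,7,6,5,4,3,2,10,7,6,5,4])
 (Tr.leaf [11,5,4,3,2,1,0,5,6,7,8,9,5,10,11,5,4,3,2,1,0,5,6,7,8,9,5,10,11,5,4,3,2,1,0,5,6,7,8,9,5,10,11,5,4,3,2,1,0,5,6,7,8,9,5,10,11,5,4,3,2,1,0,5,6,7,8,9,5,10,11,5,4,3,2,1,0,5,6,7,8,9,5,10,11,5,4,3,2,1,0,5,6,7,8,9,5,10,11,5,4,3,2,1,0,5,6,7,8,9,5,10,11,5,4,3,2,1,0,5,6,7,8,9,5,10,11,5,4,3,2,1,0,5,6,7,8,9,5,10,11,5,4,3,2,1,0,5,6,7,8,9,5,10,11,5,4,3,2,1,0,5,6,7,8,9,5,10,11,5,4,3,2,1,0,5,6,7,8,9,5,10,11,5,4,3,2,1,0,5,6,7,8,9,5,10,11,5,4,3,2,1,0,5,6,7,8,9,5,10,11,5,4,3,2,1,0,5,6,7,8,9,5,10,11,5,4,3,2,1,0,5,6,7,8,9,5,10])))))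
 (Tr.node (Tr.node (Tr.node (Tr.node (Tr.leaf [0,4,0,4])
 (Tr.leaf [4,3,2,1,0,5,6,7,8,9,5,10,11,5,4,3,2,1,0,5,6,7,8,9,5,10,11,5,4,3,2,1,0,5,6,7,8,9,5,10,11,5,4,3,2,1,0,5,6,7,8,9,5,10,11,5,4,3,2,1,0,5,6,7,8,9,5,10,11,5,4,3,2,1,0,5,6,7,8,9,5,10,11,5,4,3,2,1,0,5,6,7,8,9,5,10,11,5,4,3,2,1,0,5,6,7,8,9,5,10,11,5,4,3,2,1,0,5,6,7,8,9,5,10,11,5,4,3,2,1,0,5,6,7,8,9,5,10,11,5,4,3,2,1,0,5,6,7,8,9,5,10,11,5,4,3,2,1,0,5,6,7,8,9,5,10,11,5,4,3,2,1,0,5,6,7,8,9,5,10,11,5,4,3,2,1,0,5,6,7,8,9,5,10,11,5,4,3,2,1,0,5,6,7,8,9,5,10,11,5,4,3,2,1,0,5,6,7,8,9,5,10,11,5,4,3,2,1,0,5,6,7,8,9,5,10,11,5]))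
 (Tr.node (Tr.leaf [10,7,6,5,4,3,2,10,7,6,5,4,3,2,10,7,6,5,4,3,2,10,7,6,5,4,3,2,10,7,6,5,4,3,2,10,7,6,5,4,3,2,10,7,6,5,4,3,2,10,7,6,5,4,3,2,10,7,6,5,4,3,2,0])
 (Tr.leaf [11,5,4,3,2,1,0,5,6,7,8,9,5,10,11,5,4,3,2,1,0,5,6,7,8,9,5,10,11,5,4,3,2,1,0,5,6,7,8,9,5,10,11,5,4,3,2,1,0,5,6,7,8,9,5,10,11,5,4,3,2,1,0,5,6,7,8,9,5,10,11,5,4,3,2,1,0,5,6,7,8,9,5,10,11,5,4,3,2,1,0,5,6,7,8,9,5,10,11,5,4,3,2,1,0,5,6,7,8,9,5,10,11,5,4,3,2,1,0,5,6,7,8,9,5,10,11,5,4,3,2,1,0,5,6,7,8,9,5,10,11,5,4,3,2,1,0,5,6,7,8,9,5,10,11,5,4,3,2,1,0,5,6,7,8,9,5,10,11,5,4,3,2,1,0,5,6,7,8,9,5,10,11,5,4,3,2,1,0,5,6,7,8,9,5,10,11,5,4,3,2,1,0,5,6,7,8,9,5,10,11,5,4,3,2,1,0,5,6,7,8,9,5,10,11,5,4,3,2,1,0,5,6,7,8,9,5,10])))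
 (Tr.node (Tr.node (Tr.leaf [3,9,3,9])
 (Tr.leaf [11,5,4,3,2,1,0,5,6,7,8,9,5,10,11,5,4,3,2,1,0,5,6,7,8,9,5,10,11,5,4,3,2,1,0,5,6,7,8,9,5,10,11,5,4,3,2,1,0,5,6,7,8,9,5,10,11,5,4,3,2,1,0,5,6,7,8,9,5,10,11,5,4,3,2,1,0,5,6,7,8,9,5,10,11,5,4,3,2,1,0,5,6,7,8,9,5,10,11,5,4,3,2,1,0,5,6,7,8,9,5,10,11,5,4,3,2,1,0,5,6,7,8,9,5,10,11,5,4,3,2,1,0,5,6,7,8,9,5,10,11,5,4,3,2,1,0,5,6,7,8,9,5,10,11,5,4,3,2,1,0,5,6,7,8,9,5,10,11,5,4,3,2,1,0,5,6,7,8,9,5,10,11,5,4,3,2,1,0,5,6,7,8,9,5,10,11,5,4,3,2,1,0,5,6,7,8,9,5,10,11,5,4,3,2,1,0,5,6,7,8,9,5,10,11,5,4,3,2,1,0,5,6,7,8,9,5,10]))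
 (Tr.node (Tr.leaf [4,3,2,10,7,6,5,4,3,2,10,7,6,5,4,3,2,10,7,6,5,4,3,2,10,7,6,5,4,3,2,0,10,7,6,5,4,3,2,10,7,6,5,4,3,2,10,7,6,5,4,3,2,10,7,6,5,4,3,2,10,7,6,5])
 (Tr.leaf [11,5,4,3,2,1,0,5,6,7,8,9,5,10,11,5,4,3,2,1,0,5,6,7,8,9,5,10,11,5,4,3,2,1,0,5,6,7,8,9,5,10,11,5,4,3,2,1,0,5,6,7,8,9,5,10,11,5,4,3,2,1,0,5,6,7,8,9,5,10,11,5,4,3,2,1,0,5,6,7,8,9,5,10,11,5,4,3,2,1,0,5,6,7,8,9,5,10,11,5,4,3,2,1,0,5,6,7,8,9,5,10,11,5,4,3,2,1,0,5,6,7,8,9,5,10,11,5,4,3,2,1,0,5,6,7,8,9,5,10,11,5,4,3,2,1,0,5,6,7,8,9,5,10,11,5,4,3,2,1,0,5,6,7,8,9,5,10,11,5,4,3,2,1,0,5,6,7,8,9,5,10,11,5,4,3,2,1,0,5,6,7,8,9,5,10,11,5,4,3,2,1,0,5,6,7,8,9,5,10,11,5,4,3,2,1,0,5,6,7,8,9,5,10,11,5,4,3,2,1,0,5,6,7,8,9,5,10]))))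
 (Tr.node (Tr.node (Tr.node (Tr.leaf [1,10,1,10])
 (Tr.leaf [11,5,4,3,2,1,0,5,6,7,8,9,5,10,11,5,4,3,2,1,0,5,6,7,8,9,5,10,11,5,4,3,2,1,0,5,6,7,8,9,5,10,11,5,4,3,2,1,0,5,6,7,8,9,5,10,11,5,4,3,2,1,0,5,6,7,8,9,5,10,11,5,4,3,2,1,0,5,6,7,8,9,5,10,11,5,4,3,2,1,0,5,6,7,8,9,5,10,11,5,4,3,2,1,0,5,6,7,8,9,5,10,11,5,4,3,2,1,0,5,6,7,8,9,5,10,11,5,4,3,2,1,0,5,6,7,8,9,5,10,11,5,4,3,2,1,0,5,6,7,8,9,5,10,11,5,4,3,2,1,0,5,6,7,8,9,5,10,11,5,4,3,2,1,0,5,6,7,8,9,5,10,11,5,4,3,2,1,0,5,6,7,8,9,5,10,11,5,4,3,2,1,0,5,6,7,8,9,5,10,11,5,4,3,2,1,0,5,6,7,8,9,5,10,11,5,4,3,2,1,0,5,6,7,8,9,5,10]))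
 (Tr.node (Tr.leaf [6,5,4,3,2,10,7,6,5,4,3,2,10,7,6,5,4,3,2,10,7,6,5,4,3,2,10,7,6,5,4,3,2,10,7,6,5,4,3,2,10,7,6,5,4,3,2,0,10,7,6,5,4,3,2,10,7,6,5,4,3,2,10,7])
 (Tr.leaf [11,5,4,3,2,1,0,5,6,7,8,9,5,10,11,5,4,3,2,1,0,5,6,7,8,9,5,10,11,5,4,3,2,1,0,5,6,7,8,9,5,10,11,5,4,3,2,1,0,5,6,7,8,9,5,10,11,5,4,3,2,1,0,5,6,7,8,9,5,10,11,5,4,3,2,1,0,5,6,7,8,9,5,10,11,5,4,3,2,1,0,5,6,7,8,9,5,10,11,5,4,3,2,1,0,5,6,7,8,9,5,10,11,5,4,3,2,1,0,5,6,7,8,9,5,10,11,5,4,3,2,1,0,5,6,7,8,9,5,10,11,5,4,3,2,1,0,5,6,7,8,9,5,10,11,5,4,3,2,1,0,5,6,7,8,9,5,10,11,5,4,3,2,1,0,5,6,7,8,9,5,10,11,5,4,3,2,1,0,5,6,7,8,9,5,10,11,5,4,3,2,1,0,5,6,7,8,9,5,10,11,5,4,3,2,1,0,5,6,7,8,9,5,10,11,5,4,3,2,1,0,5,6,7,8,9,5,10])))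
 (Tr.node (Tr.node (Tr.leaf [6,7,6,7,6,7])
 (Tr.leaf [11,5,4,3,2,1,0,5,6,7,8,9,5,10,11,5,4,3,2,1,0,5,6,7,8,9,5,10,11,5,4,3,2,1,0,5,6,7,8,9,5,10,11,5,4,3,2,1,0,5,6,7,8,9,5,10,11,5,4,3,2,1,0,5,6,7,8,9,5,10,11,5,4,3,2,1,0,5,6,7,8,9,5,10,11,5,4,3,2,1,0,5,6,7,8,9,5,10,11,5,4,3,2,1,0,5,6,7,8,9,5,10,11,5,4,3,2,1,0,5,6,7,8,9,5,10,11,5,4,3,2,1,0,5,6,7,8,9,5,10,11,5,4,3,2,1,0,5,6,7,8,9,5,10,11,5,4,3,2,1,0,5,6,7,8,9,5,10,11,5,4,3,2,1,0,5,6,7,8,9,5,10,11,5,4,3,2,1,0,5,6,7,8,9,5,10,11,5,4,3,2,1,0,5,6,7,8,9,5,10,11,5,4,3,2,1,0,5,6,7,8,9,5,10,11,5,4,3,2,1,0,5,6,7,8,9,5,10]))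
 (Tr.node (Tr.leaf [2,10,7,6,5,4,3,2,10,7,6,5,4,3,2,0,10,7,6,5,4,3,2,10,7,6,5,4,3,2,10,7,6,5,4,3,2,10,7,6,5,4,3,2,10,7,6,5,4,3,2,10,7,6,5,4,3,2,10,7,6,5,4,3])
 (Tr.leaf [11,5,4,3,2,1,0,5,6,7,8,9,5,10,11,5,4,3,2,1,0,5,6,7,8,9,5,10,11,5,4,3,2,1,0,5,6,7,8,9,5,10,11,5,4,3,2,1,0,5,6,7,8,9,5,10,11,5,4,3,2,1,0,5,6,7,8,9,5,10,11,5,4,3,2,1,0,5,6,7,8,9,5,10,11,5,4,3,2,1,0,5,6,7,8,9,5,10,11,5,4,3,2,1,0,5,6,7,8,9,5,10,11,5,4,3,2,1,0,5,6,7,8,9,5,10,11,5,4,3,2,1,0,5,6,7,8,9,5,10,11,5,4,3,2,1,0,5,6,7,8,9,5,10,11,5,4,3,2,1,0,5,6,7,8,9,5,10,11,5,4,3,2,1,0,5,6,7,8,9,5,10,11,5,4,3,2,1,0,5,6,7,8,9,5,10,11,5,4,3,2,1,0,5,6,7,8,9,5,10,11,5,4,3,2,1,0,5,6,7,8,9,5,10,11,5,4,3,2,1,0,5,6,7,8,9,5,10]))))))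
 (Tr.node (Tr.node (Tr.node (Tr.node (Tr.node (Tr.leaf [11,11])
 (Tr.leaf [4,3,2,0,10,7,6,5,4,3,2,10,7,6,5,4,3,2,10,7,6,5,4,3,2,10,7,6,5,4,3,2,10,7,6,5,4,3,2,10,7,6,5,4,3,2,10,7,6,5,4,3,2,10,7,6,5,4,3,2,10,7,6,5]))
 (Tr.node (Tr.leaf [9,10,9,10])
 (Tr.leaf [11,5,4,3,2,1,0,5,6,7,8,9,5,10,11,5,4,3,2,1,0,5,6,7,8,9,5,10,11,5,4,3,2,1,0,5,6,7,8,9,5,10,11,5,4,3,2,1,0,5,6,7,8,9,5,10,11,5,4,3,2,1,0,5,6,7,8,9,5,10,11,5,4,3,2,1,0,5,6,7,8,9,5,10,11,5,4,3,2,1,0,5,6,7,8,9,5,10,11,5,4,3,2,1,0,5,6,7,8,9,5,10,11,5,4,3,2,1,0,5,6,7,8,9,5,10,11,5,4,3,2,1,0,5,6,7,8,9,5,10,11,5,4,3,2,1,0,5,6,7,8,9,5,10,11,5,4,3,2,1,0,5,6,7,8,9,5,10,11,5,4,3,2,1,0,5,6,7,8,9,5,10,11,5,4,3,2,1,0,5,6,7,8,9,5,10,11,5,4,3,2,1,0,5,6,7,8,9,5,10,11,5,4,3,2,1,0,5,6,7,8,9,5,10,11,5,4,3,2,1,0,5,6,7,8,9,5,10])))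
 (Tr.node (Tr.node (Tr.leaf [3,5,3,5])
 (Tr.leaf [11,5,4,3,2,1,0,5,6,7,8,9,5,10,11,5,4,3,2,1,0,5,6,7,8,9,5,10,11,5,4,3,2,1,0,5,6,7,8,9,5,10,11,5,4,3,2,1,0,5,6,7,8,9,5,10,11,5,4,3,2,1,0,5,6,7,8,9,5,10,11,5,4,3,2,1,0,5,6,7,8,9,5,10,11,5,4,3,2,1,0,5,6,7,8,9,5,10,11,5,4,3,2,1,0,5,6,7,8,9,5,10,11,5,4,3,2,1,0,5,6,7,8,9,5,10,11,5,4,3,2,1,0,5,6,7,8,9,5,10,11,5,4,3,2,1,0,5,6,7,8,9,5,10,11,5,4,3,2,1,0,5,6,7,8,9,5,10,11,5,4,3,2,1,0,5,6,7,8,9,5,10,11,5,4,3,2,1,0,5,6,7,8,9,5,10,11,5,4,3,2,1,0,5,6,7,8,9,5,10,11,5,4,3,2,1,0,5,6,7,8,9,5,10,11,5,4,3,2,1,0,5,6,7,8,9,5,10]))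
 (Tr.node (Tr.leaf [10,7,6,5,4,3,2,10,7,6,5,4,3,2,10,7,6,5,4,3,2,10,7,6,5,4,3,2,10,7,6,5,4,3,2,0,10,7,6,5,4,3,2,10,7,6,5,4,3,2,10,7,6,5,4,3,2,10,7,6,5,4,3,2])
 (Tr.leaf [11,5,4,3,2,1,0,5,6,7,8,9,5,10,11,5,4,3,2,1,0,5,6,7,8,9,5,10,11,5,4,3,2,1,0,5,6,7,8,9,5,10,11,5,4,3,2,1,0,5,6,7,8,9,5,10,11,5,4,3,2,1,0,5,6,7,8,9,5,10,11,5,4,3,2,1,0,5,6,7,8,9,5,10,11,5,4,3,2,1,0,5,6,7,8,9,5,10,11,5,4,3,2,1,0,5,6,7,8,9,5,10,11,5,4,3,2,1,0,5,6,7,8,9,5,10,11,5,4,3,2,1,0,5,6,7,8,9,5,10,11,5,4,3,2,1,0,5,6,7,8,9,5,10,11,5,4,3,2,1,0,5,6,7,8,9,5,10,11,5,4,3,2,1,0,5,6,7,8,9,5,10,11,5,4,3,2,1,0,5,6,7,8,9,5,10,11,5,4,3,2,1,0,5,6,7,8,9,5,10,11,5,4,3,2,1,0,5,6,7,8,9,5,10,11,5,4,3,2,1,0,5,6,7,8,9,5,10]))))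
 (Tr.node (Tr.node (Tr.node (Tr.leaf [1,6,1,6])
 (Tr.leaf [11,5,4,3,2,1,0,5,6,7,8,9,5,10,11,5,4,3,2,1,0,5,6,7,8,9,5,10,11,5,4,3,2,1,0,5,6,7,8,9,5,10,11,5,4,3,2,1,0,5,6,7,8,9,5,10,11,5,4,3,2,1,0,5,6,7,8,9,5,10,11,5,4,3,2,1,0,5,6,7,8,9,5,10,11,5,4,3,2,1,0,5,6,7,8,9,5,10,11,5,4,3,2,1,0,5,6,7,8,9,5,10,11,5,4,3,2,1,0,5,6,7,8,9,5,10,11,5,4,3,2,1,0,5,6,7,8,9,5,10,11,5,4,3,2,1,0,5,6,7,8,9,5,10,11,5,4,3,2,1,0,5,6,7,8,9,5,10,11,5,4,3,2,1,0,5,6,7,8,9,5,10,11,5,4,3,2,1,0,5,6,7,8,9,5,10,11,5,4,3,2,1,0,5,6,7,8,9,5,10,11,5,4,3,2,1,0,5,6,7,8,9,5,10,11,5,4,3,2,1,0,5,6,7,8,9,5,10]))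
 (Tr.node (Tr.leaf [3,2,10,7,6,5,4,3,2,10,7,6,5,4,3,2,10,7,6,5,4,3,2,10,7,6,5,4,3,2,10,7,6,5,4,3,2,10,7,6,5,4,3,2,10,7,6,5,4,3,2,0,10,7,6,5,4,3,2,10,7,6,5,4])
 (Tr.leaf [11,5,4,3,2,1,0,5,6,7,8,9,5,10,11,5,4,3,2,1,0,5,6,7,8,9,5,10,11,5,4,3,2,1,0,5,6,7,8,9,5,10,11,5,4,3,2,1,0,5,6,7,8,9,5,10,11,5,4,3,2,1,0,5,6,7,8,9,5,10,11,5,4,3,2,1,0,5,6,7,8,9,5,10,11,5,4,3,2,1,0,5,6,7,8,9,5,10,11,5,4,3,2,1,0,5,6,7,8,9,5,10,11,5,4,3,2,1,0,5,6,7,8,9,5,10,11,5,4,3,2,1,0,5,6,7,8,9,5,10,11,5,4,3,2,1,0,5,6,7,8,9,5,10,11,5,4,3,2,1,0,5,6,7,8,9,5,10,11,5,4,3,2,1,0,5,6,7,8,9,5,10,11,5,4,3,2,1,0,5,6,7,8,9,5,10,11,5,4,3,2,1,0,5,6,7,8,9,5,10,11,5,4,3,2,1,0,5,6,7,8,9,5,10,11,5,4,3,2,1,0,5,6,7,8,9,5,10])))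
 (Tr.node (Tr.node (Tr.leaf [5,8,5,8])
 (Tr.leaf [11,5,4,3,2,1,0,5,6,7,8,9,5,10,11,5,4,3,2,1,0,5,6,7,8,9,5,10,11,5,4,3,2,1,0,5,6,7,8,9,5,10,11,5,4,3,2,1,0,5,6,7,8,9,5,10,11,5,4,3,2,1,0,5,6,7,8,9,5,10,11,5,4,3,2,1,0,5,6,7,8,9,5,10,11,5,4,3,2,1,0,5,6,7,8,9,5,10,11,5,4,3,2,1,0,5,6,7,8,9,5,10,11,5,4,3,2,1,0,5,6,7,8,9,5,10,11,5,4,3,2,1,0,5,6,7,8,9,5,10,11,5,4,3,2,1,0,5,6,7,8,9,5,10,11,5,4,3,2,1,0,5,6,7,8,9,5,10,11,5,4,3,2,1,0,5,6,7,8,9,5,10,11,5,4,3,2,1,0,5,6,7,8,9,5,10,11,5,4,3,2,1,0,5,6,7,8,9,5,10,11,5,4,3,2,1,0,5,6,7,8,9,5,10,11,5,4,3,2,1,0,5,6,7,8,9,5,10]))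
 (Tr.node (Tr.leaf [6,5,4,3,2,10,7,6,5,4,3,2,10,7,6,5,4,3,2,0,10,7,6,5,4,3,2,10,7,6,5,4,3,2,10,7,6,5,4,3,2,10,7,6,5,4,3,2,10,7,6,5,4,3,2,10,7,6,5,4,3,2,10,7])
 (Tr.leaf [11,5,4,3,2,1,0,5,6,7,8,9,5,10,11,5,4,3,2,1,0,5,6,7,8,9,5,10,11,5,4,3,2,1,0,5,6,7,8,9,5,10,11,5,4,3,2,1,0,5,6,7,8,9,5,10,11,5,4,3,2,1,0,5,6,7,8,9,5,10,11,5,4,3,2,1,0,5,6,7,8,9,5,10,11,5,4,3,2,1,0,5,6,7,8,9,5,10,11,5,4,3,2,1,0,5,6,7,8,9,5,10,11,5,4,3,2,1,0,5,6,7,8,9,5,10,11,5,4,3,2,1,0,5,6,7,8,9,5,10,11,5,4,3,2,1,0,5,6,7,8,9,5,10,11,5,4,3,2,1,0,5,6,7,8,9,5,10,11,5,4,3,2,1,0,5,6,7,8,9,5,10,11,5,4,3,2,1,0,5,6,7,8,9,5,10,11,5,4,3,2,1,0,5,6,7,8,9,5,10,11,5,4,3,2,1,0,5,6,7,8,9,5,10,11,5,4,3,2,1,0,5,6,7,8,9,5,10])))))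
 (Tr.node (Tr.node (Tr.node (Tr.node (Tr.leaf [0,8,0,8])
 (Tr.leaf [0,5,6,7,8,9,5,10,11,5,4,3,2,1,0,5,6,7,8,9,5,10,11,5,4,3,2,1,0,5,6,7,8,9,5,10,11,5,4,3,2,1,0,5,6,7,8,9,5,10,11,5,4,3,2,1,0,5,6,7,8,9,5,10,11,5,4,3,2,1,0,5,6,7,8,9,5,10,11,5,4,3,2,1,0,5,6,7,8,9,5,10,11,5,4,3,2,1,0,5,6,7,8,9,5,10,11,5,4,3,2,1,0,5,6,7,8,9,5,10,11,5,4,3,2,1,0,5,6,7,8,9,5,10,11,5,4,3,2,1,0,5,6,7,8,9,5,10,11,5,4,3,2,1,0,5,6,7,8,9,5,10,11,5,4,3,2,1,0,5,6,7,8,9,5,10,11,5,4,3,2,1,0,5,6,7,8,9,5,10,11,5,4,3,2,1,0,5,6,7,8,9,5,10,11,5,4,3,2,1,0,5,6,7,8,9,5,10,11,5,4,3,2,1,0,5,6,7,8,9,5,10,11,5,4,3,2,1]))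
 (Tr.node (Tr.leaf [4,3,2,10,7,6,5,4,3,2,10,7,6,5,4,3,2,10,7,6,5,4,3,2,10,7,6,5,4,3,2,10,7,6,5,4,3,2,10,7,6,5,4,3,2,10,7,6,5,4,3,2,10,7,6,5,4,3,2,0,10,7,6,5])
 (Tr.leaf [11,5,4,3,2,1,0,5,6,7,8,9,5,10,11,5,4,3,2,1,0,5,6,7,8,9,5,10,11,5,4,3,2,1,0,5,6,7,8,9,5,10,11,5,4,3,2,1,0,5,6,7,8,9,5,10,11,5,4,3,2,1,0,5,6,7,8,9,5,10,11,5,4,3,2,1,0,5,6,7,8,9,5,10,11,5,4,3,2,1,0,5,6,7,8,9,5,10,11,5,4,3,2,1,0,5,6,7,8,9,5,10,11,5,4,3,2,1,0,5,6,7,8,9,5,10,11,5,4,3,2,1,0,5,6,7,8,9,5,10,11,5,4,3,2,1,0,5,6,7,8,9,5,10,11,5,4,3,2,1,0,5,6,7,8,9,5,10,11,5,4,3,2,1,0,5,6,7,8,9,5,10,11,5,4,3,2,1,0,5,6,7,8,9,5,10,11,5,4,3,2,1,0,5,6,7,8,9,5,10,11,5,4,3,2,1,0,5,6,7,8,9,5,10,11,5,4,3,2,1,0,5,6,7,8,9,5,10])))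
 (Tr.node (Tr.node (Tr.leaf [4,6,4,6])
 (Tr.leaf [11,5,4,3,2,1,0,5,6,7,8,9,5,10,11,5,4,3,2,1,0,5,6,7,8,9,5,10,11,5,4,3,2,1,0,5,6,7,8,9,5,10,11,5,4,3,2,1,0,5,6,7,8,9,5,10,11,5,4,3,2,1,0,5,6,7,8,9,5,10,11,5,4,3,2,1,0,5,6,7,8,9,5,10,11,5,4,3,2,1,0,5,6,7,8,9,5,10,11,5,4,3,2,1,0,5,6,7,8,9,5,10,11,5,4,3,2,1,0,5,6,7,8,9,5,10,11,5,4,3,2,1,0,5,6,7,8,9,5,10,11,5,4,3,2,1,0,5,6,7,8,9,5,10,11,5,4,3,2,1,0,5,6,7,8,9,5,10,11,5,4,3,2,1,0,5,6,7,8,9,5,10,11,5,4,3,2,1,0,5,6,7,8,9,5,10,11,5,4,3,2,1,0,5,6,7,8,9,5,10,11,5,4,3,2,1,0,5,6,7,8,9,5,10,11,5,4,3,2,1,0,5,6,7,8,9,5,10]))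
 (Tr.node (Tr.leaf [7,6,5,4,3,2,10,7,6,5,4,3,2,10,7,6,5,4,3,2,10,7,6,5,4,3,2,0,10,7,6,5,4,3,2,10,7,6,5,4,3,2,10,7,6,5,4,3,2,10,7,6,5,4,3,2,10,7,6,5,4,3,2,10])
 (Tr.leaf [11,5,4,3,2,1,0,5,6,7,8,9,5,10,11,5,4,3,2,1,0,5,6,7,8,9,5,10,11,5,4,3,2,1,0,5,6,7,8,9,5,10,11,5,4,3,2,1,0,5,6,7,8,9,5,10,11,5,4,3,2,1,0,5,6,7,8,9,5,10,11,5,4,3,2,1,0,5,6,7,8,9,5,10,11,5,4,3,2,1,0,5,6,7,8,9,5,10,11,5,4,3,2,1,0,5,6,7,8,9,5,10,11,5,4,3,2,1,0,5,6,7,8,9,5,10,11,5,4,3,2,1,0,5,6,7,8,9,5,10,11,5,4,3,2,1,0,5,6,7,8,9,5,10,11,5,4,3,2,1,0,5,6,7,8,9,5,10,11,5,4,3,2,1,0,5,6,7,8,9,5,10,11,5,4,3,2,1,0,5,6,7,8,9,5,10,11,5,4,3,2,1,0,5,6,7,8,9,5,10,11,5,4,3,2,1,0,5,6,7,8,9,5,10,11,5,4,3,2,1,0,5,6,7,8,9,5,10]))))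
 (Tr.node (Tr.node (Tr.node (Tr.leaf [2,5,2,5])
 (Tr.leaf [11,5,4,3,2,1,0,5,6,7,8,9,5,10,11,5,4,3,2,1,0,5,6,7,8,9,5,10,11,5,4,3,2,1,0,5,6,7,8,9,5,10,11,5,4,3,2,1,0,5,6,7,8,9,5,10,11,5,4,3,2,1,0,5,6,7,8,9,5,10,11,5,4,3,2,1,0,5,6,7,8,9,5,10,11,5,4,3,2,1,0,5,6,7,8,9,5,10,11,5,4,3,2,1,0,5,6,7,8,9,5,10,11,5,4,3,2,1,0,5,6,7,8,9,5,10,11,5,4,3,2,1,0,5,6,7,8,9,5,10,11,5,4,3,2,1,0,5,6,7,8,9,5,10,11,5,4,3,2,1,0,5,6,7,8,9,5,10,11,5,4,3,2,1,0,5,6,7,8,9,5,10,11,5,4,3,2,1,0,5,6,7,8,9,5,10,11,5,4,3,2,1,0,5,6,7,8,9,5,10,11,5,4,3,2,1,0,5,6,7,8,9,5,10,11,5,4,3,2,1,0,5,6,7,8,9,5,10]))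
 (Tr.node (Tr.leaf [2,10,7,6,5,4,3,2,10,7,6,5,4,3,2,10,7,6,5,4,3,2,10,7,6,5,4,3,2,10,7,6,5,4,3,2,10,7,6,5,4,3,2,0,10,7,6,5,4,3,2,10,7,6,5,4,3,2,10,7,6,5,4,3])
 (Tr.leaf [11,5,4,3,2,1,0,5,6,7,8,9,5,10,11,5,4,3,2,1,0,5,6,7,8,9,5,10,11,5,4,3,2,1,0,5,6,7,8,9,5,10,11,5,4,3,2,1,0,5,6,7,8,9,5,10,11,5,4,3,2,1,0,5,6,7,8,9,5,10,11,5,4,3,2,1,0,5,6,7,8,9,5,10,11,5,4,3,2,1,0,5,6,7,8,9,5,10,11,5,4,3,2,1,0,5,6,7,8,9,5,10,11,5,4,3,2,1,0,5,6,7,8,9,5,10,11,5,4,3,2,1,0,5,6,7,8,9,5,10,11,5,4,3,2,1,0,5,6,7,8,9,5,10,11,5,4,3,2,1,0,5,6,7,8,9,5,10,11,5,4,3,2,1,0,5,6,7,8,9,5,10,11,5,4,3,2,1,0,5,6,7,8,9,5,10,11,5,4,3,2,1,0,5,6,7,8,9,5,10,11,5,4,3,2,1,0,5,6,7,8,9,5,10,11,5,4,3,2,1,0,5,6,7,8,9,5,10])))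
 (Tr.node (Tr.node (Tr.leaf [6,11,6,11])
 (Tr.leaf [11,5,4,3,2,1,0,5,6,7,8,9,5,10,11,5,4,3,2,1,0,5,6,7,8,9,5,10,11,5,4,3,2,1,0,5,6,7,8,9,5,10,11,5,4,3,2,1,0,5,6,7,8,9,5,10,11,5,4,3,2,1,0,5,6,7,8,9,5,10,11,5,4,3,2,1,0,5,6,7,8,9,5,10,11,5,4,3,2,1,0,5,6,7,8,9,5,10,11,5,4,3,2,1,0,5,6,7,8,9,5,10,11,5,4,3,2,1,0,5,6,7,8,9,5,10,11,5,4,3,2,1,0,5,6,7,8,9,5,10,11,5,4,3,2,1,0,5,6,7,8,9,5,10,11,5,4,3,2,1,0,5,6,7,8,9,5,10,11,5,4,3,2,1,0,5,6,7,8,9,5,10,11,5,4,3,2,1,0,5,6,7,8,9,5,10,11,5,4,3,2,1,0,5,6,7,8,9,5,10,11,5,4,3,2,1,0,5,6,7,8,9,5,10,11,5,4,3,2,1,0,5,6,7,8,9,5,10]))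
 (Tr.node (Tr.leaf [5,4,3,2,10,7,6,5,4,3,2,0,10,7,6,5,4,3,2,10,7,6,5,4,3,2,10,7,6,5,4,3,2,10,7,6,5,4,3,2,10,7,6,5,4,3,2,10,7,6,5,4,3,2,10,7,6,5,4,3,2,10,7,6])
 (Tr.leaf [11,5,4,3,2,1,0,5,6,7,8,9,5,10,11,5,4,3,2,1,0,5,6,7,8,9,5,10,11,5,4,3,2,1,0,5,6,7,8,9,5,10,11,5,4,3,2,1,0,5,6,7,8,9,5,10,11,5,4,3,2,1,0,5,6,7,8,9,5,10,11,5,4,3,2,1,0,5,6,7,8,9,5,10,11,5,4,3,2,1,0,5,6,7,8,9,5,10,11,5,4,3,2,1,0,5,6,7,8,9,5,10,11,5,4,3,2,1,0,5,6,7,8,9,5,10,11,5,4,3,2,1,0,5,6,7,8,9,5,10,11,5,4,3,2,1,0,5,6,7,8,9,5,10,11,5,4,3,2,1,0,5,6,7,8,9,5,10,11,5,4,3,2,1,0,5,6,7,8,9,5,10,11,5,4,3,2,1,0,5,6,7,8,9,5,10,11,5,4,3,2,1,0,5,6,7,8,9,5,10,11,5,4,3,2,1,0,5,6,7,8,9,5,10,11,5,4,3,2,1,0,5,6,7,8,9,5,10]))))))))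
 (Tr.node (Tr.node (Tr.node (Tr.node (Tr.node (Tr.node (Tr.node (Tr.leaf [1,1])
 (Tr.leaf [2,10,7,6,5,4,3,2,0,10,7,6,5,4,3,2,10,7,6,5,4,3,2,10,7,6,5,4,3,2,10,7,6,5,4,3,2,10,7,6,5,4,3,2,10,7,6,5,4,3,2,10,7,6,5,4,3,2,10,7,6,5,4,3]))
 (Tr.node (Tr.leaf [7,10,7,10])
 (Tr.leaf [11,5,4,3,2,1,0,5,6,7,8,9,5,10,11,5,4,3,2,1,0,5,6,7,8,9,5,10,11,5,4,3,2,1,0,5,6,7,8,9,5,10,11,5,4,3,2,1,0,5,6,7,8,9,5,10,11,5,4,3,2,1,0,5,6,7,8,9,5,10,11,5,4,3,2,1,0,5,6,7,8,9,5,10,11,5,4,3,2,1,0,5,6,7,8,9,5,10,11,5,4,3,2,1,0,5,6,7,8,9,5,10,11,5,4,3,2,1,0,5,6,7,8,9,5,10,11,5,4,3,2,1,0,5,6,7,8,9,5,10,11,5,4,3,2,1,0,5,6,7,8,9,5,10,11,5,4,3,2,1,0,5,6,7,8,9,5,10,11,5,4,3,2,1,0,5,6,7,8,9,5,10,11,5,4,3,2,1,0,5,6,7,8,9,5,10,11,5,4,3,2,1,0,5,6,7,8,9,5,10,11,5,4,3,2,1,0,5,6,7,8,9,5,10,11,5,4,3,2,1,0,5,6,7,8,9,5,10])))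
 (Tr.node (Tr.node (Tr.leaf [2,8,2,8])
 (Tr.leaf [11,5,4,3,2,1,0,5,6,7,8,9,5,10,11,5,4,3,2,1,0,5,6,7,8,9,5,10,11,5,4,3,2,1,0,5,6,7,8,9,5,10,11,5,4,3,2,1,0,5,6,7,8,9,5,10,11,5,4,3,2,1,0,5,6,7,8,9,5,10,11,5,4,3,2,1,0,5,6,7,8,9,5,10,11,5,4,3,2,1,0,5,6,7,8,9,5,10,11,5,4,3,2,1,0,5,6,7,8,9,5,10,11,5,4,3,2,1,0,5,6,7,8,9,5,10,11,5,4,3,2,1,0,5,6,7,8,9,5,10,11,5,4,3,2,1,0,5,6,7,8,9,5,10,11,5,4,3,2,1,0,5,6,7,8,9,5,10,11,5,4,3,2,1,0,5,6,7,8,9,5,10,11,5,4,3,2,1,0,5,6,7,8,9,5,10,11,5,4,3,2,1,0,5,6,7,8,9,5,10,11,5,4,3,2,1,0,5,6,7,8,9,5,10,11,5,4,3,2,1,0,5,6,7,8,9,5,10]))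
 (Tr.node (Tr.leaf [6,5,4,3,2,10,7,6,5,4,3,2,10,7,6,5,4,3,2,10,7,6,5,4,3,2,10,7,6,5,4,3,2,10,7,6,5,4,3,2,0,10,7,6,5,4,3,2,10,7,6,5,4,3,2,10,7,6,5,4,3,2,10,7])
 (Tr.leaf [11,5,4,3,2,1,0,5,6,7,8,9,5,10,11,5,4,3,2,1,0,5,6,7,8,9,5,10,11,5,4,3,2,1,0,5,6,7,8,9,5,10,11,5,4,3,2,1,0,5,6,7,8,9,5,10,11,5,4,3,2,1,0,5,6,7,8,9,5,10,11,5,4,3,2,1,0,5,6,7,8,9,5,10,11,5,4,3,2,1,0,5,6,7,8,9,5,10,11,5,4,3,2,1,0,5,6,7,8,9,5,10,11,5,4,3,2,1,0,5,6,7,8,9,5,10,11,5,4,3,2,1,0,5,6,7,8,9,5,10,11,5,4,3,2,1,0,5,6,7,8,9,5,10,11,5,4,3,2,1,0,5,6,7,8,9,5,10,11,5,4,3,2,1,0,5,6,7,8,9,5,10,11,5,4,3,2,1,0,5,6,7,8,9,5,10,11,5,4,3,2,1,0,5,6,7,8,9,5,10,11,5,4,3,2,1,0,5,6,7,8,9,5,10,11,5,4,3,2,1,0,5,6,7,8,9,5,10]))))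
 (Tr.node (Tr.node (Tr.node (Tr.leaf [0,11,0,11])
 (Tr.leaf [7,8,9,5,10,11,5,4,3,2,1,0,5,6,7,8,9,5,10,11,5,4,3,2,1,0,5,6,7,8,9,5,10,11,5,4,3,2,1,0,5,6,7,8,9,5,10,11,5,4,3,2,1,0,5,6,7,8,9,5,10,11,5,4,3,2,1,0,5,6,7,8,9,5,10,11,5,4,3,2,1,0,5,6,7,8,9,5,10,11,5,4,3,2,1,0,5,6,7,8,9,5,10,11,5,4,3,2,1,0,5,6,7,8,9,5,10,11,5,4,3,2,1,0,5,6,7,8,9,5,10,11,5,4,3,2,1,0,5,6,7,8,9,5,10,11,5,4,3,2,1,0,5,6,7,8,9,5,10,11,5,4,3,2,1,0,5,6,7,8,9,5,10,11,5,4,3,2,1,0,5,6,7,8,9,5,10,11,5,4,3,2,1,0,5,6,7,8,9,5,10,11,5,4,3,2,1,0,5,6,7,8,9,5,10,11,5,4,3,2,1,0,5,6,7,8,9,5,10,11,5,4,3,2,1,0,5,6]))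
 (Tr.node (Tr.leaf [10,7,6,5,4,3,2,10,7,6,5,4,3,2,10,7,6,5,4,3,2,10,7,6,5,4,3,2,10,7,6,5,4,3,2,10,7,6,5,4,3,2,10,7,6,5,4,3,2,10,7,6,5,4,3,2,0,10,7,6,5,4,3,2])
 (Tr.leaf [11,5,4,3,2,1,0,5,6,7,8,9,5,10,11,5,4,3,2,1,0,5,6,7,8,9,5,10,11,5,4,3,2,1,0,5,6,7,8,9,5,10,11,5,4,3,2,1,0,5,6,7,8,9,5,10,11,5,4,3,2,1,0,5,6,7,8,9,5,10,11,5,4,3,2,1,0,5,6,7,8,9,5,10,11,5,4,3,2,1,0,5,6,7,8,9,5,10,11,5,4,3,2,1,0,5,6,7,8,9,5,10,11,5,4,3,2,1,0,5,6,7,8,9,5,10,11,5,4,3,2,1,0,5,6,7,8,9,5,10,11,5,4,3,2,1,0,5,6,7,8,9,5,10,11,5,4,3,2,1,0,5,6,7,8,9,5,10,11,5,4,3,2,1,0,5,6,7,8,9,5,10,11,5,4,3,2,1,0,5,6,7,8,9,5,10,11,5,4,3,2,1,0,5,6,7,8,9,5,10,11,5,4,3,2,1,0,5,6,7,8,9,5,10,11,5,4,3,2,1,0,5,6,7,8,9,5,10])))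
 (Tr.node (Tr.node (Tr.leaf [4,9,4,9])
 (Tr.leaf [11,5,4,3,2,1,0,5,6,7,8,9,5,10,11,5,4,3,2,1,0,5,6,7,8,9,5,10,11,5,4,3,2,1,0,5,6,7,8,9,5,10,11,5,4,3,2,1,0,5,6,7,8,9,5,10,11,5,4,3,2,1,0,5,6,7,8,9,5,10,11,5,4,3,2,1,0,5,6,7,8,9,5,10,11,5,4,3,2,1,0,5,6,7,8,9,5,10,11,5,4,3,2,1,0,5,6,7,8,9,5,10,11,5,4,3,2,1,0,5,6,7,8,9,5,10,11,5,4,3,2,1,0,5,6,7,8,9,5,10,11,5,4,3,2,1,0,5,6,7,8,9,5,10,11,5,4,3,2,1,0,5,6,7,8,9,5,10,11,5,4,3,2,1,0,5,6,7,8,9,5,10,11,5,4,3,2,1,0,5,6,7,8,9,5,10,11,5,4,3,2,1,0,5,6,7,8,9,5,10,11,5,4,3,2,1,0,5,6,7,8,9,5,10,11,5,4,3,2,1,0,5,6,7,8,9,5,10]))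
 (Tr.node (Tr.leaf [4,3,2,10,7,6,5,4,3,2,10,7,6,5,4,3,2,10,7,6,5,4,3,2,0,10,7,6,5,4,3,2,10,7,6,5,4,3,2,10,7,6,5,4,3,2,10,7,6,5,4,3,2,10,7,6,5,4,3,2,10,7,6,5])
 (Tr.leaf [11,5,4,3,2,1,0,5,6,7,8,9,5,10,11,5,4,3,2,1,0,5,6,7,8,9,5,10,11,5,4,3,2,1,0,5,6,7,8,9,5,10,11,5,4,3,2,1,0,5,6,7,8,9,5,10,11,5,4,3,2,1,0,5,6,7,8,9,5,10,11,5,4,3,2,1,0,5,6,7,8,9,5,10,11,5,4,3,2,1,0,5,6,7,8,9,5,10,11,5,4,3,2,1,0,5,6,7,8,9,5,10,11,5,4,3,2,1,0,5,6,7,8,9,5,10,11,5,4,3,2,1,0,5,6,7,8,9,5,10,11,5,4,3,2,1,0,5,6,7,8,9,5,10,11,5,4,3,2,1,0,5,6,7,8,9,5,10,11,5,4,3,2,1,0,5,6,7,8,9,5,10,11,5,4,3,2,1,0,5,6,7,8,9,5,10,11,5,4,3,2,1,0,5,6,7,8,9,5,10,11,5,4,3,2,1,0,5,6,7,8,9,5,10,11,5,4,3,2,1,0,5,6,7,8,9,5,10])))))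
 (Tr.node (Tr.node (Tr.node (Tr.node (Tr.leaf [0,3,0,3])
 (Tr.leaf [5,4,3,2,1,0,5,6,7,8,9,5,10,11,5,4,3,2,1,0,5,6,7,8,9,5,10,11,5,4,3,2,1,0,5,6,7,8,9,5,10,11,5,4,3,2,1,0,5,6,7,8,9,5,10,11,5,4,3,2,1,0,5,6,7,8,9,5,10,11,5,4,3,2,1,0,5,6,7,8,9,5,10,11,5,4,3,2,1,0,5,6,7,8,9,5,10,11,5,4,3,2,1,0,5,6,7,8,9,5,10,11,5,4,3,2,1,0,5,6,7,8,9,5,10,11,5,4,3,2,1,0,5,6,7,8,9,5,10,11,5,4,3,2,1,0,5,6,7,8,9,5,10,11,5,4,3,2,1,0,5,6,7,8,9,5,10,11,5,4,3,2,1,0,5,6,7,8,9,5,10,11,5,4,3,2,1,0,5,6,7,8,9,5,10,11,5,4,3,2,1,0,5,6,7,8,9,5,10,11,5,4,3,2,1,0,5,6,7,8,9,5,10,11,5,4,3,2,1,0,5,6,7,8,9,5,10,11]))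
 (Tr.node (Tr.leaf [0,10,7,6,5,4,3,2,10,7,6,5,4,3,2,10,7,6,5,4,3,2,10,7,6,5,4,3,2,10,7,6,5,4,3,2,10,7,6,5,4,3,2,10,7,6,5,4,3,2,10,7,6,5,4,3,2,10,7,6,5,4,3,2])
 (Tr.leaf [11,5,4,3,2,1,0,5,6,7,8,9,5,10,11,5,4,3,2,1,0,5,6,7,8,9,5,10,11,5,4,3,2,1,0,5,6,7,8,9,5,10,11,5,4,3,2,1,0,5,6,7,8,9,5,10,11,5,4,3,2,1,0,5,6,7,8,9,5,10,11,5,4,3,2,1,0,5,6,7,8,9,5,10,11,5,4,3,2,1,0,5,6,7,8,9,5,10,11,5,4,3,2,1,0,5,6,7,8,9,5,10,11,5,4,3,2,1,0,5,6,7,8,9,5,10,11,5,4,3,2,1,0,5,6,7,8,9,5,10,11,5,4,3,2,1,0,5,6,7,8,9,5,10,11,5,4,3,2,1,0,5,6,7,8,9,5,10,11,5,4,3,2,1,0,5,6,7,8,9,5,10,11,5,4,3,2,1,0,5,6,7,8,9,5,10,11,5,4,3,2,1,0,5,6,7,8,9,5,10,11,5,4,3,2,1,0,5,6,7,8,9,5,10,11,5,4,3,2,1,0,5,6,7,8,9,5,10])))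
 (Tr.node (Tr.node (Tr.leaf [3,8,3,8])
 (Tr.leaf [11,5,4,3,2,1,0,5,6,7,8,9,5,10,11,5,4,3,2,1,0,5,6,7,8,9,5,10,11,5,4,3,2,1,0,5,6,7,8,9,5,10,11,5,4,3,2,1,0,5,6,7,8,9,5,10,11,5,4,3,2,1,0,5,6,7,8,9,5,10,11,5,4,3,2,1,0,5,6,7,8,9,5,10,11,5,4,3,2,1,0,5,6,7,8,9,5,10,11,5,4,3,2,1,0,5,6,7,8,9,5,10,11,5,4,3,2,1,0,5,6,7,8,9,5,10,11,5,4,3,2,1,0,5,6,7,8,9,5,10,11,5,4,3,2,1,0,5,6,7,8,9,5,10,11,5,4,3,2,1,0,5,6,7,8,9,5,10,11,5,4,3,2,1,0,5,6,7,8,9,5,10,11,5,4,3,2,1,0,5,6,7,8,9,5,10,11,5,4,3,2,1,0,5,6,7,8,9,5,10,11,5,4,3,2,1,0,5,6,7,8,9,5,10,11,5,4,3,2,1,0,5,6,7,8,9,5,10]))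
 (Tr.node (Tr.leaf [5,4,3,2,10,7,6,5,4,3,2,10,7,6,5,4,3,2,10,7,6,5,4,3,2,10,7,6,5,4,3,2,0,10,7,6,5,4,3,2,10,7,6,5,4,3,2,10,7,6,5,4,3,2,10,7,6,5,4,3,2,10,7,6])
 (Tr.leaf [11,5,4,3,2,1,0,5,6,7,8,9,5,10,11,5,4,3,2,1,0,5,6,7,8,9,5,10,11,5,4,3,2,1,0,5,6,7,8,9,5,10,11,5,4,3,2,1,0,5,6,7,8,9,5,10,11,5,4,3,2,1,0,5,6,7,8,9,5,10,11,5,4,3,2,1,0,5,6,7,8,9,5,10,11,5,4,3,2,1,0,5,6,7,8,9,5,10,11,5,4,3,2,1,0,5,6,7,8,9,5,10,11,5,4,3,2,1,0,5,6,7,8,9,5,10,11,5,4,3,2,1,0,5,6,7,8,9,5,10,11,5,4,3,2,1,0,5,6,7,8,9,5,10,11,5,4,3,2,1,0,5,6,7,8,9,5,10,11,5,4,3,2,1,0,5,6,7,8,9,5,10,11,5,4,3,2,1,0,5,6,7,8,9,5,10,11,5,4,3,2,1,0,5,6,7,8,9,5,10,11,5,4,3,2,1,0,5,6,7,8,9,5,10,11,5,4,3,2,1,0,5,6,7,8,9,5,10]))))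
 (Tr.node (Tr.node (Tr.node (Tr.leaf [1,9,1,9])
 (Tr.leaf [11,5,4,3,2,1,0,5,6,7,8,9,5,10,11,5,4,3,2,1,0,5,6,7,8,9,5,10,11,5,4,3,2,1,0,5,6,7,8,9,5,10,11,5,4,3,2,1,0,5,6,7,8,9,5,10,11,5,4,3,2,1,0,5,6,7,8,9,5,10,11,5,4,3,2,1,0,5,6,7,8,9,5,10,11,5,4,3,2,1,0,5,6,7,8,9,5,10,11,5,4,3,2,1,0,5,6,7,8,9,5,10,11,5,4,3,2,1,0,5,6,7,8,9,5,10,11,5,4,3,2,1,0,5,6,7,8,9,5,10,11,5,4,3,2,1,0,5,6,7,8,9,5,10,11,5,4,3,2,1,0,5,6,7,8,9,5,10,11,5,4,3,2,1,0,5,6,7,8,9,5,10,11,5,4,3,2,1,0,5,6,7,8,9,5,10,11,5,4,3,2,1,0,5,6,7,8,9,5,10,11,5,4,3,2,1,0,5,6,7,8,9,5,10,11,5,4,3,2,1,0,5,6,7,8,9,5,10]))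
 (Tr.node (Tr.leaf [7,6,5,4,3,2,10,7,6,5,4,3,2,10,7,6,5,4,3,2,10,7,6,5,4,3,2,10,7,6,5,4,3,2,10,7,6,5,4,3,2,10,7,6,5,4,3,2,0,10,7,6,5,4,3,2,10,7,6,5,4,3,2,10])
 (Tr.leaf [11,5,4,3,2,1,0,5,6,7,8,9,5,10,11,5,4,3,2,1,0,5,6,7,8,9,5,10,11,5,4,3,2,1,0,5,6,7,8,9,5,10,11,5,4,3,2,1,0,5,6,7,8,9,5,10,11,5,4,3,2,1,0,5,6,7,8,9,5,10,11,5,4,3,2,1,0,5,6,7,8,9,5,10,11,5,4,3,2,1,0,5,6,7,8,9,5,10,11,5,4,3,2,1,0,5,6,7,8,9,5,10,11,5,4,3,2,1,0,5,6,7,8,9,5,10,11,5,4,3,2,1,0,5,6,7,8,9,5,10,11,5,4,3,2,1,0,5,6,7,8,9,5,10,11,5,4,3,2,1,0,5,6,7,8,9,5,10,11,5,4,3,2,1,0,5,6,7,8,9,5,10,11,5,4,3,2,1,0,5,6,7,8,9,5,10,11,5,4,3,2,1,0,5,6,7,8,9,5,10,11,5,4,3,2,1,0,5,6,7,8,9,5,10,11,5,4,3,2,1,0,5,6,7,8,9,5,10])))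
 (Tr.node (Tr.node (Tr.leaf [5,11,5,11])
 (Tr.leaf [11,5,4,3,2,1,0,5,6,7,8,9,5,10,11,5,4,3,2,1,0,5,6,7,8,9,5,10,11,5,4,3,2,1,0,5,6,7,8,9,5,10,11,5,4,3,2,1,0,5,6,7,8,9,5,10,11,5,4,3,2,1,0,5,6,7,8,9,5,10,11,5,4,3,2,1,0,5,6,7,8,9,5,10,11,5,4,3,2,1,0,5,6,7,8,9,5,10,11,5,4,3,2,1,0,5,6,7,8,9,5,10,11,5,4,3,2,1,0,5,6,7,8,9,5,10,11,5,4,3,2,1,0,5,6,7,8,9,5,10,11,5,4,3,2,1,0,5,6,7,8,9,5,10,11,5,4,3,2,1,0,5,6,7,8,9,5,10,11,5,4,3,2,1,0,5,6,7,8,9,5,10,11,5,4,3,2,1,0,5,6,7,8,9,5,10,11,5,4,3,2,1,0,5,6,7,8,9,5,10,11,5,4,3,2,1,0,5,6,7,8,9,5,10,11,5,4,3,2,1,0,5,6,7,8,9,5,10]))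
 (Tr.node (Tr.leaf [3,2,10,7,6,5,4,3,2,10,7,6,5,4,3,2,0,10,7,6,5,4,3,2,10,7,6,5,4,3,2,10,7,6,5,4,3,2,10,7,6,5,4,3,2,10,7,6,5,4,3,2,10,7,6,5,4,3,2,10,7,6,5,4])
 (Tr.leaf [11,5,4,3,2,1,0,5,6,7,8,9,5,10,11,5,4,3,2,1,0,5,6,7,8,9,5,10,11,5,4,3,2,1,0,5,6,7,8,9,5,10,11,5,4,3,2,1,0,5,6,7,8,9,5,10,11,5,4,3,2,1,0,5,6,7,8,9,5,10,11,5,4,3,2,1,0,5,6,7,8,9,5,10,11,5,4,3,2,1,0,5,6,7,8,9,5,10,11,5,4,3,2,1,0,5,6,7,8,9,5,10,11,5,4,3,2,1,0,5,6,7,8,9,5,10,11,5,4,3,2,1,0,5,6,7,8,9,5,10,11,5,4,3,2,1,0,5,6,7,8,9,5,10,11,5,4,3,2,1,0,5,6,7,8,9,5,10,11,5,4,3,2,1,0,5,6,7,8,9,5,10,11,5,4,3,2,1,0,5,6,7,8,9,5,10,11,5,4,3,2,1,0,5,6,7,8,9,5,10,11,5,4,3,2,1,0,5,6,7,8,9,5,10,11,5,4,3,2,1,0,5,6,7,8,9,5,10]))))))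
 (Tr.node (Tr.node (Tr.node (Tr.node (Tr.node (Tr.leaf [9,9])
 (Tr.leaf [5,4,3,2,0,10,7,6,5,4,3,2,10,7,6,5,4,3,2,10,7,6,5,4,3,2,10,7,6,5,4,3,2,10,7,6,5,4,3,2,10,7,6,5,4,3,2,10,7,6,5,4,3,2,10,7,6,5,4,3,2,10,7,6]))
 (Tr.node (Tr.leaf [8,11,8,11])
 (Tr.leaf [11,5,4,3,2,1,0,5,6,7,8,9,5,10,11,5,4,3,2,1,0,5,6,7,8,9,5,10,11,5,4,3,2,1,0,5,6,7,8,9,5,10,11,5,4,3,2,1,0,5,6,7,8,9,5,10,11,5,4,3,2,1,0,5,6,7,8,9,5,10,11,5,4,3,2,1,0,5,6,7,8,9,5,10,11,5,4,3,2,1,0,5,6,7,8,9,5,10,11,5,4,3,2,1,0,5,6,7,8,9,5,10,11,5,4,3,2,1,0,5,6,7,8,9,5,10,11,5,4,3,2,1,0,5,6,7,8,9,5,10,11,5,4,3,2,1,0,5,6,7,8,9,5,10,11,5,4,3,2,1,0,5,6,7,8,9,5,10,11,5,4,3,2,1,0,5,6,7,8,9,5,10,11,5,4,3,2,1,0,5,6,7,8,9,5,10,11,5,4,3,2,1,0,5,6,7,8,9,5,10,11,5,4,3,2,1,0,5,6,7,8,9,5,10,11,5,4,3,2,1,0,5,6,7,8,9,5,10])))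
 (Tr.node (Tr.node (Tr.leaf [3,4,3,4,3,4])
 (Tr.leaf [11,5,4,3,2,1,0,5,6,7,8,9,5,10,11,5,4,3,2,1,0,5,6,7,8,9,5,10,11,5,4,3,2,1,0,5,6,7,8,9,5,10,11,5,4,3,2,1,0,5,6,7,8,9,5,10,11,5,4,3,2,1,0,5,6,7,8,9,5,10,11,5,4,3,2,1,0,5,6,7,8,9,5,10,11,5,4,3,2,1,0,5,6,7,8,9,5,10,11,5,4,3,2,1,0,5,6,7,8,9,5,10,11,5,4,3,2,1,0,5,6,7,8,9,5,10,11,5,4,3,2,1,0,5,6,7,8,9,5,10,11,5,4,3,2,1,0,5,6,7,8,9,5,10,11,5,4,3,2,1,0,5,6,7,8,9,5,10,11,5,4,3,2,1,0,5,6,7,8,9,5,10,11,5,4,3,2,1,0,5,6,7,8,9,5,10,11,5,4,3,2,1,0,5,6,7,8,9,5,10,11,5,4,3,2,1,0,5,6,7,8,9,5,10,11,5,4,3,2,1,0,5,6,7,8,9,5,10]))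
 (Tr.node (Tr.leaf [2,10,7,6,5,4,3,2,10,7,6,5,4,3,2,10,7,6,5,4,3,2,10,7,6,5,4,3,2,10,7,6,5,4,3,2,0,10,7,6,5,4,3,2,10,7,6,5,4,3,2,10,7,6,5,4,3,2,10,7,6,5,4,3])
 (Tr.leaf [11,5,4,3,2,1,0,5,6,7,8,9,5,10,11,5,4,3,2,1,0,5,6,7,8,9,5,10,11,5,4,3,2,1,0,5,6,7,8,9,5,10,11,5,4,3,2,1,0,5,6,7,8,9,5,10,11,5,4,3,2,1,0,5,6,7,8,9,5,10,11,5,4,3,2,1,0,5,6,7,8,9,5,10,11,5,4,3,2,1,0,5,6,7,8,9,5,10,11,5,4,3,2,1,0,5,6,7,8,9,5,10,11,5,4,3,2,1,0,5,6,7,8,9,5,10,11,5,4,3,2,1,0,5,6,7,8,9,5,10,11,5,4,3,2,1,0,5,6,7,8,9,5,10,11,5,4,3,2,1,0,5,6,7,8,9,5,10,11,5,4,3,2,1,0,5,6,7,8,9,5,10,11,5,4,3,2,1,0,5,6,7,8,9,5,10,11,5,4,3,2,1,0,5,6,7,8,9,5,10,11,5,4,3,2,1,0,5,6,7,8,9,5,10,11,5,4,3,2,1,0,5,6,7,8,9,5,10]))))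
 (Tr.node (Tr.node (Tr.node (Tr.leaf [1,5,1,5])
 (Tr.leaf [10,11,5,4,3,2,1,0,5,6,7,8,9,5,10,11,5,4,3,2,1,0,5,6,7,8,9,5,10,11,5,4,3,2,1,0,5,6,7,8,9,5,10,11,5,4,3,2,1,0,5,6,7,8,9,5,10,11,5,4,3,2,1,0,5,6,7,8,9,5,10,11,5,4,3,2,1,0,5,6,7,8,9,5,10,11,5,4,3,2,1,0,5,6,7,8,9,5,10,11,5,4,3,2,1,0,5,6,7,8,9,5,10,11,5,4,3,2,1,0,5,6,7,8,9,5,10,11,5,4,3,2,1,0,5,6,7,8,9,5,10,11,5,4,3,2,1,0,5,6,7,8,9,5,10,11,5,4,3,2,1,0,5,6,7,8,9,5,10,11,5,4,3,2,1,0,5,6,7,8,9,5,10,11,5,4,3,2,1,0,5,6,7,8,9,5,10,11,5,4,3,2,1,0,5,6,7,8,9,5,10,11,5,4,3,2,1,0,5,6,7,8,9,5,10,11,5,4,3,2,1,0,5,6,7,8,9,5]))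
 (Tr.node (Tr.leaf [4,3,2,10,7,6,5,4,3,2,10,7,6,5,4,3,2,10,7,6,5,4,3,2,10,7,6,5,4,3,2,10,7,6,5,4,3,2,10,7,6,5,4,3,2,10,7,6,5,4,3,2,0,10,7,6,5,4,3,2,10,7,6,5])
 (Tr.leaf [11,5,4,3,2,1,0,5,6,7,8,9,5,10,11,5,4,3,2,1,0,5,6,7,8,9,5,10,11,5,4,3,2,1,0,5,6,7,8,9,5,10,11,5,4,3,2,1,0,5,6,7,8,9,5,10,11,5,4,3,2,1,0,5,6,7,8,9,5,10,11,5,4,3,2,1,0,5,6,7,8,9,5,10,11,5,4,3,2,1,0,5,6,7,8,9,5,10,11,5,4,3,2,1,0,5,6,7,8,9,5,10,11,5,4,3,2,1,0,5,6,7,8,9,5,10,11,5,4,3,2,1,0,5,6,7,8,9,5,10,11,5,4,3,2,1,0,5,6,7,8,9,5,10,11,5,4,3,2,1,0,5,6,7,8,9,5,10,11,5,4,3,2,1,0,5,6,7,8,9,5,10,11,5,4,3,2,1,0,5,6,7,8,9,5,10,11,5,4,3,2,1,0,5,6,7,8,9,5,10,11,5,4,3,2,1,0,5,6,7,8,9,5,10,11,5,4,3,2,1,0,5,6,7,8,9,5,10])))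
 (Tr.node (Tr.node (Tr.leaf [5,7,5,7])
 (Tr.leaf [11,5,4,3,2,1,0,5,6,7,8,9,5,10,11,5,4,3,2,1,0,5,6,7,8,9,5,10,11,5,4,3,2,1,0,5,6,7,8,9,5,10,11,5,4,3,2,1,0,5,6,7,8,9,5,10,11,5,4,3,2,1,0,5,6,7,8,9,5,10,11,5,4,3,2,1,0,5,6,7,8,9,5,10,11,5,4,3,2,1,0,5,6,7,8,9,5,10,11,5,4,3,2,1,0,5,6,7,8,9,5,10,11,5,4,3,2,1,0,5,6,7,8,9,5,10,11,5,4,3,2,1,0,5,6,7,8,9,5,10,11,5,4,3,2,1,0,5,6,7,8,9,5,10,11,5,4,3,2,1,0,5,6,7,8,9,5,10,11,5,4,3,2,1,0,5,6,7,8,9,5,10,11,5,4,3,2,1,0,5,6,7,8,9,5,10,11,5,4,3,2,1,0,5,6,7,8,9,5,10,11,5,4,3,2,1,0,5,6,7,8,9,5,10,11,5,4,3,2,1,0,5,6,7,8,9,5,10]))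
 (Tr.node (Tr.leaf [7,6,5,4,3,2,10,7,6,5,4,3,2,10,7,6,5,4,3,2,0,10,7,6,5,4,3,2,10,7,6,5,4,3,2,10,7,6,5,4,3,2,10,7,6,5,4,3,2,10,7,6,5,4,3,2,10,7,6,5,4,3,2,10])
 (Tr.leaf [11,5,4,3,2,1,0,5,6,7,8,9,5,10,11,5,4,3,2,1,0,5,6,7,8,9,5,10,11,5,4,3,2,1,0,5,6,7,8,9,5,10,11,5,4,3,2,1,0,5,6,7,8,9,5,10,11,5,4,3,2,1,0,5,6,7,8,9,5,10,11,5,4,3,2,1,0,5,6,7,8,9,5,10,11,5,4,3,2,1,0,5,6,7,8,9,5,10,11,5,4,3,2,1,0,5,6,7,8,9,5,10,11,5,4,3,2,1,0,5,6,7,8,9,5,10,11,5,4,3,2,1,0,5,6,7,8,9,5,10,11,5,4,3,2,1,0,5,6,7,8,9,5,10,11,5,4,3,2,1,0,5,6,7,8,9,5,10,11,5,4,3,2,1,0,5,6,7,8,9,5,10,11,5,4,3,2,1,0,5,6,7,8,9,5,10,11,5,4,3,2,1,0,5,6,7,8,9,5,10,11,5,4,3,2,1,0,5,6,7,8,9,5,10,11,5,4,3,2,1,0,5,6,7,8,9,5,10])))))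
 (Tr.node (Tr.node (Tr.node (Tr.node (Tr.leaf [0,7,0,7])
 (Tr.leaf [1,0,5,6,7,8,9,5,10,11,5,4,3,2,1,0,5,6,7,8,9,5,10,11,5,4,3,2,1,0,5,6,7,8,9,5,10,11,5,4,3,2,1,0,5,6,7,8,9,5,10,11,5,4,3,2,1,0,5,6,7,8,9,5,10,11,5,4,3,2,1,0,5,6,7,8,9,5,10,11,5,4,3,2,1,0,5,6,7,8,9,5,10,11,5,4,3,2,1,0,5,6,7,8,9,5,10,11,5,4,3,2,1,0,5,6,7,8,9,5,10,11,5,4,3,2,1,0,5,6,7,8,9,5,10,11,5,4,3,2,1,0,5,6,7,8,9,5,10,11,5,4,3,2,1,0,5,6,7,8,9,5,10,11,5,4,3,2,1,0,5,6,7,8,9,5,10,11,5,4,3,2,1,0,5,6,7,8,9,5,10,11,5,4,3,2,1,0,5,6,7,8,9,5,10,11,5,4,3,2,1,0,5,6,7,8,9,5,10,11,5,4,3,2,1,0,5,6,7,8,9,5,10,11,5,4,3,2]))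
 (Tr.node (Tr.leaf [5,4,3,2,10,7,6,5,4,3,2,10,7,6,5,4,3,2,10,7,6,5,4,3,2,10,7,6,5,4,3,2,10,7,6,5,4,3,2,10,7,6,5,4,3,2,10,7,6,5,4,3,2,10,7,6,5,4,3,2,0,10,7,6])
 (Tr.leaf [11,5,4,3,2,1,0,5,6,7,8,9,5,10,11,5,4,3,2,1,0,5,6,7,8,9,5,10,11,5,4,3,2,1,0,5,6,7,8,9,5,10,11,5,4,3,2,1,0,5,6,7,8,9,5,10,11,5,4,3,2,1,0,5,6,7,8,9,5,10,11,5,4,3,2,1,0,5,6,7,8,9,5,10,11,5,4,3,2,1,0,5,6,7,8,9,5,10,11,5,4,3,2,1,0,5,6,7,8,9,5,10,11,5,4,3,2,1,0,5,6,7,8,9,5,10,11,5,4,3,2,1,0,5,6,7,8,9,5,10,11,5,4,3,2,1,0,5,6,7,8,9,5,10,11,5,4,3,2,1,0,5,6,7,8,9,5,10,11,5,4,3,2,1,0,5,6,7,8,9,5,10,11,5,4,3,2,1,0,5,6,7,8,9,5,10,11,5,4,3,2,1,0,5,6,7,8,9,5,10,11,5,4,3,2,1,0,5,6,7,8,9,5,10,11,5,4,3,2,1,0,5,6,7,8,9,5,10])))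
 (Tr.node (Tr.node (Tr.leaf [4,5,4,5,4,5])
 (Tr.leaf [11,5,4,3,2,1,0,5,6,7,8,9,5,10,11,5,4,3,2,1,0,5,6,7,8,9,5,10,11,5,4,3,2,1,0,5,6,7,8,9,5,10,11,5,4,3,2,1,0,5,6,7,8,9,5,10,11,5,4,3,2,1,0,5,6,7,8,9,5,10,11,5,4,3,2,1,0,5,6,7,8,9,5,10,11,5,4,3,2,1,0,5,6,7,8,9,5,10,11,5,4,3,2,1,0,5,6,7,8,9,5,10,11,5,4,3,2,1,0,5,6,7,8,9,5,10,11,5,4,3,2,1,0,5,6,7,8,9,5,10,11,5,4,3,2,1,0,5,6,7,8,9,5,10,11,5,4,3,2,1,0,5,6,7,8,9,5,10,11,5,4,3,2,1,0,5,6,7,8,9,5,10,11,5,4,3,2,1,0,5,6,7,8,9,5,10,11,5,4,3,2,1,0,5,6,7,8,9,5,10,11,5,4,3,2,1,0,5,6,7,8,9,5,10,11,5,4,3,2,1,0,5,6,7,8,9,5,10]))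
 (Tr.node (Tr.leaf [10,7,6,5,4,3,2,10,7,6,5,4,3,2,10,7,6,5,4,3,2,10,7,6,5,4,3,2,0,10,7,6,5,4,3,2,10,7,6,5,4,3,2,10,7,6,5,4,3,2,10,7,6,5,4,3,2,10,7,6,5,4,3,2])
 (Tr.leaf [11,5,4,3,2,1,0,5,6,7,8,9,5,10,11,5,4,3,2,1,0,5,6,7,8,9,5,10,11,5,4,3,2,1,0,5,6,7,8,9,5,10,11,5,4,3,2,1,0,5,6,7,8,9,5,10,11,5,4,3,2,1,0,5,6,7,8,9,5,10,11,5,4,3,2,1,0,5,6,7,8,9,5,10,11,5,4,3,2,1,0,5,6,7,8,9,5,10,11,5,4,3,2,1,0,5,6,7,8,9,5,10,11,5,4,3,2,1,0,5,6,7,8,9,5,10,11,5,4,3,2,1,0,5,6,7,8,9,5,10,11,5,4,3,2,1,0,5,6,7,8,9,5,10,11,5,4,3,2,1,0,5,6,7,8,9,5,10,11,5,4,3,2,1,0,5,6,7,8,9,5,10,11,5,4,3,2,1,0,5,6,7,8,9,5,10,11,5,4,3,2,1,0,5,6,7,8,9,5,10,11,5,4,3,2,1,0,5,6,7,8,9,5,10,11,5,4,3,2,1,0,5,6,7,8,9,5,10]))))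
 (Tr.node (Tr.node (Tr.node (Tr.leaf [2,4,2,4])
 (Tr.leaf [11,5,4,3,2,1,0,5,6,7,8,9,5,10,11,5,4,3,2,1,0,5,6,7,8,9,5,10,11,5,4,3,2,1,0,5,6,7,8,9,5,10,11,5,4,3,2,1,0,5,6,7,8,9,5,10,11,5,4,3,2,1,0,5,6,7,8,9,5,10,11,5,4,3,2,1,0,5,6,7,8,9,5,10,11,5,4,3,2,1,0,5,6,7,8,9,5,10,11,5,4,3,2,1,0,5,6,7,8,9,5,10,11,5,4,3,2,1,0,5,6,7,8,9,5,10,11,5,4,3,2,1,0,5,6,7,8,9,5,10,11,5,4,3,2,1,0,5,6,7,8,9,5,10,11,5,4,3,2,1,0,5,6,7,8,9,5,10,11,5,4,3,2,1,0,5,6,7,8,9,5,10,11,5,4,3,2,1,0,5,6,7,8,9,5,10,11,5,4,3,2,1,0,5,6,7,8,9,5,10,11,5,4,3,2,1,0,5,6,7,8,9,5,10,11,5,4,3,2,1,0,5,6,7,8,9,5,10]))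
 (Tr.node (Tr.leaf [3,2,10,7,6,5,4,3,2,10,7,6,5,4,3,2,10,7,6,5,4,3,2,10,7,6,5,4,3,2,10,7,6,5,4,3,2,10,7,6,5,4,3,2,0,10,7,6,5,4,3,2,10,7,6,5,4,3,2,10,7,6,5,4])
 (Tr.leaf [11,5,4,3,2,1,0,5,6,7,8,9,5,10,11,5,4,3,2,1,0,5,6,7,8,9,5,10,11,5,4,3,2,1,0,5,6,7,8,9,5,10,11,5,4,3,2,1,0,5,6,7,8,9,5,10,11,5,4,3,2,1,0,5,6,7,8,9,5,10,11,5,4,3,2,1,0,5,6,7,8,9,5,10,11,5,4,3,2,1,0,5,6,7,8,9,5,10,11,5,4,3,2,1,0,5,6,7,8,9,5,10,11,5,4,3,2,1,0,5,6,7,8,9,5,10,11,5,4,3,2,1,0,5,6,7,8,9,5,10,11,5,4,3,2,1,0,5,6,7,8,9,5,10,11,5,4,3,2,1,0,5,6,7,8,9,5,10,11,5,4,3,2,1,0,5,6,7,8,9,5,10,11,5,4,3,2,1,0,5,6,7,8,9,5,10,11,5,4,3,2,1,0,5,6,7,8,9,5,10,11,5,4,3,2,1,0,5,6,7,8,9,5,10,11,5,4,3,2,1,0,5,6,7,8,9,5,10])))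
 (Tr.node (Tr.node (Tr.leaf [6,10,6,10])
 (Tr.leaf [11,5,4,3,2,1,0,5,6,7,8,9,5,10,11,5,4,3,2,1,0,5,6,7,8,9,5,10,11,5,4,3,2,1,0,5,6,7,8,9,5,10,11,5,4,3,2,1,0,5,6,7,8,9,5,10,11,5,4,3,2,1,0,5,6,7,8,9,5,10,11,5,4,3,2,1,0,5,6,7,8,9,5,10,11,5,4,3,2,1,0,5,6,7,8,9,5,10,11,5,4,3,2,1,0,5,6,7,8,9,5,10,11,5,4,3,2,1,0,5,6,7,8,9,5,10,11,5,4,3,2,1,0,5,6,7,8,9,5,10,11,5,4,3,2,1,0,5,6,7,8,9,5,10,11,5,4,3,2,1,0,5,6,7,8,9,5,10,11,5,4,3,2,1,0,5,6,7,8,9,5,10,11,5,4,3,2,1,0,5,6,7,8,9,5,10,11,5,4,3,2,1,0,5,6,7,8,9,5,10,11,5,4,3,2,1,0,5,6,7,8,9,5,10,11,5,4,3,2,1,0,5,6,7,8,9,5,10]))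
 (Tr.node (Tr.leaf [6,5,4,3,2,10,7,6,5,4,3,2,0,10,7,6,5,4,3,2,10,7,6,5,4,3,2,10,7,6,5,4,3,2,10,7,6,5,4,3,2,10,7,6,5,4,3,2,10,7,6,5,4,3,2,10,7,6,5,4,3,2,10,7])
 (Tr.leaf [11,5,4,3,2,1,0,5,6,7,8,9,5,10,11,5,4,3,2,1,0,5,6,7,8,9,5,10,11,5,4,3,2,1,0,5,6,7,8,9,5,10,11,5,4,3,2,1,0,5,6,7,8,9,5,10,11,5,4,3,2,1,0,5,6,7,8,9,5,10,11,5,4,3,2,1,0,5,6,7,8,9,5,10,11,5,4,3,2,1,0,5,6,7,8,9,5,10,11,5,4,3,2,1,0,5,6,7,8,9,5,10,11,5,4,3,2,1,0,5,6,7,8,9,5,10,11,5,4,3,2,1,0,5,6,7,8,9,5,10,11,5,4,3,2,1,0,5,6,7,8,9,5,10,11,5,4,3,2,1,0,5,6,7,8,9,5,10,11,5,4,3,2,1,0,5,6,7,8,9,5,10,11,5,4,3,2,1,0,5,6,7,8,9,5,10,11,5,4,3,2,1,0,5,6,7,8,9,5,10,11,5,4,3,2,1,0,5,6,7,8,9,5,10,11,5,4,3,2,1,0,5,6,7,8,9,5,10])))))))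
 (Tr.node (Tr.node (Tr.node (Tr.node (Tr.node (Tr.node (Tr.leaf [5,5])
 (Tr.leaf [7,6,5,4,3,2,0,10,7,6,5,4,3,2,10,7,6,5,4,3,2,10,7,6,5,4,3,2,10,7,6,5,4,3,2,10,7,6,5,4,3,2,10,7,6,5,4,3,2,10,7,6,5,4,3,2,10,7,6,5,4,3,2,10]))
 (Tr.node (Tr.leaf [8,9,8,9,8,9])
 (Tr.leaf [11,5,4,3,2,1,0,5,6,7,8,9,5,10,11,5,4,3,2,1,0,5,6,7,8,9,5,10,11,5,4,3,2,1,0,5,6,7,8,9,5,10,11,5,4,3,2,1,0,5,6,7,8,9,5,10,11,5,4,3,2,1,0,5,6,7,8,9,5,10,11,5,4,3,2,1,0,5,6,7,8,9,5,10,11,5,4,3,2,1,0,5,6,7,8,9,5,10,11,5,4,3,2,1,0,5,6,7,8,9,5,10,11,5,4,3,2,1,0,5,6,7,8,9,5,10,11,5,4,3,2,1,0,5,6,7,8,9,5,10,11,5,4,3,2,1,0,5,6,7,8,9,5,10,11,5,4,3,2,1,0,5,6,7,8,9,5,10,11,5,4,3,2,1,0,5,6,7,8,9,5,10,11,5,4,3,2,1,0,5,6,7,8,9,5,10,11,5,4,3,2,1,0,5,6,7,8,9,5,10,11,5,4,3,2,1,0,5,6,7,8,9,5,10,11,5,4,3,2,1,0,5,6,7,8,9,5,10])))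
 (Tr.node (Tr.node (Tr.leaf [2,10,2,10])
 (Tr.leaf [11,5,4,3,2,1,0,5,6,7,8,9,5,10,11,5,4,3,2,1,0,5,6,7,8,9,5,10,11,5,4,3,2,1,0,5,6,7,8,9,5,10,11,5,4,3,2,1,0,5,6,7,8,9,5,10,11,5,4,3,2,1,0,5,6,7,8,9,5,10,11,5,4,3,2,1,0,5,6,7,8,9,5,10,11,5,4,3,2,1,0,5,6,7,8,9,5,10,11,5,4,3,2,1,0,5,6,7,8,9,5,10,11,5,4,3,2,1,0,5,6,7,8,9,5,10,11,5,4,3,2,1,0,5,6,7,8,9,5,10,11,5,4,3,2,1,0,5,6,7,8,9,5,10,11,5,4,3,2,1,0,5,6,7,8,9,5,10,11,5,4,3,2,1,0,5,6,7,8,9,5,10,11,5,4,3,2,1,0,5,6,7,8,9,5,10,11,5,4,3,2,1,0,5,6,7,8,9,5,10,11,5,4,3,2,1,0,5,6,7,8,9,5,10,11,5,4,3,2,1,0,5,6,7,8,9,5,10]))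
 (Tr.node (Tr.leaf [4,3,2,10,7,6,5,4,3,2,10,7,6,5,4,3,2,10,7,6,5,4,3,2,10,7,6,5,4,3,2,10,7,6,5,4,3,2,0,10,7,6,5,4,3,2,10,7,6,5,4,3,2,10,7,6,5,4,3,2,10,7,6,5])
 (Tr.leaf [11,5,4,3,2,1,0,5,6,7,8,9,5,10,11,5,4,3,2,1,0,5,6,7,8,9,5,10,11,5,4,3,2,1,0,5,6,7,8,9,5,10,11,5,4,3,2,1,0,5,6,7,8,9,5,10,11,5,4,3,2,1,0,5,6,7,8,9,5,10,11,5,4,3,2,1,0,5,6,7,8,9,5,10,11,5,4,3,2,1,0,5,6,7,8,9,5,10,11,5,4,3,2,1,0,5,6,7,8,9,5,10,11,5,4,3,2,1,0,5,6,7,8,9,5,10,11,5,4,3,2,1,0,5,6,7,8,9,5,10,11,5,4,3,2,1,0,5,6,7,8,9,5,10,11,5,4,3,2,1,0,5,6,7,8,9,5,10,11,5,4,3,2,1,0,5,6,7,8,9,5,10,11,5,4,3,2,1,0,5,6,7,8,9,5,10,11,5,4,3,2,1,0,5,6,7,8,9,5,10,11,5,4,3,2,1,0,5,6,7,8,9,5,10,11,5,4,3,2,1,0,5,6,7,8,9,5,10]))))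
 (Tr.node (Tr.node (Tr.node (Tr.leaf [1,3,1,3])
 (Tr.leaf [9,5,10,11,5,4,3,2,1,0,5,6,7,8,9,5,10,11,5,4,3,2,1,0,5,6,7,8,9,5,10,11,5,4,3,2,1,0,5,6,7,8,9,5,10,11,5,4,3,2,1,0,5,6,7,8,9,5,10,11,5,4,3,2,1,0,5,6,7,8,9,5,10,11,5,4,3,2,1,0,5,6,7,8,9,5,10,11,5,4,3,2,1,0,5,6,7,8,9,5,10,11,5,4,3,2,1,0,5,6,7,8,9,5,10,11,5,4,3,2,1,0,5,6,7,8,9,5,10,11,5,4,3,2,1,0,5,6,7,8,9,5,10,11,5,4,3,2,1,0,5,6,7,8,9,5,10,11,5,4,3,2,1,0,5,6,7,8,9,5,10,11,5,4,3,2,1,0,5,6,7,8,9,5,10,11,5,4,3,2,1,0,5,6,7,8,9,5,10,11,5,4,3,2,1,0,5,6,7,8,9,5,10,11,5,4,3,2,1,0,5,6,7,8,9,5,10,11,5,4,3,2,1,0,5,6,7,8]))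
 (Tr.node (Tr.leaf [6,5,4,3,2,10,7,6,5,4,3,2,10,7,6,5,4,3,2,10,7,6,5,4,3,2,10,7,6,5,4,3,2,10,7,6,5,4,3,2,10,7,6,5,4,3,2,10,7,6,5,4,3,2,0,10,7,6,5,4,3,2,10,7])
 (Tr.leaf [11,5,4,3,2,1,0,5,6,7,8,9,5,10,11,5,4,3,2,1,0,5,6,7,8,9,5,10,11,5,4,3,2,1,0,5,6,7,8,9,5,10,11,5,4,3,2,1,0,5,6,7,8,9,5,10,11,5,4,3,2,1,0,5,6,7,8,9,5,10,11,5,4,3,2,1,0,5,6,7,8,9,5,10,11,5,4,3,2,1,0,5,6,7,8,9,5,10,11,5,4,3,2,1,0,5,6,7,8,9,5,10,11,5,4,3,2,1,0,5,6,7,8,9,5,10,11,5,4,3,2,1,0,5,6,7,8,9,5,10,11,5,4,3,2,1,0,5,6,7,8,9,5,10,11,5,4,3,2,1,0,5,6,7,8,9,5,10,11,5,4,3,2,1,0,5,6,7,8,9,5,10,11,5,4,3,2,1,0,5,6,7,8,9,5,10,11,5,4,3,2,1,0,5,6,7,8,9,5,10,11,5,4,3,2,1,0,5,6,7,8,9,5,10,11,5,4,3,2,1,0,5,6,7,8,9,5,10])))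
 (Tr.node (Tr.node (Tr.leaf [4,11,4,11])
 (Tr.leaf [11,5,4,3,2,1,0,5,6,7,8,9,5,10,11,5,4,3,2,1,0,5,6,7,8,9,5,10,11,5,4,3,2,1,0,5,6,7,8,9,5,10,11,5,4,3,2,1,0,5,6,7,8,9,5,10,11,5,4,3,2,1,0,5,6,7,8,9,5,10,11,5,4,3,2,1,0,5,6,7,8,9,5,10,11,5,4,3,2,1,0,5,6,7,8,9,5,10,11,5,4,3,2,1,0,5,6,7,8,9,5,10,11,5,4,3,2,1,0,5,6,7,8,9,5,10,11,5,4,3,2,1,0,5,6,7,8,9,5,10,11,5,4,3,2,1,0,5,6,7,8,9,5,10,11,5,4,3,2,1,0,5,6,7,8,9,5,10,11,5,4,3,2,1,0,5,6,7,8,9,5,10,11,5,4,3,2,1,0,5,6,7,8,9,5,10,11,5,4,3,2,1,0,5,6,7,8,9,5,10,11,5,4,3,2,1,0,5,6,7,8,9,5,10,11,5,4,3,2,1,0,5,6,7,8,9,5,10]))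
 (Tr.node (Tr.leaf [2,10,7,6,5,4,3,2,10,7,6,5,4,3,2,10,7,6,5,4,3,2,0,10,7,6,5,4,3,2,10,7,6,5,4,3,2,10,7,6,5,4,3,2,10,7,6,5,4,3,2,10,7,6,5,4,3,2,10,7,6,5,4,3])
 (Tr.leaf [11,5,4,3,2,1,0,5,6,7,8,9,5,10,11,5,4,3,2,1,0,5,6,7,8,9,5,10,11,5,4,3,2,1,0,5,6,7,8,9,5,10,11,5,4,3,2,1,0,5,6,7,8,9,5,10,11,5,4,3,2,1,0,5,6,7,8,9,5,10,11,5,4,3,2,1,0,5,6,7,8,9,5,10,11,5,4,3,2,1,0,5,6,7,8,9,5,10,11,5,4,3,2,1,0,5,6,7,8,9,5,10,11,5,4,3,2,1,0,5,6,7,8,9,5,10,11,5,4,3,2,1,0,5,6,7,8,9,5,10,11,5,4,3,2,1,0,5,6,7,8,9,5,10,11,5,4,3,2,1,0,5,6,7,8,9,5,10,11,5,4,3,2,1,0,5,6,7,8,9,5,10,11,5,4,3,2,1,0,5,6,7,8,9,5,10,11,5,4,3,2,1,0,5,6,7,8,9,5,10,11,5,4,3,2,1,0,5,6,7,8,9,5,10,11,5,4,3,2,1,0,5,6,7,8,9,5,10])))))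
 (Tr.node (Tr.node (Tr.node (Tr.node (Tr.leaf [0,5,0,5])
 (Tr.leaf [3,2,1,0,5,6,7,8,9,5,10,11,5,4,3,2,1,0,5,6,7,8,9,5,10,11,5,4,3,2,1,0,5,6,7,8,9,5,10,11,5,4,3,2,1,0,5,6,7,8,9,5,10,11,5,4,3,2,1,0,5,6,7,8,9,5,10,11,5,4,3,2,1,0,5,6,7,8,9,5,10,11,5,4,3,2,1,0,5,6,7,8,9,5,10,11,5,4,3,2,1,0,5,6,7,8,9,5,10,11,5,4,3,2,1,0,5,6,7,8,9,5,10,11,5,4,3,2,1,0,5,6,7,8,9,5,10,11,5,4,3,2,1,0,5,6,7,8,9,5,10,11,5,4,3,2,1,0,5,6,7,8,9,5,10,11,5,4,3,2,1,0,5,6,7,8,9,5,10,11,5,4,3,2,1,0,5,6,7,8,9,5,10,11,5,4,3,2,1,0,5,6,7,8,9,5,10,11,5,4,3,2,1,0,5,6,7,8,9,5,10,11,5,4,3,2,1,0,5,6,7,8,9,5,10,11,5,4]))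
 (Tr.node (Tr.leaf [7,6,5,4,3,2,10,7,6,5,4,3,2,10,7,6,5,4,3,2,10,7,6,5,4,3,2,10,7,6,5,4,3,2,10,7,6,5,4,3,2,10,7,6,5,4,3,2,10,7,6,5,4,3,2,10,7,6,5,4,3,2,0,10])
 (Tr.leaf [11,5,4,3,2,1,0,5,6,7,8,9,5,10,11,5,4,3,2,1,0,5,6,7,8,9,5,10,11,5,4,3,2,1,0,5,6,7,8,9,5,10,11,5,4,3,2,1,0,5,6,7,8,9,5,10,11,5,4,3,2,1,0,5,6,7,8,9,5,10,11,5,4,3,2,1,0,5,6,7,8,9,5,10,11,5,4,3,2,1,0,5,6,7,8,9,5,10,11,5,4,3,2,1,0,5,6,7,8,9,5,10,11,5,4,3,2,1,0,5,6,7,8,9,5,10,11,5,4,3,2,1,0,5,6,7,8,9,5,10,11,5,4,3,2,1,0,5,6,7,8,9,5,10,11,5,4,3,2,1,0,5,6,7,8,9,5,10,11,5,4,3,2,1,0,5,6,7,8,9,5,10,11,5,4,3,2,1,0,5,6,7,8,9,5,10,11,5,4,3,2,1,0,5,6,7,8,9,5,10,11,5,4,3,2,1,0,5,6,7,8,9,5,10,11,5,4,3,2,1,0,5,6,7,8,9,5,10])))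
 (Tr.node (Tr.node (Tr.leaf [3,10,3,10])
 (Tr.leaf [11,5,4,3,2,1,0,5,6,7,8,9,5,10,11,5,4,3,2,1,0,5,6,7,8,9,5,10,11,5,4,3,2,1,0,5,6,7,8,9,5,10,11,5,4,3,2,1,0,5,6,7,8,9,5,10,11,5,4,3,2,1,0,5,6,7,8,9,5,10,11,5,4,3,2,1,0,5,6,7,8,9,5,10,11,5,4,3,2,1,0,5,6,7,8,9,5,10,11,5,4,3,2,1,0,5,6,7,8,9,5,10,11,5,4,3,2,1,0,5,6,7,8,9,5,10,11,5,4,3,2,1,0,5,6,7,8,9,5,10,11,5,4,3,2,1,0,5,6,7,8,9,5,10,11,5,4,3,2,1,0,5,6,7,8,9,5,10,11,5,4,3,2,1,0,5,6,7,8,9,5,10,11,5,4,3,2,1,0,5,6,7,8,9,5,10,11,5,4,3,2,1,0,5,6,7,8,9,5,10,11,5,4,3,2,1,0,5,6,7,8,9,5,10,11,5,4,3,2,1,0,5,6,7,8,9,5,10]))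
 (Tr.node (Tr.leaf [3,2,10,7,6,5,4,3,2,10,7,6,5,4,3,2,10,7,6,5,4,3,2,10,7,6,5,4,3,2,0,10,7,6,5,4,3,2,10,7,6,5,4,3,2,10,7,6,5,4,3,2,10,7,6,5,4,3,2,10,7,6,5,4])
 (Tr.leaf [11,5,4,3,2,1,0,5,6,7,8,9,5,10,11,5,4,3,2,1,0,5,6,7,8,9,5,10,11,5,4,3,2,1,0,5,6,7,8,9,5,10,11,5,4,3,2,1,0,5,6,7,8,9,5,10,11,5,4,3,2,1,0,5,6,7,8,9,5,10,11,5,4,3,2,1,0,5,6,7,8,9,5,10,11,5,4,3,2,1,0,5,6,7,8,9,5,10,11,5,4,3,2,1,0,5,6,7,8,9,5,10,11,5,4,3,2,1,0,5,6,7,8,9,5,10,11,5,4,3,2,1,0,5,6,7,8,9,5,10,11,5,4,3,2,1,0,5,6,7,8,9,5,10,11,5,4,3,2,1,0,5,6,7,8,9,5,10,11,5,4,3,2,1,0,5,6,7,8,9,5,10,11,5,4,3,2,1,0,5,6,7,8,9,5,10,11,5,4,3,2,1,0,5,6,7,8,9,5,10,11,5,4,3,2,1,0,5,6,7,8,9,5,10,11,5,4,3,2,1,0,5,6,7,8,9,5,10]))))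
 (Tr.node (Tr.node (Tr.node (Tr.leaf [1,11,1,11])
 (Tr.leaf [11,5,4,3,2,1,0,5,6,7,8,9,5,10,11,5,4,3,2,1,0,5,6,7,8,9,5,10,11,5,4,3,2,1,0,5,6,7,8,9,5,10,11,5,4,3,2,1,0,5,6,7,8,9,5,10,11,5,4,3,2,1,0,5,6,7,8,9,5,10,11,5,4,3,2,1,0,5,6,7,8,9,5,10,11,5,4,3,2,1,0,5,6,7,8,9,5,10,11,5,4,3,2,1,0,5,6,7,8,9,5,10,11,5,4,3,2,1,0,5,6,7,8,9,5,10,11,5,4,3,2,1,0,5,6,7,8,9,5,10,11,5,4,3,2,1,0,5,6,7,8,9,5,10,11,5,4,3,2,1,0,5,6,7,8,9,5,10,11,5,4,3,2,1,0,5,6,7,8,9,5,10,11,5,4,3,2,1,0,5,6,7,8,9,5,10,11,5,4,3,2,1,0,5,6,7,8,9,5,10,11,5,4,3,2,1,0,5,6,7,8,9,5,10,11,5,4,3,2,1,0,5,6,7,8,9,5,10]))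
 (Tr.node (Tr.leaf [5,4,3,2,10,7,6,5,4,3,2,10,7,6,5,4,3,2,10,7,6,5,4,3,2,10,7,6,5,4,3,2,10,7,6,5,4,3,2,10,7,6,5,4,3,2,0,10,7,6,5,4,3,2,10,7,6,5,4,3,2,10,7,6])
 (Tr.leaf [11,5,4,3,2,1,0,5,6,7,8,9,5,10,11,5,4,3,2,1,0,5,6,7,8,9,5,10,11,5,4,3,2,1,0,5,6,7,8,9,5,10,11,5,4,3,2,1,0,5,6,7,8,9,5,10,11,5,4,3,2,1,0,5,6,7,8,9,5,10,11,5,4,3,2,1,0,5,6,7,8,9,5,10,11,5,4,3,2,1,0,5,6,7,8,9,5,10,11,5,4,3,2,1,0,5,6,7,8,9,5,10,11,5,4,3,2,1,0,5,6,7,8,9,5,10,11,5,4,3,2,1,0,5,6,7,8,9,5,10,11,5,4,3,2,1,0,5,6,7,8,9,5,10,11,5,4,3,2,1,0,5,6,7,8,9,5,10,11,5,4,3,2,1,0,5,6,7,8,9,5,10,11,5,4,3,2,1,0,5,6,7,8,9,5,10,11,5,4,3,2,1,0,5,6,7,8,9,5,10,11,5,4,3,2,1,0,5,6,7,8,9,5,10,11,5,4,3,2,1,0,5,6,7,8,9,5,10])))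
 (Tr.node (Tr.node (Tr.leaf [6,8,6,8])
 (Tr.leaf [11,5,4,3,2,1,0,5,6,7,8,9,5,10,11,5,4,3,2,1,0,5,6,7,8,9,5,10,11,5,4,3,2,1,0,5,6,7,8,9,5,10,11,5,4,3,2,1,0,5,6,7,8,9,5,10,11,5,4,3,2,1,0,5,6,7,8,9,5,10,11,5,4,3,2,1,0,5,6,7,8,9,5,10,11,5,4,3,2,1,0,5,6,7,8,9,5,10,11,5,4,3,2,1,0,5,6,7,8,9,5,10,11,5,4,3,2,1,0,5,6,7,8,9,5,10,11,5,4,3,2,1,0,5,6,7,8,9,5,10,11,5,4,3,2,1,0,5,6,7,8,9,5,10,11,5,4,3,2,1,0,5,6,7,8,9,5,10,11,5,4,3,2,1,0,5,6,7,8,9,5,10,11,5,4,3,2,1,0,5,6,7,8,9,5,10,11,5,4,3,2,1,0,5,6,7,8,9,5,10,11,5,4,3,2,1,0,5,6,7,8,9,5,10,11,5,4,3,2,1,0,5,6,7,8,9,5,10]))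
 (Tr.node (Tr.leaf [10,7,6,5,4,3,2,10,7,6,5,4,3,2,0,10,7,6,5,4,3,2,10,7,6,5,4,3,2,10,7,6,5,4,3,2,10,7,6,5,4,3,2,10,7,6,5,4,3,2,10,7,6,5,4,3,2,10,7,6,5,4,3,2])
 (Tr.leaf [11,5,4,3,2,1,0,5,6,7,8,9,5,10,11,5,4,3,2,1,0,5,6,7,8,9,5,10,11,5,4,3,2,1,0,5,6,7,8,9,5,10,11,5,4,3,2,1,0,5,6,7,8,9,5,10,11,5,4,3,2,1,0,5,6,7,8,9,5,10,11,5,4,3,2,1,0,5,6,7,8,9,5,10,11,5,4,3,2,1,0,5,6,7,8,9,5,10,11,5,4,3,2,1,0,5,6,7,8,9,5,10,11,5,4,3,2,1,0,5,6,7,8,9,5,10,11,5,4,3,2,1,0,5,6,7,8,9,5,10,11,5,4,3,2,1,0,5,6,7,8,9,5,10,11,5,4,3,2,1,0,5,6,7,8,9,5,10,11,5,4,3,2,1,0,5,6,7,8,9,5,10,11,5,4,3,2,1,0,5,6,7,8,9,5,10,11,5,4,3,2,1,0,5,6,7,8,9,5,10,11,5,4,3,2,1,0,5,6,7,8,9,5,10,11,5,4,3,2,1,0,5,6,7,8,9,5,10]))))))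
 (Tr.node (Tr.node (Tr.node (Tr.node (Tr.node (Tr.leaf [0,1,0,1,0,1])
 (Tr.leaf [3,2,0,10,7,6,5,4,3,2,10,7,6,5,4,3,2,10,7,6,5,4,3,2,10,7,6,5,4,3,2,10,7,6,5,4,3,2,10,7,6,5,4,3,2,10,7,6,5,4,3,2,10,7,6,5,4,3,2,10,7,6,5,4]))
 (Tr.node (Tr.leaf [9,11,9,11])
 (Tr.leaf [11,5,4,3,2,1,0,5,6,7,8,9,5,10,11,5,4,3,2,1,0,5,6,7,8,9,5,10,11,5,4,3,2,1,0,5,6,7,8,9,5,10,11,5,4,3,2,1,0,5,6,7,8,9,5,10,11,5,4,3,2,1,0,5,6,7,8,9,5,10,11,5,4,3,2,1,0,5,6,7,8,9,5,10,11,5,4,3,2,1,0,5,6,7,8,9,5,10,11,5,4,3,2,1,0,5,6,7,8,9,5,10,11,5,4,3,2,1,0,5,6,7,8,9,5,10,11,5,4,3,2,1,0,5,6,7,8,9,5,10,11,5,4,3,2,1,0,5,6,7,8,9,5,10,11,5,4,3,2,1,0,5,6,7,8,9,5,10,11,5,4,3,2,1,0,5,6,7,8,9,5,10,11,5,4,3,2,1,0,5,6,7,8,9,5,10,11,5,4,3,2,1,0,5,6,7,8,9,5,10,11,5,4,3,2,1,0,5,6,7,8,9,5,10,11,5,4,3,2,1,0,5,6,7,8,9,5,10])))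
 (Tr.node (Tr.node (Tr.leaf [3,6,3,6])
 (Tr.leaf [11,5,4,3,2,1,0,5,6,7,8,9,5,10,11,5,4,3,2,1,0,5,6,7,8,9,5,10,11,5,4,3,2,1,0,5,6,7,8,9,5,10,11,5,4,3,2,1,0,5,6,7,8,9,5,10,11,5,4,3,2,1,0,5,6,7,8,9,5,10,11,5,4,3,2,1,0,5,6,7,8,9,5,10,11,5,4,3,2,1,0,5,6,7,8,9,5,10,11,5,4,3,2,1,0,5,6,7,8,9,5,10,11,5,4,3,2,1,0,5,6,7,8,9,5,10,11,5,4,3,2,1,0,5,6,7,8,9,5,10,11,5,4,3,2,1,0,5,6,7,8,9,5,10,11,5,4,3,2,1,0,5,6,7,8,9,5,10,11,5,4,3,2,1,0,5,6,7,8,9,5,10,11,5,4,3,2,1,0,5,6,7,8,9,5,10,11,5,4,3,2,1,0,5,6,7,8,9,5,10,11,5,4,3,2,1,0,5,6,7,8,9,5,10,11,5,4,3,2,1,0,5,6,7,8,9,5,10]))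
 (Tr.node (Tr.leaf [7,6,5,4,3,2,10,7,6,5,4,3,2,10,7,6,5,4,3,2,10,7,6,5,4,3,2,10,7,6,5,4,3,2,0,10,7,6,5,4,3,2,10,7,6,5,4,3,2,10,7,6,5,4,3,2,10,7,6,5,4,3,2,10])
 (Tr.leaf [11,5,4,3,2,1,0,5,6,7,8,9,5,10,11,5,4,3,2,1,0,5,6,7,8,9,5,10,11,5,4,3,2,1,0,5,6,7,8,9,5,10,11,5,4,3,2,1,0,5,6,7,8,9,5,10,11,5,4,3,2,1,0,5,6,7,8,9,5,10,11,5,4,3,2,1,0,5,6,7,8,9,5,10,11,5,4,3,2,1,0,5,6,7,8,9,5,10,11,5,4,3,2,1,0,5,6,7,8,9,5,10,11,5,4,3,2,1,0,5,6,7,8,9,5,10,11,5,4,3,2,1,0,5,6,7,8,9,5,10,11,5,4,3,2,1,0,5,6,7,8,9,5,10,11,5,4,3,2,1,0,5,6,7,8,9,5,10,11,5,4,3,2,1,0,5,6,7,8,9,5,10,11,5,4,3,2,1,0,5,6,7,8,9,5,10,11,5,4,3,2,1,0,5,6,7,8,9,5,10,11,5,4,3,2,1,0,5,6,7,8,9,5,10,11,5,4,3,2,1,0,5,6,7,8,9,5,10]))))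
 (Tr.node (Tr.node (Tr.node (Tr.leaf [1,7,1,7])
 (Tr.leaf [11,5,4,3,2,1,0,5,6,7,8,9,5,10,11,5,4,3,2,1,0,5,6,7,8,9,5,10,11,5,4,3,2,1,0,5,6,7,8,9,5,10,11,5,4,3,2,1,0,5,6,7,8,9,5,10,11,5,4,3,2,1,0,5,6,7,8,9,5,10,11,5,4,3,2,1,0,5,6,7,8,9,5,10,11,5,4,3,2,1,0,5,6,7,8,9,5,10,11,5,4,3,2,1,0,5,6,7,8,9,5,10,11,5,4,3,2,1,0,5,6,7,8,9,5,10,11,5,4,3,2,1,0,5,6,7,8,9,5,10,11,5,4,3,2,1,0,5,6,7,8,9,5,10,11,5,4,3,2,1,0,5,6,7,8,9,5,10,11,5,4,3,2,1,0,5,6,7,8,9,5,10,11,5,4,3,2,1,0,5,6,7,8,9,5,10,11,5,4,3,2,1,0,5,6,7,8,9,5,10,11,5,4,3,2,1,0,5,6,7,8,9,5,10,11,5,4,3,2,1,0,5,6,7,8,9,5,10]))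
 (Tr.node (Tr.leaf [2,10,7,6,5,4,3,2,10,7,6,5,4,3,2,10,7,6,5,4,3,2,10,7,6,5,4,3,2,10,7,6,5,4,3,2,10,7,6,5,4,3,2,10,7,6,5,4,3,2,0,10,7,6,5,4,3,2,10,7,6,5,4,3])
 (Tr.leaf [11,5,4,3,2,1,0,5,6,7,8,9,5,10,11,5,4,3,2,1,0,5,6,7,8,9,5,10,11,5,4,3,2,1,0,5,6,7,8,9,5,10,11,5,4,3,2,1,0,5,6,7,8,9,5,10,11,5,4,3,2,1,0,5,6,7,8,9,5,10,11,5,4,3,2,1,0,5,6,7,8,9,5,10,11,5,4,3,2,1,0,5,6,7,8,9,5,10,11,5,4,3,2,1,0,5,6,7,8,9,5,10,11,5,4,3,2,1,0,5,6,7,8,9,5,10,11,5,4,3,2,1,0,5,6,7,8,9,5,10,11,5,4,3,2,1,0,5,6,7,8,9,5,10,11,5,4,3,2,1,0,5,6,7,8,9,5,10,11,5,4,3,2,1,0,5,6,7,8,9,5,10,11,5,4,3,2,1,0,5,6,7,8,9,5,10,11,5,4,3,2,1,0,5,6,7,8,9,5,10,11,5,4,3,2,1,0,5,6,7,8,9,5,10,11,5,4,3,2,1,0,5,6,7,8,9,5,10])))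
 (Tr.node (Tr.node (Tr.leaf [5,9,5,9])
 (Tr.leaf [11,5,4,3,2,1,0,5,6,7,8,9,5,10,11,5,4,3,2,1,0,5,6,7,8,9,5,10,11,5,4,3,2,1,0,5,6,7,8,9,5,10,11,5,4,3,2,1,0,5,6,7,8,9,5,10,11,5,4,3,2,1,0,5,6,7,8,9,5,10,11,5,4,3,2,1,0,5,6,7,8,9,5,10,11,5,4,3,2,1,0,5,6,7,8,9,5,10,11,5,4,3,2,1,0,5,6,7,8,9,5,10,11,5,4,3,2,1,0,5,6,7,8,9,5,10,11,5,4,3,2,1,0,5,6,7,8,9,5,10,11,5,4,3,2,1,0,5,6,7,8,9,5,10,11,5,4,3,2,1,0,5,6,7,8,9,5,10,11,5,4,3,2,1,0,5,6,7,8,9,5,10,11,5,4,3,2,1,0,5,6,7,8,9,5,10,11,5,4,3,2,1,0,5,6,7,8,9,5,10,11,5,4,3,2,1,0,5,6,7,8,9,5,10,11,5,4,3,2,1,0,5,6,7,8,9,5,10]))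
 (Tr.node (Tr.leaf [5,4,3,2,10,7,6,5,4,3,2,10,7,6,5,4,3,2,0,10,7,6,5,4,3,2,10,7,6,5,4,3,2,10,7,6,5,4,3,2,10,7,6,5,4,3,2,10,7,6,5,4,3,2,10,7,6,5,4,3,2,10,7,6])
 (Tr.leaf [11,5,4,3,2,1,0,5,6,7,8,9,5,10,11,5,4,3,2,1,0,5,6,7,8,9,5,10,11,5,4,3,2,1,0,5,6,7,8,9,5,10,11,5,4,3,2,1,0,5,6,7,8,9,5,10,11,5,4,3,2,1,0,5,6,7,8,9,5,10,11,5,4,3,2,1,0,5,6,7,8,9,5,10,11,5,4,3,2,1,0,5,6,7,8,9,5,10,11,5,4,3,2,1,0,5,6,7,8,9,5,10,11,5,4,3,2,1,0,5,6,7,8,9,5,10,11,5,4,3,2,1,0,5,6,7,8,9,5,10,11,5,4,3,2,1,0,5,6,7,8,9,5,10,11,5,4,3,2,1,0,5,6,7,8,9,5,10,11,5,4,3,2,1,0,5,6,7,8,9,5,10,11,5,4,3,2,1,0,5,6,7,8,9,5,10,11,5,4,3,2,1,0,5,6,7,8,9,5,10,11,5,4,3,2,1,0,5,6,7,8,9,5,10,11,5,4,3,2,1,0,5,6,7,8,9,5,10])))))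
 (Tr.node (Tr.node (Tr.node (Tr.node (Tr.leaf [0,9,0,9])
 (Tr.leaf [5,6,7,8,9,5,10,11,5,4,3,2,1,0,5,6,7,8,9,5,10,11,5,4,3,2,1,0,5,6,7,8,9,5,10,11,5,4,3,2,1,0,5,6,7,8,9,5,10,11,5,4,3,2,1,0,5,6,7,8,9,5,10,11,5,4,3,2,1,0,5,6,7,8,9,5,10,11,5,4,3,2,1,0,5,6,7,8,9,5,10,11,5,4,3,2,1,0,5,6,7,8,9,5,10,11,5,4,3,2,1,0,5,6,7,8,9,5,10,11,5,4,3,2,1,0,5,6,7,8,9,5,10,11,5,4,3,2,1,0,5,6,7,8,9,5,10,11,5,4,3,2,1,0,5,6,7,8,9,5,10,11,5,4,3,2,1,0,5,6,7,8,9,5,10,11,5,4,3,2,1,0,5,6,7,8,9,5,10,11,5,4,3,2,1,0,5,6,7,8,9,5,10,11,5,4,3,2,1,0,5,6,7,8,9,5,10,11,5,4,3,2,1,0,5,6,7,8,9,5,10,11,5,4,3,2,1,0]))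
 (Tr.node (Tr.leaf [3,2,10,7,6,5,4,3,2,10,7,6,5,4,3,2,10,7,6,5,4,3,2,10,7,6,5,4,3,2,10,7,6,5,4,3,2,10,7,6,5,4,3,2,10,7,6,5,4,3,2,10,7,6,5,4,3,2,0,10,7,6,5,4])
 (Tr.leaf [11,5,4,3,2,1,0,5,6,7,8,9,5,10,11,5,4,3,2,1,0,5,6,7,8,9,5,10,11,5,4,3,2,1,0,5,6,7,8,9,5,10,11,5,4,3,2,1,0,5,6,7,8,9,5,10,11,5,4,3,2,1,0,5,6,7,8,9,5,10,11,5,4,3,2,1,0,5,6,7,8,9,5,10,11,5,4,3,2,1,0,5,6,7,8,9,5,10,11,5,4,3,2,1,0,5,6,7,8,9,5,10,11,5,4,3,2,1,0,5,6,7,8,9,5,10,11,5,4,3,2,1,0,5,6,7,8,9,5,10,11,5,4,3,2,1,0,5,6,7,8,9,5,10,11,5,4,3,2,1,0,5,6,7,8,9,5,10,11,5,4,3,2,1,0,5,6,7,8,9,5,10,11,5,4,3,2,1,0,5,6,7,8,9,5,10,11,5,4,3,2,1,0,5,6,7,8,9,5,10,11,5,4,3,2,1,0,5,6,7,8,9,5,10,11,5,4,3,2,1,0,5,6,7,8,9,5,10])))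
 (Tr.node (Tr.node (Tr.leaf [4,7,4,7])
 (Tr.leaf [11,5,4,3,2,1,0,5,6,7,8,9,5,10,11,5,4,3,2,1,0,5,6,7,8,9,5,10,11,5,4,3,2,1,0,5,6,7,8,9,5,10,11,5,4,3,2,1,0,5,6,7,8,9,5,10,11,5,4,3,2,1,0,5,6,7,8,9,5,10,11,5,4,3,2,1,0,5,6,7,8,9,5,10,11,5,4,3,2,1,0,5,6,7,8,9,5,10,11,5,4,3,2,1,0,5,6,7,8,9,5,10,11,5,4,3,2,1,0,5,6,7,8,9,5,10,11,5,4,3,2,1,0,5,6,7,8,9,5,10,11,5,4,3,2,1,0,5,6,7,8,9,5,10,11,5,4,3,2,1,0,5,6,7,8,9,5,10,11,5,4,3,2,1,0,5,6,7,8,9,5,10,11,5,4,3,2,1,0,5,6,7,8,9,5,10,11,5,4,3,2,1,0,5,6,7,8,9,5,10,11,5,4,3,2,1,0,5,6,7,8,9,5,10,11,5,4,3,2,1,0,5,6,7,8,9,5,10]))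
 (Tr.node (Tr.leaf [6,5,4,3,2,10,7,6,5,4,3,2,10,7,6,5,4,3,2,10,7,6,5,4,3,2,0,10,7,6,5,4,3,2,10,7,6,5,4,3,2,10,7,6,5,4,3,2,10,7,6,5,4,3,2,10,7,6,5,4,3,2,10,7])
 (Tr.leaf [11,5,4,3,2,1,0,5,6,7,8,9,5,10,11,5,4,3,2,1,0,5,6,7,8,9,5,10,11,5,4,3,2,1,0,5,6,7,8,9,5,10,11,5,4,3,2,1,0,5,6,7,8,9,5,10,11,5,4,3,2,1,0,5,6,7,8,9,5,10,11,5,4,3,2,1,0,5,6,7,8,9,5,10,11,5,4,3,2,1,0,5,6,7,8,9,5,10,11,5,4,3,2,1,0,5,6,7,8,9,5,10,11,5,4,3,2,1,0,5,6,7,8,9,5,10,11,5,4,3,2,1,0,5,6,7,8,9,5,10,11,5,4,3,2,1,0,5,6,7,8,9,5,10,11,5,4,3,2,1,0,5,6,7,8,9,5,10,11,5,4,3,2,1,0,5,6,7,8,9,5,10,11,5,4,3,2,1,0,5,6,7,8,9,5,10,11,5,4,3,2,1,0,5,6,7,8,9,5,10,11,5,4,3,2,1,0,5,6,7,8,9,5,10,11,5,4,3,2,1,0,5,6,7,8,9,5,10]))))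
 (Tr.node (Tr.node (Tr.node (Tr.leaf [2,6,2,6])
 (Tr.leaf [11,5,4,3,2,1,0,5,6,7,8,9,5,10,11,5,4,3,2,1,0,5,6,7,8,9,5,10,11,5,4,3,2,1,0,5,6,7,8,9,5,10,11,5,4,3,2,1,0,5,6,7,8,9,5,10,11,5,4,3,2,1,0,5,6,7,8,9,5,10,11,5,4,3,2,1,0,5,6,7,8,9,5,10,11,5,4,3,2,1,0,5,6,7,8,9,5,10,11,5,4,3,2,1,0,5,6,7,8,9,5,10,11,5,4,3,2,1,0,5,6,7,8,9,5,10,11,5,4,3,2,1,0,5,6,7,8,9,5,10,11,5,4,3,2,1,0,5,6,7,8,9,5,10,11,5,4,3,2,1,0,5,6,7,8,9,5,10,11,5,4,3,2,1,0,5,6,7,8,9,5,10,11,5,4,3,2,1,0,5,6,7,8,9,5,10,11,5,4,3,2,1,0,5,6,7,8,9,5,10,11,5,4,3,2,1,0,5,6,7,8,9,5,10,11,5,4,3,2,1,0,5,6,7,8,9,5,10]))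
 (Tr.node (Tr.leaf [10,7,6,5,4,3,2,10,7,6,5,4,3,2,10,7,6,5,4,3,2,10,7,6,5,4,3,2,10,7,6,5,4,3,2,10,7,6,5,4,3,2,0,10,7,6,5,4,3,2,10,7,6,5,4,3,2,10,7,6,5,4,3,2])
 (Tr.leaf [11,5,4,3,2,1,0,5,6,7,8,9,5,10,11,5,4,3,2,1,0,5,6,7,8,9,5,10,11,5,4,3,2,1,0,5,6,7,8,9,5,10,11,5,4,3,2,1,0,5,6,7,8,9,5,10,11,5,4,3,2,1,0,5,6,7,8,9,5,10,11,5,4,3,2,1,0,5,6,7,8,9,5,10,11,5,4,3,2,1,0,5,6,7,8,9,5,10,11,5,4,3,2,1,0,5,6,7,8,9,5,10,11,5,4,3,2,1,0,5,6,7,8,9,5,10,11,5,4,3,2,1,0,5,6,7,8,9,5,10,11,5,4,3,2,1,0,5,6,7,8,9,5,10,11,5,4,3,2,1,0,5,6,7,8,9,5,10,11,5,4,3,2,1,0,5,6,7,8,9,5,10,11,5,4,3,2,1,0,5,6,7,8,9,5,10,11,5,4,3,2,1,0,5,6,7,8,9,5,10,11,5,4,3,2,1,0,5,6,7,8,9,5,10,11,5,4,3,2,1,0,5,6,7,8,9,5,10])))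
 (Tr.node (Tr.node (Tr.leaf [7,8,7,8,7,8])
 (Tr.leaf [11,5,4,3,2,1,0,5,6,7,8,9,5,10,11,5,4,3,2,1,0,5,6,7,8,9,5,10,11,5,4,3,2,1,0,5,6,7,8,9,5,10,11,5,4,3,2,1,0,5,6,7,8,9,5,10,11,5,4,3,2,1,0,5,6,7,8,9,5,10,11,5,4,3,2,1,0,5,6,7,8,9,5,10,11,5,4,3,2,1,0,5,6,7,8,9,5,10,11,5,4,3,2,1,0,5,6,7,8,9,5,10,11,5,4,3,2,1,0,5,6,7,8,9,5,10,11,5,4,3,2,1,0,5,6,7,8,9,5,10,11,5,4,3,2,1,0,5,6,7,8,9,5,10,11,5,4,3,2,1,0,5,6,7,8,9,5,10,11,5,4,3,2,1,0,5,6,7,8,9,5,10,11,5,4,3,2,1,0,5,6,7,8,9,5,10,11,5,4,3,2,1,0,5,6,7,8,9,5,10,11,5,4,3,2,1,0,5,6,7,8,9,5,10,11,5,4,3,2,1,0,5,6,7,8,9,5,10]))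
 (Tr.node (Tr.leaf [4,3,2,10,7,6,5,4,3,2,0,10,7,6,5,4,3,2,10,7,6,5,4,3,2,10,7,6,5,4,3,2,10,7,6,5,4,3,2,10,7,6,5,4,3,2,10,7,6,5,4,3,2,10,7,6,5,4,3,2,10,7,6,5])
 (Tr.leaf [11,5,4,3,2,1,0,5,6,7,8,9,5,10,11,5,4,3,2,1,0,5,6,7,8,9,5,10,11,5,4,3,2,1,0,5,6,7,8,9,5,10,11,5,4,3,2,1,0,5,6,7,8,9,5,10,11,5,4,3,2,1,0,5,6,7,8,9,5,10,11,5,4,3,2,1,0,5,6,7,8,9,5,10,11,5,4,3,2,1,0,5,6,7,8,9,5,10,11,5,4,3,2,1,0,5,6,7,8,9,5,10,11,5,4,3,2,1,0,5,6,7,8,9,5,10,11,5,4,3,2,1,0,5,6,7,8,9,5,10,11,5,4,3,2,1,0,5,6,7,8,9,5,10,11,5,4,3,2,1,0,5,6,7,8,9,5,10,11,5,4,3,2,1,0,5,6,7,8,9,5,10,11,5,4,3,2,1,0,5,6,7,8,9,5,10,11,5,4,3,2,1,0,5,6,7,8,9,5,10,11,5,4,3,2,1,0,5,6,7,8,9,5,10,11,5,4,3,2,1,0,5,6,7,8,9,5,10])))))))))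
 (Tr.node (Tr.node (Tr.node (Tr.node (Tr.node (Tr.node (Tr.node (Tr.node (Tr.leaf [0,0])
 (Tr.leaf [2,3,4,5,6,7,10,0,2,3,4,5,6,7,10,2,3,4,5,6,7,10,2,3,4,5,6,7,10,2,3,4,5,6,7,10,2,3,4,5,6,7,10,2,3,4,5,6,7,10,2,3,4,5,6,7,10,2,3,4,5,6,7,10]))
 (Tr.node (Tr.leaf [10,7,10,7])
 (Tr.leaf [11,5,4,3,2,1,0,5,6,7,8,9,5,10,11,5,4,3,2,1,0,5,6,7,8,9,5,10,11,5,4,3,2,1,0,5,6,7,8,9,5,10,11,5,4,3,2,1,0,5,6,7,8,9,5,10,11,5,4,3,2,1,0,5,6,7,8,9,5,10,11,5,4,3,2,1,0,5,6,7,8,9,5,10,11,5,4,3,2,1,0,5,6,7,8,9,5,10,11,5,4,3,2,1,0,5,6,7,8,9,5,10,11,5,4,3,2,1,0,5,6,7,8,9,5,10,11,5,4,3,2,1,0,5,6,7,8,9,5,10,11,5,4,3,2,1,0,5,6,7,8,9,5,10,11,5,4,3,2,1,0,5,6,7,8,9,5,10,11,5,4,3,2,1,0,5,6,7,8,9,5,10,11,5,4,3,2,1,0,5,6,7,8,9,5,10,11,5,4,3,2,1,0,5,6,7,8,9,5,10,11,5,4,3,2,1,0,5,6,7,8,9,5,10,11,5,4,3,2,1,0,5,6,7,8,9,5,10])))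
 (Tr.node (Tr.node (Tr.leaf [8,2,8,2])
 (Tr.leaf [11,5,4,3,2,1,0,5,6,7,8,9,5,10,11,5,4,3,2,1,0,5,6,7,8,9,5,10,11,5,4,3,2,1,0,5,6,7,8,9,5,10,11,5,4,3,2,1,0,5,6,7,8,9,5,10,11,5,4,3,2,1,0,5,6,7,8,9,5,10,11,5,4,3,2,1,0,5,6,7,8,9,5,10,11,5,4,3,2,1,0,5,6,7,8,9,5,10,11,5,4,3,2,1,0,5,6,7,8,9,5,10,11,5,4,3,2,1,0,5,6,7,8,9,5,10,11,5,4,3,2,1,0,5,6,7,8,9,5,10,11,5,4,3,2,1,0,5,6,7,8,9,5,10,11,5,4,3,2,1,0,5,6,7,8,9,5,10,11,5,4,3,2,1,0,5,6,7,8,9,5,10,11,5,4,3,2,1,0,5,6,7,8,9,5,10,11,5,4,3,2,1,0,5,6,7,8,9,5,10,11,5,4,3,2,1,0,5,6,7,8,9,5,10,11,5,4,3,2,1,0,5,6,7,8,9,5,10]))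
 (Tr.node (Tr.leaf [5,6,7,10,2,3,4,5,6,7,10,2,3,4,5,6,7,10,2,3,4,5,6,7,10,2,3,4,5,6,7,10,2,3,4,5,6,7,10,0,2,3,4,5,6,7,10,2,3,4,5,6,7,10,2,3,4,5,6,7,10,2,3,4])
 (Tr.leaf [11,5,4,3,2,1,0,5,6,7,8,9,5,10,11,5,4,3,2,1,0,5,6,7,8,9,5,10,11,5,4,3,2,1,0,5,6,7,8,9,5,10,11,5,4,3,2,1,0,5,6,7,8,9,5,10,11,5,4,3,2,1,0,5,6,7,8,9,5,10,11,5,4,3,2,1,0,5,6,7,8,9,5,10,11,5,4,3,2,1,0,5,6,7,8,9,5,10,11,5,4,3,2,1,0,5,6,7,8,9,5,10,11,5,4,3,2,1,0,5,6,7,8,9,5,10,11,5,4,3,2,1,0,5,6,7,8,9,5,10,11,5,4,3,2,1,0,5,6,7,8,9,5,10,11,5,4,3,2,1,0,5,6,7,8,9,5,10,11,5,4,3,2,1,0,5,6,7,8,9,5,10,11,5,4,3,2,1,0,5,6,7,8,9,5,10,11,5,4,3,2,1,0,5,6,7,8,9,5,10,11,5,4,3,2,1,0,5,6,7,8,9,5,10,11,5,4,3,2,1,0,5,6,7,8,9,5,10]))))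
 (Tr.node (Tr.node (Tr.node (Tr.leaf [11,0,11,0])
 (Tr.leaf [0,1,2,3,4,5,11,10,5,9,8,7,6,5,0,1,2,3,4,5,11,10,5,9,8,7,6,5,0,1,2,3,4,5,11,10,5,9,8,7,6,5,0,1,2,3,4,5,11,10,5,9,8,7,6,5,0,1,2,3,4,5,11,10,5,9,8,7,6,5,0,1,2,3,4,5,11,10,5,9,8,7,6,5,0,1,2,3,4,5,11,10,5,9,8,7,6,5,0,1,2,3,4,5,11,10,5,9,8,7,6,5,0,1,2,3,4,5,11,10,5,9,8,7,6,5,0,1,2,3,4,5,11,10,5,9,8,7,6,5,0,1,2,3,4,5,11,10,5,9,8,7,6,5,0,1,2,3,4,5,11,10,5,9,8,7,6,5,0,1,2,3,4,5,11,10,5,9,8,7,6,5,0,1,2,3,4,5,11,10,5,9,8,7,6,5,0,1,2,3,4,5,11,10,5,9,8,7,6,5,0,1,2,3,4,5,11,10,5,9,8,7,6,5,0,1,2,3,4,5,11,10,5,9,8,7,6,5]))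
 (Tr.node (Tr.leaf [3,4,5,6,7,10,2,3,4,5,6,7,10,2,3,4,5,6,7,10,2,3,4,5,6,7,10,2,3,4,5,6,7,10,2,3,4,5,6,7,10,2,3,4,5,6,7,10,2,3,4,5,6,7,10,0,2,3,4,5,6,7,10,2])
 (Tr.leaf [11,5,4,3,2,1,0,5,6,7,8,9,5,10,11,5,4,3,2,1,0,5,6,7,8,9,5,10,11,5,4,3,2,1,0,5,6,7,8,9,5,10,11,5,4,3,2,1,0,5,6,7,8,9,5,10,11,5,4,3,2,1,0,5,6,7,8,9,5,10,11,5,4,3,2,1,0,5,6,7,8,9,5,10,11,5,4,3,2,1,0,5,6,7,8,9,5,10,11,5,4,3,2,1,0,5,6,7,8,9,5,10,11,5,4,3,2,1,0,5,6,7,8,9,5,10,11,5,4,3,2,1,0,5,6,7,8,9,5,10,11,5,4,3,2,1,0,5,6,7,8,9,5,10,11,5,4,3,2,1,0,5,6,7,8,9,5,10,11,5,4,3,2,1,0,5,6,7,8,9,5,10,11,5,4,3,2,1,0,5,6,7,8,9,5,10,11,5,4,3,2,1,0,5,6,7,8,9,5,10,11,5,4,3,2,1,0,5,6,7,8,9,5,10,11,5,4,3,2,1,0,5,6,7,8,9,5,10])))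
 (Tr.node (Tr.node (Tr.leaf [9,4,9,4])
 (Tr.leaf [11,5,4,3,2,1,0,5,6,7,8,9,5,10,11,5,4,3,2,1,0,5,6,7,8,9,5,10,11,5,4,3,2,1,0,5,6,7,8,9,5,10,11,5,4,3,2,1,0,5,6,7,8,9,5,10,11,5,4,3,2,1,0,5,6,7,8,9,5,10,11,5,4,3,2,1,0,5,6,7,8,9,5,10,11,5,4,3,2,1,0,5,6,7,8,9,5,10,11,5,4,3,2,1,0,5,6,7,8,9,5,10,11,5,4,3,2,1,0,5,6,7,8,9,5,10,11,5,4,3,2,1,0,5,6,7,8,9,5,10,11,5,4,3,2,1,0,5,6,7,8,9,5,10,11,5,4,3,2,1,0,5,6,7,8,9,5,10,11,5,4,3,2,1,0,5,6,7,8,9,5,10,11,5,4,3,2,1,0,5,6,7,8,9,5,10,11,5,4,3,2,1,0,5,6,7,8,9,5,10,11,5,4,3,2,1,0,5,6,7,8,9,5,10,11,5,4,3,2,1,0,5,6,7,8,9,5,10]))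
 (Tr.node (Tr.leaf [7,10,2,3,4,5,6,7,10,2,3,4,5,6,7,10,2,3,4,5,6,7,10,0,2,3,4,5,6,7,10,2,3,4,5,6,7,10,2,3,4,5,6,7,10,2,3,4,5,6,7,10,2,3,4,5,6,7,10,2,3,4,5,6])
 (Tr.leaf [11,5,4,3,2,1,0,5,6,7,8,9,5,10,11,5,4,3,2,1,0,5,6,7,8,9,5,10,11,5,4,3,2,1,0,5,6,7,8,9,5,10,11,5,4,3,2,1,0,5,6,7,8,9,5,10,11,5,4,3,2,1,0,5,6,7,8,9,5,10,11,5,4,3,2,1,0,5,6,7,8,9,5,10,11,5,4,3,2,1,0,5,6,7,8,9,5,10,11,5,4,3,2,1,0,5,6,7,8,9,5,10,11,5,4,3,2,1,0,5,6,7,8,9,5,10,11,5,4,3,2,1,0,5,6,7,8,9,5,10,11,5,4,3,2,1,0,5,6,7,8,9,5,10,11,5,4,3,2,1,0,5,6,7,8,9,5,10,11,5,4,3,2,1,0,5,6,7,8,9,5,10,11,5,4,3,2,1,0,5,6,7,8,9,5,10,11,5,4,3,2,1,0,5,6,7,8,9,5,10,11,5,4,3,2,1,0,5,6,7,8,9,5,10,11,5,4,3,2,1,0,5,6,7,8,9,5,10])))))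
 (Tr.node (Tr.node (Tr.node (Tr.node (Tr.leaf [3,0,3,0])
 (Tr.leaf [11,10,5,9,8,7,6,5,0,1,2,3,4,5,11,10,5,9,8,7,6,5,0,1,2,3,4,5,11,10,5,9,8,7,6,5,0,1,2,3,4,5,11,10,5,9,8,7,6,5,0,1,2,3,4,5,11,10,5,9,8,7,6,5,0,1,2,3,4,5,11,10,5,9,8,7,6,5,0,1,2,3,4,5,11,10,5,9,8,7,6,5,0,1,2,3,4,5,11,10,5,9,8,7,6,5,0,1,2,3,4,5,11,10,5,9,8,7,6,5,0,1,2,3,4,5,11,10,5,9,8,7,6,5,0,1,2,3,4,5,11,10,5,9,8,7,6,5,0,1,2,3,4,5,11,10,5,9,8,7,6,5,0,1,2,3,4,5,11,10,5,9,8,7,6,5,0,1,2,3,4,5,11,10,5,9,8,7,6,5,0,1,2,3,4,5,11,10,5,9,8,7,6,5,0,1,2,3,4,5,11,10,5,9,8,7,6,5,0,1,2,3,4,5,11,10,5,9,8,7,6,5,0,1,2,3,4,5]))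
 (Tr.node (Tr.leaf [2,3,4,5,6,7,10,2,3,4,5,6,7,10,2,3,4,5,6,7,10,2,3,4,5,6,7,10,2,3,4,5,6,7,10,2,3,4,5,6,7,10,2,3,4,5,6,7,10,2,3,4,5,6,7,10,2,3,4,5,6,7,10,0])
 (Tr.leaf [11,5,4,3,2,1,0,5,6,7,8,9,5,10,11,5,4,3,2,1,0,5,6,7,8,9,5,10,11,5,4,3,2,1,0,5,6,7,8,9,5,10,11,5,4,3,2,1,0,5,6,7,8,9,5,10,11,5,4,3,2,1,0,5,6,7,8,9,5,10,11,5,4,3,2,1,0,5,6,7,8,9,5,10,11,5,4,3,2,1,0,5,6,7,8,9,5,10,11,5,4,3,2,1,0,5,6,7,8,9,5,10,11,5,4,3,2,1,0,5,6,7,8,9,5,10,11,5,4,3,2,1,0,5,6,7,8,9,5,10,11,5,4,3,2,1,0,5,6,7,8,9,5,10,11,5,4,3,2,1,0,5,6,7,8,9,5,10,11,5,4,3,2,1,0,5,6,7,8,9,5,10,11,5,4,3,2,1,0,5,6,7,8,9,5,10,11,5,4,3,2,1,0,5,6,7,8,9,5,10,11,5,4,3,2,1,0,5,6,7,8,9,5,10,11,5,4,3,2,1,0,5,6,7,8,9,5,10])))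
 (Tr.node (Tr.node (Tr.leaf [8,3,8,3])
 (Tr.leaf [11,5,4,3,2,1,0,5,6,7,8,9,5,10,11,5,4,3,2,1,0,5,6,7,8,9,5,10,11,5,4,3,2,1,0,5,6,7,8,9,5,10,11,5,4,3,2,1,0,5,6,7,8,9,5,10,11,5,4,3,2,1,0,5,6,7,8,9,5,10,11,5,4,3,2,1,0,5,6,7,8,9,5,10,11,5,4,3,2,1,0,5,6,7,8,9,5,10,11,5,4,3,2,1,0,5,6,7,8,9,5,10,11,5,4,3,2,1,0,5,6,7,8,9,5,10,11,5,4,3,2,1,0,5,6,7,8,9,5,10,11,5,4,3,2,1,0,5,6,7,8,9,5,10,11,5,4,3,2,1,0,5,6,7,8,9,5,10,11,5,4,3,2,1,0,5,6,7,8,9,5,10,11,5,4,3,2,1,0,5,6,7,8,9,5,10,11,5,4,3,2,1,0,5,6,7,8,9,5,10,11,5,4,3,2,1,0,5,6,7,8,9,5,10,11,5,4,3,2,1,0,5,6,7,8,9,5,10]))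
 (Tr.node (Tr.leaf [6,7,10,2,3,4,5,6,7,10,2,3,4,5,6,7,10,2,3,4,5,6,7,10,2,3,4,5,6,7,10,0,2,3,4,5,6,7,10,2,3,4,5,6,7,10,2,3,4,5,6,7,10,2,3,4,5,6,7,10,2,3,4,5])
 (Tr.leaf [11,5,4,3,2,1,0,5,6,7,8,9,5,10,11,5,4,3,2,1,0,5,6,7,8,9,5,10,11,5,4,3,2,1,0,5,6,7,8,9,5,10,11,5,4,3,2,1,0,5,6,7,8,9,5,10,11,5,4,3,2,1,0,5,6,7,8,9,5,10,11,5,4,3,2,1,0,5,6,7,8,9,5,10,11,5,4,3,2,1,0,5,6,7,8,9,5,10,11,5,4,3,2,1,0,5,6,7,8,9,5,10,11,5,4,3,2,1,0,5,6,7,8,9,5,10,11,5,4,3,2,1,0,5,6,7,8,9,5,10,11,5,4,3,2,1,0,5,6,7,8,9,5,10,11,5,4,3,2,1,0,5,6,7,8,9,5,10,11,5,4,3,2,1,0,5,6,7,8,9,5,10,11,5,4,3,2,1,0,5,6,7,8,9,5,10,11,5,4,3,2,1,0,5,6,7,8,9,5,10,11,5,4,3,2,1,0,5,6,7,8,9,5,10,11,5,4,3,2,1,0,5,6,7,8,9,5,10]))))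
 (Tr.node (Tr.node (Tr.node (Tr.leaf [9,1,9,1])
 (Tr.leaf [11,5,4,3,2,1,0,5,6,7,8,9,5,10,11,5,4,3,2,1,0,5,6,7,8,9,5,10,11,5,4,3,2,1,0,5,6,7,8,9,5,10,11,5,4,3,2,1,0,5,6,7,8,9,5,10,11,5,4,3,2,1,0,5,6,7,8,9,5,10,11,5,4,3,2,1,0,5,6,7,8,9,5,10,11,5,4,3,2,1,0,5,6,7,8,9,5,10,11,5,4,3,2,1,0,5,6,7,8,9,5,10,11,5,4,3,2,1,0,5,6,7,8,9,5,10,11,5,4,3,2,1,0,5,6,7,8,9,5,10,11,5,4,3,2,1,0,5,6,7,8,9,5,10,11,5,4,3,2,1,0,5,6,7,8,9,5,10,11,5,4,3,2,1,0,5,6,7,8,9,5,10,11,5,4,3,2,1,0,5,6,7,8,9,5,10,11,5,4,3,2,1,0,5,6,7,8,9,5,10,11,5,4,3,2,1,0,5,6,7,8,9,5,10,11,5,4,3,2,1,0,5,6,7,8,9,5,10]))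
 (Tr.node (Tr.leaf [4,5,6,7,10,2,3,4,5,6,7,10,2,3,4,5,6,7,10,2,3,4,5,6,7,10,2,3,4,5,6,7,10,2,3,4,5,6,7,10,2,3,4,5,6,7,10,0,2,3,4,5,6,7,10,2,3,4,5,6,7,10,2,3])
 (Tr.leaf [11,5,4,3,2,1,0,5,6,7,8,9,5,10,11,5,4,3,2,1,0,5,6,7,8,9,5,10,11,5,4,3,2,1,0,5,6,7,8,9,5,10,11,5,4,3,2,1,0,5,6,7,8,9,5,10,11,5,4,3,2,1,0,5,6,7,8,9,5,10,11,5,4,3,2,1,0,5,6,7,8,9,5,10,11,5,4,3,2,1,0,5,6,7,8,9,5,10,11,5,4,3,2,1,0,5,6,7,8,9,5,10,11,5,4,3,2,1,0,5,6,7,8,9,5,10,11,5,4,3,2,1,0,5,6,7,8,9,5,10,11,5,4,3,2,1,0,5,6,7,8,9,5,10,11,5,4,3,2,1,0,5,6,7,8,9,5,10,11,5,4,3,2,1,0,5,6,7,8,9,5,10,11,5,4,3,2,1,0,5,6,7,8,9,5,10,11,5,4,3,2,1,0,5,6,7,8,9,5,10,11,5,4,3,2,1,0,5,6,7,8,9,5,10,11,5,4,3,2,1,0,5,6,7,8,9,5,10])))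
 (Tr.node (Tr.node (Tr.leaf [11,5,11,5])
 (Tr.leaf [11,5,4,3,2,1,0,5,6,7,8,9,5,10,11,5,4,3,2,1,0,5,6,7,8,9,5,10,11,5,4,3,2,1,0,5,6,7,8,9,5,10,11,5,4,3,2,1,0,5,6,7,8,9,5,10,11,5,4,3,2,1,0,5,6,7,8,9,5,10,11,5,4,3,2,1,0,5,6,7,8,9,5,10,11,5,4,3,2,1,0,5,6,7,8,9,5,10,11,5,4,3,2,1,0,5,6,7,8,9,5,10,11,5,4,3,2,1,0,5,6,7,8,9,5,10,11,5,4,3,2,1,0,5,6,7,8,9,5,10,11,5,4,3,2,1,0,5,6,7,8,9,5,10,11,5,4,3,2,1,0,5,6,7,8,9,5,10,11,5,4,3,2,1,0,5,6,7,8,9,5,10,11,5,4,3,2,1,0,5,6,7,8,9,5,10,11,5,4,3,2,1,0,5,6,7,8,9,5,10,11,5,4,3,2,1,0,5,6,7,8,9,5,10,11,5,4,3,2,1,0,5,6,7,8,9,5,10]))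
 (Tr.node (Tr.leaf [10,2,3,4,5,6,7,10,2,3,4,5,6,7,10,0,2,3,4,5,6,7,10,2,3,4,5,6,7,10,2,3,4,5,6,7,10,2,3,4,5,6,7,10,2,3,4,5,6,7,10,2,3,4,5,6,7,10,2,3,4,5,6,7])
 (Tr.leaf [11,5,4,3,2,1,0,5,6,7,8,9,5,10,11,5,4,3,2,1,0,5,6,7,8,9,5,10,11,5,4,3,2,1,0,5,6,7,8,9,5,10,11,5,4,3,2,1,0,5,6,7,8,9,5,10,11,5,4,3,2,1,0,5,6,7,8,9,5,10,11,5,4,3,2,1,0,5,6,7,8,9,5,10,11,5,4,3,2,1,0,5,6,7,8,9,5,10,11,5,4,3,2,1,0,5,6,7,8,9,5,10,11,5,4,3,2,1,0,5,6,7,8,9,5,10,11,5,4,3,2,1,0,5,6,7,8,9,5,10,11,5,4,3,2,1,0,5,6,7,8,9,5,10,11,5,4,3,2,1,0,5,6,7,8,9,5,10,11,5,4,3,2,1,0,5,6,7,8,9,5,10,11,5,4,3,2,1,0,5,6,7,8,9,5,10,11,5,4,3,2,1,0,5,6,7,8,9,5,10,11,5,4,3,2,1,0,5,6,7,8,9,5,10,11,5,4,3,2,1,0,5,6,7,8,9,5,10]))))))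
 (Tr.node (Tr.node (Tr.node (Tr.node (Tr.node (Tr.leaf [8,8])
 (Tr.leaf [6,7,10,0,2,3,4,5,6,7,10,2,3,4,5,6,7,10,2,3,4,5,6,7,10,2,3,4,5,6,7,10,2,3,4,5,6,7,10,2,3,4,5,6,7,10,2,3,4,5,6,7,10,2,3,4,5,6,7,10,2,3,4,5]))
 (Tr.node (Tr.leaf [11,8,11,8])
 (Tr.leaf [11,5,4,3,2,1,0,5,6,7,8,9,5,10,11,5,4,3,2,1,0,5,6,7,8,9,5,10,11,5,4,3,2,1,0,5,6,7,8,9,5,10,11,5,4,3,2,1,0,5,6,7,8,9,5,10,11,5,4,3,2,1,0,5,6,7,8,9,5,10,11,5,4,3,2,1,0,5,6,7,8,9,5,10,11,5,4,3,2,1,0,5,6,7,8,9,5,10,11,5,4,3,2,1,0,5,6,7,8,9,5,10,11,5,4,3,2,1,0,5,6,7,8,9,5,10,11,5,4,3,2,1,0,5,6,7,8,9,5,10,11,5,4,3,2,1,0,5,6,7,8,9,5,10,11,5,4,3,2,1,0,5,6,7,8,9,5,10,11,5,4,3,2,1,0,5,6,7,8,9,5,10,11,5,4,3,2,1,0,5,6,7,8,9,5,10,11,5,4,3,2,1,0,5,6,7,8,9,5,10,11,5,4,3,2,1,0,5,6,7,8,9,5,10,11,5,4,3,2,1,0,5,6,7,8,9,5,10])))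
 (Tr.node (Tr.node (Tr.leaf [4,3,4,3,4,3])
 (Tr.leaf [11,5,4,3,2,1,0,5,6,7,8,9,5,10,11,5,4,3,2,1,0,5,6,7,8,9,5,10,11,5,4,3,2,1,0,5,6,7,8,9,5,10,11,5,4,3,2,1,0,5,6,7,8,9,5,10,11,5,4,3,2,1,0,5,6,7,8,9,5,10,11,5,4,3,2,1,0,5,6,7,8,9,5,10,11,5,4,3,2,1,0,5,6,7,8,9,5,10,11,5,4,3,2,1,0,5,6,7,8,9,5,10,11,5,4,3,2,1,0,5,6,7,8,9,5,10,11,5,4,3,2,1,0,5,6,7,8,9,5,10,11,5,4,3,2,1,0,5,6,7,8,9,5,10,11,5,4,3,2,1,0,5,6,7,8,9,5,10,11,5,4,3,2,1,0,5,6,7,8,9,5,10,11,5,4,3,2,1,0,5,6,7,8,9,5,10,11,5,4,3,2,1,0,5,6,7,8,9,5,10,11,5,4,3,2,1,0,5,6,7,8,9,5,10,11,5,4,3,2,1,0,5,6,7,8,9,5,10]))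
 (Tr.node (Tr.leaf [2,3,4,5,6,7,10,2,3,4,5,6,7,10,2,3,4,5,6,7,10,2,3,4,5,6,7,10,2,3,4,5,6,7,10,0,2,3,4,5,6,7,10,2,3,4,5,6,7,10,2,3,4,5,6,7,10,2,3,4,5,6,7,10])
 (Tr.leaf [11,5,4,3,2,1,0,5,6,7,8,9,5,10,11,5,4,3,2,1,0,5,6,7,8,9,5,10,11,5,4,3,2,1,0,5,6,7,8,9,5,10,11,5,4,3,2,1,0,5,6,7,8,9,5,10,11,5,4,3,2,1,0,5,6,7,8,9,5,10,11,5,4,3,2,1,0,5,6,7,8,9,5,10,11,5,4,3,2,1,0,5,6,7,8,9,5,10,11,5,4,3,2,1,0,5,6,7,8,9,5,10,11,5,4,3,2,1,0,5,6,7,8,9,5,10,11,5,4,3,2,1,0,5,6,7,8,9,5,10,11,5,4,3,2,1,0,5,6,7,8,9,5,10,11,5,4,3,2,1,0,5,6,7,8,9,5,10,11,5,4,3,2,1,0,5,6,7,8,9,5,10,11,5,4,3,2,1,0,5,6,7,8,9,5,10,11,5,4,3,2,1,0,5,6,7,8,9,5,10,11,5,4,3,2,1,0,5,6,7,8,9,5,10,11,5,4,3,2,1,0,5,6,7,8,9,5,10]))))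
 (Tr.node (Tr.node (Tr.node (Tr.leaf [5,1,5,1])
 (Tr.leaf [4,5,11,10,5,9,8,7,6,5,0,1,2,3,4,5,11,10,5,9,8,7,6,5,0,1,2,3,4,5,11,10,5,9,8,7,6,5,0,1,2,3,4,5,11,10,5,9,8,7,6,5,0,1,2,3,4,5,11,10,5,9,8,7,6,5,0,1,2,3,4,5,11,10,5,9,8,7,6,5,0,1,2,3,4,5,11,10,5,9,8,7,6,5,0,1,2,3,4,5,11,10,5,9,8,7,6,5,0,1,2,3,4,5,11,10,5,9,8,7,6,5,0,1,2,3,4,5,11,10,5,9,8,7,6,5,0,1,2,3,4,5,11,10,5,9,8,7,6,5,0,1,2,3,4,5,11,10,5,9,8,7,6,5,0,1,2,3,4,5,11,10,5,9,8,7,6,5,0,1,2,3,4,5,11,10,5,9,8,7,6,5,0,1,2,3,4,5,11,10,5,9,8,7,6,5,0,1,2,3,4,5,11,10,5,9,8,7,6,5,0,1,2,3,4,5,11,10,5,9,8,7,6,5,0,1,2,3]))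
 (Tr.node (Tr.leaf [7,10,2,3,4,5,6,7,10,2,3,4,5,6,7,10,2,3,4,5,6,7,10,2,3,4,5,6,7,10,2,3,4,5,6,7,10,2,3,4,5,6,7,10,2,3,4,5,6,7,10,0,2,3,4,5,6,7,10,2,3,4,5,6])
 (Tr.leaf [11,5,4,3,2,1,0,5,6,7,8,9,5,10,11,5,4,3,2,1,0,5,6,7,8,9,5,10,11,5,4,3,2,1,0,5,6,7,8,9,5,10,11,5,4,3,2,1,0,5,6,7,8,9,5,10,11,5,4,3,2,1,0,5,6,7,8,9,5,10,11,5,4,3,2,1,0,5,6,7,8,9,5,10,11,5,4,3,2,1,0,5,6,7,8,9,5,10,11,5,4,3,2,1,0,5,6,7,8,9,5,10,11,5,4,3,2,1,0,5,6,7,8,9,5,10,11,5,4,3,2,1,0,5,6,7,8,9,5,10,11,5,4,3,2,1,0,5,6,7,8,9,5,10,11,5,4,3,2,1,0,5,6,7,8,9,5,10,11,5,4,3,2,1,0,5,6,7,8,9,5,10,11,5,4,3,2,1,0,5,6,7,8,9,5,10,11,5,4,3,2,1,0,5,6,7,8,9,5,10,11,5,4,3,2,1,0,5,6,7,8,9,5,10,11,5,4,3,2,1,0,5,6,7,8,9,5,10])))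
 (Tr.node (Tr.node (Tr.leaf [7,5,7,5])
 (Tr.leaf [11,5,4,3,2,1,0,5,6,7,8,9,5,10,11,5,4,3,2,1,0,5,6,7,8,9,5,10,11,5,4,3,2,1,0,5,6,7,8,9,5,10,11,5,4,3,2,1,0,5,6,7,8,9,5,10,11,5,4,3,2,1,0,5,6,7,8,9,5,10,11,5,4,3,2,1,0,5,6,7,8,9,5,10,11,5,4,3,2,1,0,5,6,7,8,9,5,10,11,5,4,3,2,1,0,5,6,7,8,9,5,10,11,5,4,3,2,1,0,5,6,7,8,9,5,10,11,5,4,3,2,1,0,5,6,7,8,9,5,10,11,5,4,3,2,1,0,5,6,7,8,9,5,10,11,5,4,3,2,1,0,5,6,7,8,9,5,10,11,5,4,3,2,1,0,5,6,7,8,9,5,10,11,5,4,3,2,1,0,5,6,7,8,9,5,10,11,5,4,3,2,1,0,5,6,7,8,9,5,10,11,5,4,3,2,1,0,5,6,7,8,9,5,10,11,5,4,3,2,1,0,5,6,7,8,9,5,10]))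
 (Tr.node (Tr.leaf [4,5,6,7,10,2,3,4,5,6,7,10,2,3,4,5,6,7,10,0,2,3,4,5,6,7,10,2,3,4,5,6,7,10,2,3,4,5,6,7,10,2,3,4,5,6,7,10,2,3,4,5,6,7,10,2,3,4,5,6,7,10,2,3])
 (Tr.leaf [11,5,4,3,2,1,0,5,6,7,8,9,5,10,11,5,4,3,2,1,0,5,6,7,8,9,5,10,11,5,4,3,2,1,0,5,6,7,8,9,5,10,11,5,4,3,2,1,0,5,6,7,8,9,5,10,11,5,4,3,2,1,0,5,6,7,8,9,5,10,11,5,4,3,2,1,0,5,6,7,8,9,5,10,11,5,4,3,2,1,0,5,6,7,8,9,5,10,11,5,4,3,2,1,0,5,6,7,8,9,5,10,11,5,4,3,2,1,0,5,6,7,8,9,5,10,11,5,4,3,2,1,0,5,6,7,8,9,5,10,11,5,4,3,2,1,0,5,6,7,8,9,5,10,11,5,4,3,2,1,0,5,6,7,8,9,5,10,11,5,4,3,2,1,0,5,6,7,8,9,5,10,11,5,4,3,2,1,0,5,6,7,8,9,5,10,11,5,4,3,2,1,0,5,6,7,8,9,5,10,11,5,4,3,2,1,0,5,6,7,8,9,5,10,11,5,4,3,2,1,0,5,6,7,8,9,5,10])))))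
 (Tr.node (Tr.node (Tr.node (Tr.node (Tr.leaf [7,0,7,0])
 (Tr.leaf [8,7,6,5,0,1,2,3,4,5,11,10,5,9,8,7,6,5,0,1,2,3,4,5,11,10,5,9,8,7,6,5,0,1,2,3,4,5,11,10,5,9,8,7,6,5,0,1,2,3,4,5,11,10,5,9,8,7,6,5,0,1,2,3,4,5,11,10,5,9,8,7,6,5,0,1,2,3,4,5,11,10,5,9,8,7,6,5,0,1,2,3,4,5,11,10,5,9,8,7,6,5,0,1,2,3,4,5,11,10,5,9,8,7,6,5,0,1,2,3,4,5,11,10,5,9,8,7,6,5,0,1,2,3,4,5,11,10,5,9,8,7,6,5,0,1,2,3,4,5,11,10,5,9,8,7,6,5,0,1,2,3,4,5,11,10,5,9,8,7,6,5,0,1,2,3,4,5,11,10,5,9,8,7,6,5,0,1,2,3,4,5,11,10,5,9,8,7,6,5,0,1,2,3,4,5,11,10,5,9,8,7,6,5,0,1,2,3,4,5,11,10,5,9,8,7,6,5,0,1,2,3,4,5,11,10,5,9]))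
 (Tr.node (Tr.leaf [6,7,10,2,3,4,5,6,7,10,2,3,4,5,6,7,10,2,3,4,5,6,7,10,2,3,4,5,6,7,10,2,3,4,5,6,7,10,2,3,4,5,6,7,10,2,3,4,5,6,7,10,2,3,4,5,6,7,10,0,2,3,4,5])
 (Tr.leaf [11,5,4,3,2,1,0,5,6,7,8,9,5,10,11,5,4,3,2,1,0,5,6,7,8,9,5,10,11,5,4,3,2,1,0,5,6,7,8,9,5,10,11,5,4,3,2,1,0,5,6,7,8,9,5,10,11,5,4,3,2,1,0,5,6,7,8,9,5,10,11,5,4,3,2,1,0,5,6,7,8,9,5,10,11,5,4,3,2,1,0,5,6,7,8,9,5,10,11,5,4,3,2,1,0,5,6,7,8,9,5,10,11,5,4,3,2,1,0,5,6,7,8,9,5,10,11,5,4,3,2,1,0,5,6,7,8,9,5,10,11,5,4,3,2,1,0,5,6,7,8,9,5,10,11,5,4,3,2,1,0,5,6,7,8,9,5,10,11,5,4,3,2,1,0,5,6,7,8,9,5,10,11,5,4,3,2,1,0,5,6,7,8,9,5,10,11,5,4,3,2,1,0,5,6,7,8,9,5,10,11,5,4,3,2,1,0,5,6,7,8,9,5,10,11,5,4,3,2,1,0,5,6,7,8,9,5,10])))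
 (Tr.node (Tr.node (Tr.leaf [5,4,5,4,5,4])
 (Tr.leaf [11,5,4,3,2,1,0,5,6,7,8,9,5,10,11,5,4,3,2,1,0,5,6,7,8,9,5,10,11,5,4,3,2,1,0,5,6,7,8,9,5,10,11,5,4,3,2,1,0,5,6,7,8,9,5,10,11,5,4,3,2,1,0,5,6,7,8,9,5,10,11,5,4,3,2,1,0,5,6,7,8,9,5,10,11,5,4,3,2,1,0,5,6,7,8,9,5,10,11,5,4,3,2,1,0,5,6,7,8,9,5,10,11,5,4,3,2,1,0,5,6,7,8,9,5,10,11,5,4,3,2,1,0,5,6,7,8,9,5,10,11,5,4,3,2,1,0,5,6,7,8,9,5,10,11,5,4,3,2,1,0,5,6,7,8,9,5,10,11,5,4,3,2,1,0,5,6,7,8,9,5,10,11,5,4,3,2,1,0,5,6,7,8,9,5,10,11,5,4,3,2,1,0,5,6,7,8,9,5,10,11,5,4,3,2,1,0,5,6,7,8,9,5,10,11,5,4,3,2,1,0,5,6,7,8,9,5,10]))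
 (Tr.node (Tr.leaf [3,4,5,6,7,10,2,3,4,5,6,7,10,2,3,4,5,6,7,10,2,3,4,5,6,7,10,0,2,3,4,5,6,7,10,2,3,4,5,6,7,10,2,3,4,5,6,7,10,2,3,4,5,6,7,10,2,3,4,5,6,7,10,2])
 (Tr.leaf [11,5,4,3,2,1,0,5,6,7,8,9,5,10,11,5,4,3,2,1,0,5,6,7,8,9,5,10,11,5,4,3,2,1,0,5,6,7,8,9,5,10,11,5,4,3,2,1,0,5,6,7,8,9,5,10,11,5,4,3,2,1,0,5,6,7,8,9,5,10,11,5,4,3,2,1,0,5,6,7,8,9,5,10,11,5,4,3,2,1,0,5,6,7,8,9,5,10,11,5,4,3,2,1,0,5,6,7,8,9,5,10,11,5,4,3,2,1,0,5,6,7,8,9,5,10,11,5,4,3,2,1,0,5,6,7,8,9,5,10,11,5,4,3,2,1,0,5,6,7,8,9,5,10,11,5,4,3,2,1,0,5,6,7,8,9,5,10,11,5,4,3,2,1,0,5,6,7,8,9,5,10,11,5,4,3,2,1,0,5,6,7,8,9,5,10,11,5,4,3,2,1,0,5,6,7,8,9,5,10,11,5,4,3,2,1,0,5,6,7,8,9,5,10,11,5,4,3,2,1,0,5,6,7,8,9,5,10]))))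
 (Tr.node (Tr.node (Tr.node (Tr.leaf [4,2,4,2])
 (Tr.leaf [11,5,4,3,2,1,0,5,6,7,8,9,5,10,11,5,4,3,2,1,0,5,6,7,8,9,5,10,11,5,4,3,2,1,0,5,6,7,8,9,5,10,11,5,4,3,2,1,0,5,6,7,8,9,5,10,11,5,4,3,2,1,0,5,6,7,8,9,5,10,11,5,4,3,2,1,0,5,6,7,8,9,5,10,11,5,4,3,2,1,0,5,6,7,8,9,5,10,11,5,4,3,2,1,0,5,6,7,8,9,5,10,11,5,4,3,2,1,0,5,6,7,8,9,5,10,11,5,4,3,2,1,0,5,6,7,8,9,5,10,11,5,4,3,2,1,0,5,6,7,8,9,5,10,11,5,4,3,2,1,0,5,6,7,8,9,5,10,11,5,4,3,2,1,0,5,6,7,8,9,5,10,11,5,4,3,2,1,0,5,6,7,8,9,5,10,11,5,4,3,2,1,0,5,6,7,8,9,5,10,11,5,4,3,2,1,0,5,6,7,8,9,5,10,11,5,4,3,2,1,0,5,6,7,8,9,5,10]))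
 (Tr.node (Tr.leaf [10,2,3,4,5,6,7,10,2,3,4,5,6,7,10,2,3,4,5,6,7,10,2,3,4,5,6,7,10,2,3,4,5,6,7,10,2,3,4,5,6,7,10,0,2,3,4,5,6,7,10,2,3,4,5,6,7,10,2,3,4,5,6,7])
 (Tr.leaf [11,5,4,3,2,1,0,5,6,7,8,9,5,10,11,5,4,3,2,1,0,5,6,7,8,9,5,10,11,5,4,3,2,1,0,5,6,7,8,9,5,10,11,5,4,3,2,1,0,5,6,7,8,9,5,10,11,5,4,3,2,1,0,5,6,7,8,9,5,10,11,5,4,3,2,1,0,5,6,7,8,9,5,10,11,5,4,3,2,1,0,5,6,7,8,9,5,10,11,5,4,3,2,1,0,5,6,7,8,9,5,10,11,5,4,3,2,1,0,5,6,7,8,9,5,10,11,5,4,3,2,1,0,5,6,7,8,9,5,10,11,5,4,3,2,1,0,5,6,7,8,9,5,10,11,5,4,3,2,1,0,5,6,7,8,9,5,10,11,5,4,3,2,1,0,5,6,7,8,9,5,10,11,5,4,3,2,1,0,5,6,7,8,9,5,10,11,5,4,3,2,1,0,5,6,7,8,9,5,10,11,5,4,3,2,1,0,5,6,7,8,9,5,10,11,5,4,3,2,1,0,5,6,7,8,9,5,10])))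
 (Tr.node (Tr.node (Tr.leaf [10,6,10,6])
 (Tr.leaf [11,5,4,3,2,1,0,5,6,7,8,9,5,10,11,5,4,3,2,1,0,5,6,7,8,9,5,10,11,5,4,3,2,1,0,5,6,7,8,9,5,10,11,5,4,3,2,1,0,5,6,7,8,9,5,10,11,5,4,3,2,1,0,5,6,7,8,9,5,10,11,5,4,3,2,1,0,5,6,7,8,9,5,10,11,5,4,3,2,1,0,5,6,7,8,9,5,10,11,5,4,3,2,1,0,5,6,7,8,9,5,10,11,5,4,3,2,1,0,5,6,7,8,9,5,10,11,5,4,3,2,1,0,5,6,7,8,9,5,10,11,5,4,3,2,1,0,5,6,7,8,9,5,10,11,5,4,3,2,1,0,5,6,7,8,9,5,10,11,5,4,3,2,1,0,5,6,7,8,9,5,10,11,5,4,3,2,1,0,5,6,7,8,9,5,10,11,5,4,3,2,1,0,5,6,7,8,9,5,10,11,5,4,3,2,1,0,5,6,7,8,9,5,10,11,5,4,3,2,1,0,5,6,7,8,9,5,10]))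
 (Tr.node (Tr.leaf [5,6,7,10,2,3,4,5,6,7,10,0,2,3,4,5,6,7,10,2,3,4,5,6,7,10,2,3,4,5,6,7,10,2,3,4,5,6,7,10,2,3,4,5,6,7,10,2,3,4,5,6,7,10,2,3,4,5,6,7,10,2,3,4])
 (Tr.leaf [11,5,4,3,2,1,0,5,6,7,8,9,5,10,11,5,4,3,2,1,0,5,6,7,8,9,5,10,11,5,4,3,2,1,0,5,6,7,8,9,5,10,11,5,4,3,2,1,0,5,6,7,8,9,5,10,11,5,4,3,2,1,0,5,6,7,8,9,5,10,11,5,4,3,2,1,0,5,6,7,8,9,5,10,11,5,4,3,2,1,0,5,6,7,8,9,5,10,11,5,4,3,2,1,0,5,6,7,8,9,5,10,11,5,4,3,2,1,0,5,6,7,8,9,5,10,11,5,4,3,2,1,0,5,6,7,8,9,5,10,11,5,4,3,2,1,0,5,6,7,8,9,5,10,11,5,4,3,2,1,0,5,6,7,8,9,5,10,11,5,4,3,2,1,0,5,6,7,8,9,5,10,11,5,4,3,2,1,0,5,6,7,8,9,5,10,11,5,4,3,2,1,0,5,6,7,8,9,5,10,11,5,4,3,2,1,0,5,6,7,8,9,5,10,11,5,4,3,2,1,0,5,6,7,8,9,5,10])))))))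
 (Tr.node (Tr.node (Tr.node (Tr.node (Tr.node (Tr.node (Tr.leaf [4,4])
 (Tr.leaf [4,5,6,7,10,0,2,3,4,5,6,7,10,2,3,4,5,6,7,10,2,3,4,5,6,7,10,2,3,4,5,6,7,10,2,3,4,5,6,7,10,2,3,4,5,6,7,10,2,3,4,5,6,7,10,2,3,4,5,6,7,10,2,3]))
 (Tr.node (Tr.leaf [9,8,9,8,9,8])
 (Tr.leaf [11,5,4,3,2,1,0,5,6,7,8,9,5,10,11,5,4,3,2,1,0,5,6,7,8,9,5,10,11,5,4,3,2,1,0,5,6,7,8,9,5,10,11,5,4,3,2,1,0,5,6,7,8,9,5,10,11,5,4,3,2,1,0,5,6,7,8,9,5,10,11,5,4,3,2,1,0,5,6,7,8,9,5,10,11,5,4,3,2,1,0,5,6,7,8,9,5,10,11,5,4,3,2,1,0,5,6,7,8,9,5,10,11,5,4,3,2,1,0,5,6,7,8,9,5,10,11,5,4,3,2,1,0,5,6,7,8,9,5,10,11,5,4,3,2,1,0,5,6,7,8,9,5,10,11,5,4,3,2,1,0,5,6,7,8,9,5,10,11,5,4,3,2,1,0,5,6,7,8,9,5,10,11,5,4,3,2,1,0,5,6,7,8,9,5,10,11,5,4,3,2,1,0,5,6,7,8,9,5,10,11,5,4,3,2,1,0,5,6,7,8,9,5,10,11,5,4,3,2,1,0,5,6,7,8,9,5,10])))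
 (Tr.node (Tr.node (Tr.leaf [10,2,10,2])
 (Tr.leaf [11,5,4,3,2,1,0,5,6,7,8,9,5,10,11,5,4,3,2,1,0,5,6,7,8,9,5,10,11,5,4,3,2,1,0,5,6,7,8,9,5,10,11,5,4,3,2,1,0,5,6,7,8,9,5,10,11,5,4,3,2,1,0,5,6,7,8,9,5,10,11,5,4,3,2,1,0,5,6,7,8,9,5,10,11,5,4,3,2,1,0,5,6,7,8,9,5,10,11,5,4,3,2,1,0,5,6,7,8,9,5,10,11,5,4,3,2,1,0,5,6,7,8,9,5,10,11,5,4,3,2,1,0,5,6,7,8,9,5,10,11,5,4,3,2,1,0,5,6,7,8,9,5,10,11,5,4,3,2,1,0,5,6,7,8,9,5,10,11,5,4,3,2,1,0,5,6,7,8,9,5,10,11,5,4,3,2,1,0,5,6,7,8,9,5,10,11,5,4,3,2,1,0,5,6,7,8,9,5,10,11,5,4,3,2,1,0,5,6,7,8,9,5,10,11,5,4,3,2,1,0,5,6,7,8,9,5,10]))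
 (Tr.node (Tr.leaf [7,10,2,3,4,5,6,7,10,2,3,4,5,6,7,10,2,3,4,5,6,7,10,2,3,4,5,6,7,10,2,3,4,5,6,7,10,0,2,3,4,5,6,7,10,2,3,4,5,6,7,10,2,3,4,5,6,7,10,2,3,4,5,6])
 (Tr.leaf [11,5,4,3,2,1,0,5,6,7,8,9,5,10,11,5,4,3,2,1,0,5,6,7,8,9,5,10,11,5,4,3,2,1,0,5,6,7,8,9,5,10,11,5,4,3,2,1,0,5,6,7,8,9,5,10,11,5,4,3,2,1,0,5,6,7,8,9,5,10,11,5,4,3,2,1,0,5,6,7,8,9,5,10,11,5,4,3,2,1,0,5,6,7,8,9,5,10,11,5,4,3,2,1,0,5,6,7,8,9,5,10,11,5,4,3,2,1,0,5,6,7,8,9,5,10,11,5,4,3,2,1,0,5,6,7,8,9,5,10,11,5,4,3,2,1,0,5,6,7,8,9,5,10,11,5,4,3,2,1,0,5,6,7,8,9,5,10,11,5,4,3,2,1,0,5,6,7,8,9,5,10,11,5,4,3,2,1,0,5,6,7,8,9,5,10,11,5,4,3,2,1,0,5,6,7,8,9,5,10,11,5,4,3,2,1,0,5,6,7,8,9,5,10,11,5,4,3,2,1,0,5,6,7,8,9,5,10]))))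
 (Tr.node (Tr.node (Tr.node (Tr.leaf [3,1,3,1])
 (Tr.leaf [2,3,4,5,11,10,5,9,8,7,6,5,0,1,2,3,4,5,11,10,5,9,8,7,6,5,0,1,2,3,4,5,11,10,5,9,8,7,6,5,0,1,2,3,4,5,11,10,5,9,8,7,6,5,0,1,2,3,4,5,11,10,5,9,8,7,6,5,0,1,2,3,4,5,11,10,5,9,8,7,6,5,0,1,2,3,4,5,11,10,5,9,8,7,6,5,0,1,2,3,4,5,11,10,5,9,8,7,6,5,0,1,2,3,4,5,11,10,5,9,8,7,6,5,0,1,2,3,4,5,11,10,5,9,8,7,6,5,0,1,2,3,4,5,11,10,5,9,8,7,6,5,0,1,2,3,4,5,11,10,5,9,8,7,6,5,0,1,2,3,4,5,11,10,5,9,8,7,6,5,0,1,2,3,4,5,11,10,5,9,8,7,6,5,0,1,2,3,4,5,11,10,5,9,8,7,6,5,0,1,2,3,4,5,11,10,5,9,8,7,6,5,0,1,2,3,4,5,11,10,5,9,8,7,6,5,0,1]))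
 (Tr.node (Tr.leaf [5,6,7,10,2,3,4,5,6,7,10,2,3,4,5,6,7,10,2,3,4,5,6,7,10,2,3,4,5,6,7,10,2,3,4,5,6,7,10,2,3,4,5,6,7,10,2,3,4,5,6,7,10,0,2,3,4,5,6,7,10,2,3,4])
 (Tr.leaf [11,5,4,3,2,1,0,5,6,7,8,9,5,10,11,5,4,3,2,1,0,5,6,7,8,9,5,10,11,5,4,3,2,1,0,5,6,7,8,9,5,10,11,5,4,3,2,1,0,5,6,7,8,9,5,10,11,5,4,3,2,1,0,5,6,7,8,9,5,10,11,5,4,3,2,1,0,5,6,7,8,9,5,10,11,5,4,3,2,1,0,5,6,7,8,9,5,10,11,5,4,3,2,1,0,5,6,7,8,9,5,10,11,5,4,3,2,1,0,5,6,7,8,9,5,10,11,5,4,3,2,1,0,5,6,7,8,9,5,10,11,5,4,3,2,1,0,5,6,7,8,9,5,10,11,5,4,3,2,1,0,5,6,7,8,9,5,10,11,5,4,3,2,1,0,5,6,7,8,9,5,10,11,5,4,3,2,1,0,5,6,7,8,9,5,10,11,5,4,3,2,1,0,5,6,7,8,9,5,10,11,5,4,3,2,1,0,5,6,7,8,9,5,10,11,5,4,3,2,1,0,5,6,7,8,9,5,10])))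
 (Tr.node (Tr.node (Tr.leaf [11,4,11,4])
 (Tr.leaf [11,5,4,3,2,1,0,5,6,7,8,9,5,10,11,5,4,3,2,1,0,5,6,7,8,9,5,10,11,5,4,3,2,1,0,5,6,7,8,9,5,10,11,5,4,3,2,1,0,5,6,7,8,9,5,10,11,5,4,3,2,1,0,5,6,7,8,9,5,10,11,5,4,3,2,1,0,5,6,7,8,9,5,10,11,5,4,3,2,1,0,5,6,7,8,9,5,10,11,5,4,3,2,1,0,5,6,7,8,9,5,10,11,5,4,3,2,1,0,5,6,7,8,9,5,10,11,5,4,3,2,1,0,5,6,7,8,9,5,10,11,5,4,3,2,1,0,5,6,7,8,9,5,10,11,5,4,3,2,1,0,5,6,7,8,9,5,10,11,5,4,3,2,1,0,5,6,7,8,9,5,10,11,5,4,3,2,1,0,5,6,7,8,9,5,10,11,5,4,3,2,1,0,5,6,7,8,9,5,10,11,5,4,3,2,1,0,5,6,7,8,9,5,10,11,5,4,3,2,1,0,5,6,7,8,9,5,10]))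
 (Tr.node (Tr.leaf [2,3,4,5,6,7,10,2,3,4,5,6,7,10,2,3,4,5,6,7,10,0,2,3,4,5,6,7,10,2,3,4,5,6,7,10,2,3,4,5,6,7,10,2,3,4,5,6,7,10,2,3,4,5,6,7,10,2,3,4,5,6,7,10])
 (Tr.leaf [11,5,4,3,2,1,0,5,6,7,8,9,5,10,11,5,4,3,2,1,0,5,6,7,8,9,5,10,11,5,4,3,2,1,0,5,6,7,8,9,5,10,11,5,4,3,2,1,0,5,6,7,8,9,5,10,11,5,4,3,2,1,0,5,6,7,8,9,5,10,11,5,4,3,2,1,0,5,6,7,8,9,5,10,11,5,4,3,2,1,0,5,6,7,8,9,5,10,11,5,4,3,2,1,0,5,6,7,8,9,5,10,11,5,4,3,2,1,0,5,6,7,8,9,5,10,11,5,4,3,2,1,0,5,6,7,8,9,5,10,11,5,4,3,2,1,0,5,6,7,8,9,5,10,11,5,4,3,2,1,0,5,6,7,8,9,5,10,11,5,4,3,2,1,0,5,6,7,8,9,5,10,11,5,4,3,2,1,0,5,6,7,8,9,5,10,11,5,4,3,2,1,0,5,6,7,8,9,5,10,11,5,4,3,2,1,0,5,6,7,8,9,5,10,11,5,4,3,2,1,0,5,6,7,8,9,5,10])))))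
 (Tr.node (Tr.node (Tr.node (Tr.node (Tr.leaf [5,0,5,0])
 (Tr.leaf [5,9,8,7,6,5,0,1,2,3,4,5,11,10,5,9,8,7,6,5,0,1,2,3,4,5,11,10,5,9,8,7,6,5,0,1,2,3,4,5,11,10,5,9,8,7,6,5,0,1,2,3,4,5,11,10,5,9,8,7,6,5,0,1,2,3,4,5,11,10,5,9,8,7,6,5,0,1,2,3,4,5,11,10,5,9,8,7,6,5,0,1,2,3,4,5,11,10,5,9,8,7,6,5,0,1,2,3,4,5,11,10,5,9,8,7,6,5,0,1,2,3,4,5,11,10,5,9,8,7,6,5,0,1,2,3,4,5,11,10,5,9,8,7,6,5,0,1,2,3,4,5,11,10,5,9,8,7,6,5,0,1,2,3,4,5,11,10,5,9,8,7,6,5,0,1,2,3,4,5,11,10,5,9,8,7,6,5,0,1,2,3,4,5,11,10,5,9,8,7,6,5,0,1,2,3,4,5,11,10,5,9,8,7,6,5,0,1,2,3,4,5,11,10,5,9,8,7,6,5,0,1,2,3,4,5,11,10]))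
 (Tr.node (Tr.leaf [4,5,6,7,10,2,3,4,5,6,7,10,2,3,4,5,6,7,10,2,3,4,5,6,7,10,2,3,4,5,6,7,10,2,3,4,5,6,7,10,2,3,4,5,6,7,10,2,3,4,5,6,7,10,2,3,4,5,6,7,10,0,2,3])
 (Tr.leaf [11,5,4,3,2,1,0,5,6,7,8,9,5,10,11,5,4,3,2,1,0,5,6,7,8,9,5,10,11,5,4,3,2,1,0,5,6,7,8,9,5,10,11,5,4,3,2,1,0,5,6,7,8,9,5,10,11,5,4,3,2,1,0,5,6,7,8,9,5,10,11,5,4,3,2,1,0,5,6,7,8,9,5,10,11,5,4,3,2,1,0,5,6,7,8,9,5,10,11,5,4,3,2,1,0,5,6,7,8,9,5,10,11,5,4,3,2,1,0,5,6,7,8,9,5,10,11,5,4,3,2,1,0,5,6,7,8,9,5,10,11,5,4,3,2,1,0,5,6,7,8,9,5,10,11,5,4,3,2,1,0,5,6,7,8,9,5,10,11,5,4,3,2,1,0,5,6,7,8,9,5,10,11,5,4,3,2,1,0,5,6,7,8,9,5,10,11,5,4,3,2,1,0,5,6,7,8,9,5,10,11,5,4,3,2,1,0,5,6,7,8,9,5,10,11,5,4,3,2,1,0,5,6,7,8,9,5,10])))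
 (Tr.node (Tr.node (Tr.leaf [10,3,10,3])
 (Tr.leaf [11,5,4,3,2,1,0,5,6,7,8,9,5,10,11,5,4,3,2,1,0,5,6,7,8,9,5,10,11,5,4,3,2,1,0,5,6,7,8,9,5,10,11,5,4,3,2,1,0,5,6,7,8,9,5,10,11,5,4,3,2,1,0,5,6,7,8,9,5,10,11,5,4,3,2,1,0,5,6,7,8,9,5,10,11,5,4,3,2,1,0,5,6,7,8,9,5,10,11,5,4,3,2,1,0,5,6,7,8,9,5,10,11,5,4,3,2,1,0,5,6,7,8,9,5,10,11,5,4,3,2,1,0,5,6,7,8,9,5,10,11,5,4,3,2,1,0,5,6,7,8,9,5,10,11,5,4,3,2,1,0,5,6,7,8,9,5,10,11,5,4,3,2,1,0,5,6,7,8,9,5,10,11,5,4,3,2,1,0,5,6,7,8,9,5,10,11,5,4,3,2,1,0,5,6,7,8,9,5,10,11,5,4,3,2,1,0,5,6,7,8,9,5,10,11,5,4,3,2,1,0,5,6,7,8,9,5,10]))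
 (Tr.node (Tr.leaf [10,2,3,4,5,6,7,10,2,3,4,5,6,7,10,2,3,4,5,6,7,10,2,3,4,5,6,7,10,0,2,3,4,5,6,7,10,2,3,4,5,6,7,10,2,3,4,5,6,7,10,2,3,4,5,6,7,10,2,3,4,5,6,7])
 (Tr.leaf [11,5,4,3,2,1,0,5,6,7,8,9,5,10,11,5,4,3,2,1,0,5,6,7,8,9,5,10,11,5,4,3,2,1,0,5,6,7,8,9,5,10,11,5,4,3,2,1,0,5,6,7,8,9,5,10,11,5,4,3,2,1,0,5,6,7,8,9,5,10,11,5,4,3,2,1,0,5,6,7,8,9,5,10,11,5,4,3,2,1,0,5,6,7,8,9,5,10,11,5,4,3,2,1,0,5,6,7,8,9,5,10,11,5,4,3,2,1,0,5,6,7,8,9,5,10,11,5,4,3,2,1,0,5,6,7,8,9,5,10,11,5,4,3,2,1,0,5,6,7,8,9,5,10,11,5,4,3,2,1,0,5,6,7,8,9,5,10,11,5,4,3,2,1,0,5,6,7,8,9,5,10,11,5,4,3,2,1,0,5,6,7,8,9,5,10,11,5,4,3,2,1,0,5,6,7,8,9,5,10,11,5,4,3,2,1,0,5,6,7,8,9,5,10,11,5,4,3,2,1,0,5,6,7,8,9,5,10]))))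
 (Tr.node (Tr.node (Tr.node (Tr.leaf [11,1,11,1])
 (Tr.leaf [11,5,4,3,2,1,0,5,6,7,8,9,5,10,11,5,4,3,2,1,0,5,6,7,8,9,5,10,11,5,4,3,2,1,0,5,6,7,8,9,5,10,11,5,4,3,2,1,0,5,6,7,8,9,5,10,11,5,4,3,2,1,0,5,6,7,8,9,5,10,11,5,4,3,2,1,0,5,6,7,8,9,5,10,11,5,4,3,2,1,0,5,6,7,8,9,5,10,11,5,4,3,2,1,0,5,6,7,8,9,5,10,11,5,4,3,2,1,0,5,6,7,8,9,5,10,11,5,4,3,2,1,0,5,6,7,8,9,5,10,11,5,4,3,2,1,0,5,6,7,8,9,5,10,11,5,4,3,2,1,0,5,6,7,8,9,5,10,11,5,4,3,2,1,0,5,6,7,8,9,5,10,11,5,4,3,2,1,0,5,6,7,8,9,5,10,11,5,4,3,2,1,0,5,6,7,8,9,5,10,11,5,4,3,2,1,0,5,6,7,8,9,5,10,11,5,4,3,2,1,0,5,6,7,8,9,5,10]))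
 (Tr.node (Tr.leaf [6,7,10,2,3,4,5,6,7,10,2,3,4,5,6,7,10,2,3,4,5,6,7,10,2,3,4,5,6,7,10,2,3,4,5,6,7,10,2,3,4,5,6,7,10,0,2,3,4,5,6,7,10,2,3,4,5,6,7,10,2,3,4,5])
 (Tr.leaf [11,5,4,3,2,1,0,5,6,7,8,9,5,10,11,5,4,3,2,1,0,5,6,7,8,9,5,10,11,5,4,3,2,1,0,5,6,7,8,9,5,10,11,5,4,3,2,1,0,5,6,7,8,9,5,10,11,5,4,3,2,1,0,5,6,7,8,9,5,10,11,5,4,3,2,1,0,5,6,7,8,9,5,10,11,5,4,3,2,1,0,5,6,7,8,9,5,10,11,5,4,3,2,1,0,5,6,7,8,9,5,10,11,5,4,3,2,1,0,5,6,7,8,9,5,10,11,5,4,3,2,1,0,5,6,7,8,9,5,10,11,5,4,3,2,1,0,5,6,7,8,9,5,10,11,5,4,3,2,1,0,5,6,7,8,9,5,10,11,5,4,3,2,1,0,5,6,7,8,9,5,10,11,5,4,3,2,1,0,5,6,7,8,9,5,10,11,5,4,3,2,1,0,5,6,7,8,9,5,10,11,5,4,3,2,1,0,5,6,7,8,9,5,10,11,5,4,3,2,1,0,5,6,7,8,9,5,10])))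
 (Tr.node (Tr.node (Tr.leaf [8,6,8,6])
 (Tr.leaf [11,5,4,3,2,1,0,5,6,7,8,9,5,10,11,5,4,3,2,1,0,5,6,7,8,9,5,10,11,5,4,3,2,1,0,5,6,7,8,9,5,10,11,5,4,3,2,1,0,5,6,7,8,9,5,10,11,5,4,3,2,1,0,5,6,7,8,9,5,10,11,5,4,3,2,1,0,5,6,7,8,9,5,10,11,5,4,3,2,1,0,5,6,7,8,9,5,10,11,5,4,3,2,1,0,5,6,7,8,9,5,10,11,5,4,3,2,1,0,5,6,7,8,9,5,10,11,5,4,3,2,1,0,5,6,7,8,9,5,10,11,5,4,3,2,1,0,5,6,7,8,9,5,10,11,5,4,3,2,1,0,5,6,7,8,9,5,10,11,5,4,3,2,1,0,5,6,7,8,9,5,10,11,5,4,3,2,1,0,5,6,7,8,9,5,10,11,5,4,3,2,1,0,5,6,7,8,9,5,10,11,5,4,3,2,1,0,5,6,7,8,9,5,10,11,5,4,3,2,1,0,5,6,7,8,9,5,10]))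
 (Tr.node (Tr.leaf [3,4,5,6,7,10,2,3,4,5,6,7,10,0,2,3,4,5,6,7,10,2,3,4,5,6,7,10,2,3,4,5,6,7,10,2,3,4,5,6,7,10,2,3,4,5,6,7,10,2,3,4,5,6,7,10,2,3,4,5,6,7,10,2])
 (Tr.leaf [11,5,4,3,2,1,0,5,6,7,8,9,5,10,11,5,4,3,2,1,0,5,6,7,8,9,5,10,11,5,4,3,2,1,0,5,6,7,8,9,5,10,11,5,4,3,2,1,0,5,6,7,8,9,5,10,11,5,4,3,2,1,0,5,6,7,8,9,5,10,11,5,4,3,2,1,0,5,6,7,8,9,5,10,11,5,4,3,2,1,0,5,6,7,8,9,5,10,11,5,4,3,2,1,0,5,6,7,8,9,5,10,11,5,4,3,2,1,0,5,6,7,8,9,5,10,11,5,4,3,2,1,0,5,6,7,8,9,5,10,11,5,4,3,2,1,0,5,6,7,8,9,5,10,11,5,4,3,2,1,0,5,6,7,8,9,5,10,11,5,4,3,2,1,0,5,6,7,8,9,5,10,11,5,4,3,2,1,0,5,6,7,8,9,5,10,11,5,4,3,2,1,0,5,6,7,8,9,5,10,11,5,4,3,2,1,0,5,6,7,8,9,5,10,11,5,4,3,2,1,0,5,6,7,8,9,5,10]))))))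
 (Tr.node (Tr.node (Tr.node (Tr.node (Tr.node (Tr.leaf [1,0,1,0,1,0])
 (Tr.leaf [10,0,2,3,4,5,6,7,10,2,3,4,5,6,7,10,2,3,4,5,6,7,10,2,3,4,5,6,7,10,2,3,4,5,6,7,10,2,3,4,5,6,7,10,2,3,4,5,6,7,10,2,3,4,5,6,7,10,2,3,4,5,6,7]))
 (Tr.node (Tr.leaf [11,9,11,9])
 (Tr.leaf [11,5,4,3,2,1,0,5,6,7,8,9,5,10,11,5,4,3,2,1,0,5,6,7,8,9,5,10,11,5,4,3,2,1,0,5,6,7,8,9,5,10,11,5,4,3,2,1,0,5,6,7,8,9,5,10,11,5,4,3,2,1,0,5,6,7,8,9,5,10,11,5,4,3,2,1,0,5,6,7,8,9,5,10,11,5,4,3,2,1,0,5,6,7,8,9,5,10,11,5,4,3,2,1,0,5,6,7,8,9,5,10,11,5,4,3,2,1,0,5,6,7,8,9,5,10,11,5,4,3,2,1,0,5,6,7,8,9,5,10,11,5,4,3,2,1,0,5,6,7,8,9,5,10,11,5,4,3,2,1,0,5,6,7,8,9,5,10,11,5,4,3,2,1,0,5,6,7,8,9,5,10,11,5,4,3,2,1,0,5,6,7,8,9,5,10,11,5,4,3,2,1,0,5,6,7,8,9,5,10,11,5,4,3,2,1,0,5,6,7,8,9,5,10,11,5,4,3,2,1,0,5,6,7,8,9,5,10])))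
 (Tr.node (Tr.node (Tr.leaf [6,3,6,3])
 (Tr.leaf [11,5,4,3,2,1,0,5,6,7,8,9,5,10,11,5,4,3,2,1,0,5,6,7,8,9,5,10,11,5,4,3,2,1,0,5,6,7,8,9,5,10,11,5,4,3,2,1,0,5,6,7,8,9,5,10,11,5,4,3,2,1,0,5,6,7,8,9,5,10,11,5,4,3,2,1,0,5,6,7,8,9,5,10,11,5,4,3,2,1,0,5,6,7,8,9,5,10,11,5,4,3,2,1,0,5,6,7,8,9,5,10,11,5,4,3,2,1,0,5,6,7,8,9,5,10,11,5,4,3,2,1,0,5,6,7,8,9,5,10,11,5,4,3,2,1,0,5,6,7,8,9,5,10,11,5,4,3,2,1,0,5,6,7,8,9,5,10,11,5,4,3,2,1,0,5,6,7,8,9,5,10,11,5,4,3,2,1,0,5,6,7,8,9,5,10,11,5,4,3,2,1,0,5,6,7,8,9,5,10,11,5,4,3,2,1,0,5,6,7,8,9,5,10,11,5,4,3,2,1,0,5,6,7,8,9,5,10]))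
 (Tr.node (Tr.leaf [4,5,6,7,10,2,3,4,5,6,7,10,2,3,4,5,6,7,10,2,3,4,5,6,7,10,2,3,4,5,6,7,10,0,2,3,4,5,6,7,10,2,3,4,5,6,7,10,2,3,4,5,6,7,10,2,3,4,5,6,7,10,2,3])
 (Tr.leaf [11,5,4,3,2,1,0,5,6,7,8,9,5,10,11,5,4,3,2,1,0,5,6,7,8,9,5,10,11,5,4,3,2,1,0,5,6,7,8,9,5,10,11,5,4,3,2,1,0,5,6,7,8,9,5,10,11,5,4,3,2,1,0,5,6,7,8,9,5,10,11,5,4,3,2,1,0,5,6,7,8,9,5,10,11,5,4,3,2,1,0,5,6,7,8,9,5,10,11,5,4,3,2,1,0,5,6,7,8,9,5,10,11,5,4,3,2,1,0,5,6,7,8,9,5,10,11,5,4,3,2,1,0,5,6,7,8,9,5,10,11,5,4,3,2,1,0,5,6,7,8,9,5,10,11,5,4,3,2,1,0,5,6,7,8,9,5,10,11,5,4,3,2,1,0,5,6,7,8,9,5,10,11,5,4,3,2,1,0,5,6,7,8,9,5,10,11,5,4,3,2,1,0,5,6,7,8,9,5,10,11,5,4,3,2,1,0,5,6,7,8,9,5,10,11,5,4,3,2,1,0,5,6,7,8,9,5,10]))))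
 (Tr.node (Tr.node (Tr.node (Tr.leaf [7,1,7,1])
 (Tr.leaf [11,5,4,3,2,1,0,5,6,7,8,9,5,10,11,5,4,3,2,1,0,5,6,7,8,9,5,10,11,5,4,3,2,1,0,5,6,7,8,9,5,10,11,5,4,3,2,1,0,5,6,7,8,9,5,10,11,5,4,3,2,1,0,5,6,7,8,9,5,10,11,5,4,3,2,1,0,5,6,7,8,9,5,10,11,5,4,3,2,1,0,5,6,7,8,9,5,10,11,5,4,3,2,1,0,5,6,7,8,9,5,10,11,5,4,3,2,1,0,5,6,7,8,9,5,10,11,5,4,3,2,1,0,5,6,7,8,9,5,10,11,5,4,3,2,1,0,5,6,7,8,9,5,10,11,5,4,3,2,1,0,5,6,7,8,9,5,10,11,5,4,3,2,1,0,5,6,7,8,9,5,10,11,5,4,3,2,1,0,5,6,7,8,9,5,10,11,5,4,3,2,1,0,5,6,7,8,9,5,10,11,5,4,3,2,1,0,5,6,7,8,9,5,10,11,5,4,3,2,1,0,5,6,7,8,9,5,10]))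
 (Tr.node (Tr.leaf [2,3,4,5,6,7,10,2,3,4,5,6,7,10,2,3,4,5,6,7,10,2,3,4,5,6,7,10,2,3,4,5,6,7,10,2,3,4,5,6,7,10,2,3,4,5,6,7,10,0,2,3,4,5,6,7,10,2,3,4,5,6,7,10])
 (Tr.leaf [11,5,4,3,2,1,0,5,6,7,8,9,5,10,11,5,4,3,2,1,0,5,6,7,8,9,5,10,11,5,4,3,2,1,0,5,6,7,8,9,5,10,11,5,4,3,2,1,0,5,6,7,8,9,5,10,11,5,4,3,2,1,0,5,6,7,8,9,5,10,11,5,4,3,2,1,0,5,6,7,8,9,5,10,11,5,4,3,2,1,0,5,6,7,8,9,5,10,11,5,4,3,2,1,0,5,6,7,8,9,5,10,11,5,4,3,2,1,0,5,6,7,8,9,5,10,11,5,4,3,2,1,0,5,6,7,8,9,5,10,11,5,4,3,2,1,0,5,6,7,8,9,5,10,11,5,4,3,2,1,0,5,6,7,8,9,5,10,11,5,4,3,2,1,0,5,6,7,8,9,5,10,11,5,4,3,2,1,0,5,6,7,8,9,5,10,11,5,4,3,2,1,0,5,6,7,8,9,5,10,11,5,4,3,2,1,0,5,6,7,8,9,5,10,11,5,4,3,2,1,0,5,6,7,8,9,5,10])))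
 (Tr.node (Tr.node (Tr.leaf [9,5,9,5])
 (Tr.leaf [11,5,4,3,2,1,0,5,6,7,8,9,5,10,11,5,4,3,2,1,0,5,6,7,8,9,5,10,11,5,4,3,2,1,0,5,6,7,8,9,5,10,11,5,4,3,2,1,0,5,6,7,8,9,5,10,11,5,4,3,2,1,0,5,6,7,8,9,5,10,11,5,4,3,2,1,0,5,6,7,8,9,5,10,11,5,4,3,2,1,0,5,6,7,8,9,5,10,11,5,4,3,2,1,0,5,6,7,8,9,5,10,11,5,4,3,2,1,0,5,6,7,8,9,5,10,11,5,4,3,2,1,0,5,6,7,8,9,5,10,11,5,4,3,2,1,0,5,6,7,8,9,5,10,11,5,4,3,2,1,0,5,6,7,8,9,5,10,11,5,4,3,2,1,0,5,6,7,8,9,5,10,11,5,4,3,2,1,0,5,6,7,8,9,5,10,11,5,4,3,2,1,0,5,6,7,8,9,5,10,11,5,4,3,2,1,0,5,6,7,8,9,5,10,11,5,4,3,2,1,0,5,6,7,8,9,5,10]))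
 (Tr.node (Tr.leaf [6,7,10,2,3,4,5,6,7,10,2,3,4,5,6,7,10,0,2,3,4,5,6,7,10,2,3,4,5,6,7,10,2,3,4,5,6,7,10,2,3,4,5,6,7,10,2,3,4,5,6,7,10,2,3,4,5,6,7,10,2,3,4,5])
 (Tr.leaf [11,5,4,3,2,1,0,5,6,7,8,9,5,10,11,5,4,3,2,1,0,5,6,7,8,9,5,10,11,5,4,3,2,1,0,5,6,7,8,9,5,10,11,5,4,3,2,1,0,5,6,7,8,9,5,10,11,5,4,3,2,1,0,5,6,7,8,9,5,10,11,5,4,3,2,1,0,5,6,7,8,9,5,10,11,5,4,3,2,1,0,5,6,7,8,9,5,10,11,5,4,3,2,1,0,5,6,7,8,9,5,10,11,5,4,3,2,1,0,5,6,7,8,9,5,10,11,5,4,3,2,1,0,5,6,7,8,9,5,10,11,5,4,3,2,1,0,5,6,7,8,9,5,10,11,5,4,3,2,1,0,5,6,7,8,9,5,10,11,5,4,3,2,1,0,5,6,7,8,9,5,10,11,5,4,3,2,1,0,5,6,7,8,9,5,10,11,5,4,3,2,1,0,5,6,7,8,9,5,10,11,5,4,3,2,1,0,5,6,7,8,9,5,10,11,5,4,3,2,1,0,5,6,7,8,9,5,10])))))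
 (Tr.node (Tr.node (Tr.node (Tr.node (Tr.leaf [9,0,9,0])
 (Tr.leaf [6,5,0,1,2,3,4,5,11,10,5,9,8,7,6,5,0,1,2,3,4,5,11,10,5,9,8,7,6,5,0,1,2,3,4,5,11,10,5,9,8,7,6,5,0,1,2,3,4,5,11,10,5,9,8,7,6,5,0,1,2,3,4,5,11,10,5,9,8,7,6,5,0,1,2,3,4,5,11,10,5,9,8,7,6,5,0,1,2,3,4,5,11,10,5,9,8,7,6,5,0,1,2,3,4,5,11,10,5,9,8,7,6,5,0,1,2,3,4,5,11,10,5,9,8,7,6,5,0,1,2,3,4,5,11,10,5,9,8,7,6,5,0,1,2,3,4,5,11,10,5,9,8,7,6,5,0,1,2,3,4,5,11,10,5,9,8,7,6,5,0,1,2,3,4,5,11,10,5,9,8,7,6,5,0,1,2,3,4,5,11,10,5,9,8,7,6,5,0,1,2,3,4,5,11,10,5,9,8,7,6,5,0,1,2,3,4,5,11,10,5,9,8,7,6,5,0,1,2,3,4,5,11,10,5,9,8,7]))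
 (Tr.node (Tr.leaf [10,2,3,4,5,6,7,10,2,3,4,5,6,7,10,2,3,4,5,6,7,10,2,3,4,5,6,7,10,2,3,4,5,6,7,10,2,3,4,5,6,7,10,2,3,4,5,6,7,10,2,3,4,5,6,7,10,0,2,3,4,5,6,7])
 (Tr.leaf [11,5,4,3,2,1,0,5,6,7,8,9,5,10,11,5,4,3,2,1,0,5,6,7,8,9,5,10,11,5,4,3,2,1,0,5,6,7,8,9,5,10,11,5,4,3,2,1,0,5,6,7,8,9,5,10,11,5,4,3,2,1,0,5,6,7,8,9,5,10,11,5,4,3,2,1,0,5,6,7,8,9,5,10,11,5,4,3,2,1,0,5,6,7,8,9,5,10,11,5,4,3,2,1,0,5,6,7,8,9,5,10,11,5,4,3,2,1,0,5,6,7,8,9,5,10,11,5,4,3,2,1,0,5,6,7,8,9,5,10,11,5,4,3,2,1,0,5,6,7,8,9,5,10,11,5,4,3,2,1,0,5,6,7,8,9,5,10,11,5,4,3,2,1,0,5,6,7,8,9,5,10,11,5,4,3,2,1,0,5,6,7,8,9,5,10,11,5,4,3,2,1,0,5,6,7,8,9,5,10,11,5,4,3,2,1,0,5,6,7,8,9,5,10,11,5,4,3,2,1,0,5,6,7,8,9,5,10])))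
 (Tr.node (Tr.node (Tr.leaf [7,4,7,4])
 (Tr.leaf [11,5,4,3,2,1,0,5,6,7,8,9,5,10,11,5,4,3,2,1,0,5,6,7,8,9,5,10,11,5,4,3,2,1,0,5,6,7,8,9,5,10,11,5,4,3,2,1,0,5,6,7,8,9,5,10,11,5,4,3,2,1,0,5,6,7,8,9,5,10,11,5,4,3,2,1,0,5,6,7,8,9,5,10,11,5,4,3,2,1,0,5,6,7,8,9,5,10,11,5,4,3,2,1,0,5,6,7,8,9,5,10,11,5,4,3,2,1,0,5,6,7,8,9,5,10,11,5,4,3,2,1,0,5,6,7,8,9,5,10,11,5,4,3,2,1,0,5,6,7,8,9,5,10,11,5,4,3,2,1,0,5,6,7,8,9,5,10,11,5,4,3,2,1,0,5,6,7,8,9,5,10,11,5,4,3,2,1,0,5,6,7,8,9,5,10,11,5,4,3,2,1,0,5,6,7,8,9,5,10,11,5,4,3,2,1,0,5,6,7,8,9,5,10,11,5,4,3,2,1,0,5,6,7,8,9,5,10]))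
 (Tr.node (Tr.leaf [5,6,7,10,2,3,4,5,6,7,10,2,3,4,5,6,7,10,2,3,4,5,6,7,10,0,2,3,4,5,6,7,10,2,3,4,5,6,7,10,2,3,4,5,6,7,10,2,3,4,5,6,7,10,2,3,4,5,6,7,10,2,3,4])
 (Tr.leaf [11,5,4,3,2,1,0,5,6,7,8,9,5,10,11,5,4,3,2,1,0,5,6,7,8,9,5,10,11,5,4,3,2,1,0,5,6,7,8,9,5,10,11,5,4,3,2,1,0,5,6,7,8,9,5,10,11,5,4,3,2,1,0,5,6,7,8,9,5,10,11,5,4,3,2,1,0,5,6,7,8,9,5,10,11,5,4,3,2,1,0,5,6,7,8,9,5,10,11,5,4,3,2,1,0,5,6,7,8,9,5,10,11,5,4,3,2,1,0,5,6,7,8,9,5,10,11,5,4,3,2,1,0,5,6,7,8,9,5,10,11,5,4,3,2,1,0,5,6,7,8,9,5,10,11,5,4,3,2,1,0,5,6,7,8,9,5,10,11,5,4,3,2,1,0,5,6,7,8,9,5,10,11,5,4,3,2,1,0,5,6,7,8,9,5,10,11,5,4,3,2,1,0,5,6,7,8,9,5,10,11,5,4,3,2,1,0,5,6,7,8,9,5,10,11,5,4,3,2,1,0,5,6,7,8,9,5,10]))))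
 (Tr.node (Tr.node (Tr.node (Tr.leaf [6,2,6,2])
 (Tr.leaf [11,5,4,3,2,1,0,5,6,7,8,9,5,10,11,5,4,3,2,1,0,5,6,7,8,9,5,10,11,5,4,3,2,1,0,5,6,7,8,9,5,10,11,5,4,3,2,1,0,5,6,7,8,9,5,10,11,5,4,3,2,1,0,5,6,7,8,9,5,10,11,5,4,3,2,1,0,5,6,7,8,9,5,10,11,5,4,3,2,1,0,5,6,7,8,9,5,10,11,5,4,3,2,1,0,5,6,7,8,9,5,10,11,5,4,3,2,1,0,5,6,7,8,9,5,10,11,5,4,3,2,1,0,5,6,7,8,9,5,10,11,5,4,3,2,1,0,5,6,7,8,9,5,10,11,5,4,3,2,1,0,5,6,7,8,9,5,10,11,5,4,3,2,1,0,5,6,7,8,9,5,10,11,5,4,3,2,1,0,5,6,7,8,9,5,10,11,5,4,3,2,1,0,5,6,7,8,9,5,10,11,5,4,3,2,1,0,5,6,7,8,9,5,10,11,5,4,3,2,1,0,5,6,7,8,9,5,10]))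
 (Tr.node (Tr.leaf [3,4,5,6,7,10,2,3,4,5,6,7,10,2,3,4,5,6,7,10,2,3,4,5,6,7,10,2,3,4,5,6,7,10,2,3,4,5,6,7,10,0,2,3,4,5,6,7,10,2,3,4,5,6,7,10,2,3,4,5,6,7,10,2])
 (Tr.leaf [11,5,4,3,2,1,0,5,6,7,8,9,5,10,11,5,4,3,2,1,0,5,6,7,8,9,5,10,11,5,4,3,2,1,0,5,6,7,8,9,5,10,11,5,4,3,2,1,0,5,6,7,8,9,5,10,11,5,4,3,2,1,0,5,6,7,8,9,5,10,11,5,4,3,2,1,0,5,6,7,8,9,5,10,11,5,4,3,2,1,0,5,6,7,8,9,5,10,11,5,4,3,2,1,0,5,6,7,8,9,5,10,11,5,4,3,2,1,0,5,6,7,8,9,5,10,11,5,4,3,2,1,0,5,6,7,8,9,5,10,11,5,4,3,2,1,0,5,6,7,8,9,5,10,11,5,4,3,2,1,0,5,6,7,8,9,5,10,11,5,4,3,2,1,0,5,6,7,8,9,5,10,11,5,4,3,2,1,0,5,6,7,8,9,5,10,11,5,4,3,2,1,0,5,6,7,8,9,5,10,11,5,4,3,2,1,0,5,6,7,8,9,5,10,11,5,4,3,2,1,0,5,6,7,8,9,5,10])))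
 (Tr.node (Tr.node (Tr.leaf [8,7,8,7,8,7])
 (Tr.leaf [11,5,4,3,2,1,0,5,6,7,8,9,5,10,11,5,4,3,2,1,0,5,6,7,8,9,5,10,11,5,4,3,2,1,0,5,6,7,8,9,5,10,11,5,4,3,2,1,0,5,6,7,8,9,5,10,11,5,4,3,2,1,0,5,6,7,8,9,5,10,11,5,4,3,2,1,0,5,6,7,8,9,5,10,11,5,4,3,2,1,0,5,6,7,8,9,5,10,11,5,4,3,2,1,0,5,6,7,8,9,5,10,11,5,4,3,2,1,0,5,6,7,8,9,5,10,11,5,4,3,2,1,0,5,6,7,8,9,5,10,11,5,4,3,2,1,0,5,6,7,8,9,5,10,11,5,4,3,2,1,0,5,6,7,8,9,5,10,11,5,4,3,2,1,0,5,6,7,8,9,5,10,11,5,4,3,2,1,0,5,6,7,8,9,5,10,11,5,4,3,2,1,0,5,6,7,8,9,5,10,11,5,4,3,2,1,0,5,6,7,8,9,5,10,11,5,4,3,2,1,0,5,6,7,8,9,5,10]))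
 (Tr.node (Tr.leaf [7,10,2,3,4,5,6,7,10,0,2,3,4,5,6,7,10,2,3,4,5,6,7,10,2,3,4,5,6,7,10,2,3,4,5,6,7,10,2,3,4,5,6,7,10,2,3,4,5,6,7,10,2,3,4,5,6,7,10,2,3,4,5,6])
 (Tr.leaf [11,5,4,3,2,1,0,5,6,7,8,9,5,10,11,5,4,3,2,1,0,5,6,7,8,9,5,10,11,5,4,3,2,1,0,5,6,7,8,9,5,10,11,5,4,3,2,1,0,5,6,7,8,9,5,10,11,5,4,3,2,1,0,5,6,7,8,9,5,10,11,5,4,3,2,1,0,5,6,7,8,9,5,10,11,5,4,3,2,1,0,5,6,7,8,9,5,10,11,5,4,3,2,1,0,5,6,7,8,9,5,10,11,5,4,3,2,1,0,5,6,7,8,9,5,10,11,5,4,3,2,1,0,5,6,7,8,9,5,10,11,5,4,3,2,1,0,5,6,7,8,9,5,10,11,5,4,3,2,1,0,5,6,7,8,9,5,10,11,5,4,3,2,1,0,5,6,7,8,9,5,10,11,5,4,3,2,1,0,5,6,7,8,9,5,10,11,5,4,3,2,1,0,5,6,7,8,9,5,10,11,5,4,3,2,1,0,5,6,7,8,9,5,10,11,5,4,3,2,1,0,5,6,7,8,9,5,10]))))))))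
 (Tr.node (Tr.node (Tr.node (Tr.node (Tr.node (Tr.node (Tr.node (Tr.leaf [2,2])
 (Tr.leaf [3,4,5,6,7,10,0,2,3,4,5,6,7,10,2,3,4,5,6,7,10,2,3,4,5,6,7,10,2,3,4,5,6,7,10,2,3,4,5,6,7,10,2,3,4,5,6,7,10,2,3,4,5,6,7,10,2,3,4,5,6,7,10,2]))
 (Tr.node (Tr.leaf [11,7,11,7])
 (Tr.leaf [11,5,4,3,2,1,0,5,6,7,8,9,5,10,11,5,4,3,2,1,0,5,6,7,8,9,5,10,11,5,4,3,2,1,0,5,6,7,8,9,5,10,11,5,4,3,2,1,0,5,6,7,8,9,5,10,11,5,4,3,2,1,0,5,6,7,8,9,5,10,11,5,4,3,2,1,0,5,6,7,8,9,5,10,11,5,4,3,2,1,0,5,6,7,8,9,5,10,11,5,4,3,2,1,0,5,6,7,8,9,5,10,11,5,4,3,2,1,0,5,6,7,8,9,5,10,11,5,4,3,2,1,0,5,6,7,8,9,5,10,11,5,4,3,2,1,0,5,6,7,8,9,5,10,11,5,4,3,2,1,0,5,6,7,8,9,5,10,11,5,4,3,2,1,0,5,6,7,8,9,5,10,11,5,4,3,2,1,0,5,6,7,8,9,5,10,11,5,4,3,2,1,0,5,6,7,8,9,5,10,11,5,4,3,2,1,0,5,6,7,8,9,5,10,11,5,4,3,2,1,0,5,6,7,8,9,5,10])))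
 (Tr.node (Tr.node (Tr.leaf [9,2,9,2])
 (Tr.leaf [11,5,4,3,2,1,0,5,6,7,8,9,5,10,11,5,4,3,2,1,0,5,6,7,8,9,5,10,11,5,4,3,2,1,0,5,6,7,8,9,5,10,11,5,4,3,2,1,0,5,6,7,8,9,5,10,11,5,4,3,2,1,0,5,6,7,8,9,5,10,11,5,4,3,2,1,0,5,6,7,8,9,5,10,11,5,4,3,2,1,0,5,6,7,8,9,5,10,11,5,4,3,2,1,0,5,6,7,8,9,5,10,11,5,4,3,2,1,0,5,6,7,8,9,5,10,11,5,4,3,2,1,0,5,6,7,8,9,5,10,11,5,4,3,2,1,0,5,6,7,8,9,5,10,11,5,4,3,2,1,0,5,6,7,8,9,5,10,11,5,4,3,2,1,0,5,6,7,8,9,5,10,11,5,4,3,2,1,0,5,6,7,8,9,5,10,11,5,4,3,2,1,0,5,6,7,8,9,5,10,11,5,4,3,2,1,0,5,6,7,8,9,5,10,11,5,4,3,2,1,0,5,6,7,8,9,5,10]))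
 (Tr.node (Tr.leaf [6,7,10,2,3,4,5,6,7,10,2,3,4,5,6,7,10,2,3,4,5,6,7,10,2,3,4,5,6,7,10,2,3,4,5,6,7,10,0,2,3,4,5,6,7,10,2,3,4,5,6,7,10,2,3,4,5,6,7,10,2,3,4,5])
 (Tr.leaf [11,5,4,3,2,1,0,5,6,7,8,9,5,10,11,5,4,3,2,1,0,5,6,7,8,9,5,10,11,5,4,3,2,1,0,5,6,7,8,9,5,10,11,5,4,3,2,1,0,5,6,7,8,9,5,10,11,5,4,3,2,1,0,5,6,7,8,9,5,10,11,5,4,3,2,1,0,5,6,7,8,9,5,10,11,5,4,3,2,1,0,5,6,7,8,9,5,10,11,5,4,3,2,1,0,5,6,7,8,9,5,10,11,5,4,3,2,1,0,5,6,7,8,9,5,10,11,5,4,3,2,1,0,5,6,7,8,9,5,10,11,5,4,3,2,1,0,5,6,7,8,9,5,10,11,5,4,3,2,1,0,5,6,7,8,9,5,10,11,5,4,3,2,1,0,5,6,7,8,9,5,10,11,5,4,3,2,1,0,5,6,7,8,9,5,10,11,5,4,3,2,1,0,5,6,7,8,9,5,10,11,5,4,3,2,1,0,5,6,7,8,9,5,10,11,5,4,3,2,1,0,5,6,7,8,9,5,10]))))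
 (Tr.node (Tr.node (Tr.node (Tr.leaf [2,1,2,1,2,1])
 (Tr.leaf [1,2,3,4,5,11,10,5,9,8,7,6,5,0,1,2,3,4,5,11,10,5,9,8,7,6,5,0,1,2,3,4,5,11,10,5,9,8,7,6,5,0,1,2,3,4,5,11,10,5,9,8,7,6,5,0,1,2,3,4,5,11,10,5,9,8,7,6,5,0,1,2,3,4,5,11,10,5,9,8,7,6,5,0,1,2,3,4,5,11,10,5,9,8,7,6,5,0,1,2,3,4,5,11,10,5,9,8,7,6,5,0,1,2,3,4,5,11,10,5,9,8,7,6,5,0,1,2,3,4,5,11,10,5,9,8,7,6,5,0,1,2,3,4,5,11,10,5,9,8,7,6,5,0,1,2,3,4,5,11,10,5,9,8,7,6,5,0,1,2,3,4,5,11,10,5,9,8,7,6,5,0,1,2,3,4,5,11,10,5,9,8,7,6,5,0,1,2,3,4,5,11,10,5,9,8,7,6,5,0,1,2,3,4,5,11,10,5,9,8,7,6,5,0,1,2,3,4,5,11,10,5,9,8,7,6,5,0]))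
 (Tr.node (Tr.leaf [4,5,6,7,10,2,3,4,5,6,7,10,2,3,4,5,6,7,10,2,3,4,5,6,7,10,2,3,4,5,6,7,10,2,3,4,5,6,7,10,2,3,4,5,6,7,10,2,3,4,5,6,7,10,0,2,3,4,5,6,7,10,2,3])
 (Tr.leaf [11,5,4,3,2,1,0,5,6,7,8,9,5,10,11,5,4,3,2,1,0,5,6,7,8,9,5,10,11,5,4,3,2,1,0,5,6,7,8,9,5,10,11,5,4,3,2,1,0,5,6,7,8,9,5,10,11,5,4,3,2,1,0,5,6,7,8,9,5,10,11,5,4,3,2,1,0,5,6,7,8,9,5,10,11,5,4,3,2,1,0,5,6,7,8,9,5,10,11,5,4,3,2,1,0,5,6,7,8,9,5,10,11,5,4,3,2,1,0,5,6,7,8,9,5,10,11,5,4,3,2,1,0,5,6,7,8,9,5,10,11,5,4,3,2,1,0,5,6,7,8,9,5,10,11,5,4,3,2,1,0,5,6,7,8,9,5,10,11,5,4,3,2,1,0,5,6,7,8,9,5,10,11,5,4,3,2,1,0,5,6,7,8,9,5,10,11,5,4,3,2,1,0,5,6,7,8,9,5,10,11,5,4,3,2,1,0,5,6,7,8,9,5,10,11,5,4,3,2,1,0,5,6,7,8,9,5,10])))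
 (Tr.node (Tr.node (Tr.leaf [10,4,10,4])
 (Tr.leaf [11,5,4,3,2,1,0,5,6,7,8,9,5,10,11,5,4,3,2,1,0,5,6,7,8,9,5,10,11,5,4,3,2,1,0,5,6,7,8,9,5,10,11,5,4,3,2,1,0,5,6,7,8,9,5,10,11,5,4,3,2,1,0,5,6,7,8,9,5,10,11,5,4,3,2,1,0,5,6,7,8,9,5,10,11,5,4,3,2,1,0,5,6,7,8,9,5,10,11,5,4,3,2,1,0,5,6,7,8,9,5,10,11,5,4,3,2,1,0,5,6,7,8,9,5,10,11,5,4,3,2,1,0,5,6,7,8,9,5,10,11,5,4,3,2,1,0,5,6,7,8,9,5,10,11,5,4,3,2,1,0,5,6,7,8,9,5,10,11,5,4,3,2,1,0,5,6,7,8,9,5,10,11,5,4,3,2,1,0,5,6,7,8,9,5,10,11,5,4,3,2,1,0,5,6,7,8,9,5,10,11,5,4,3,2,1,0,5,6,7,8,9,5,10,11,5,4,3,2,1,0,5,6,7,8,9,5,10]))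
 (Tr.node (Tr.leaf [10,2,3,4,5,6,7,10,2,3,4,5,6,7,10,2,3,4,5,6,7,10,0,2,3,4,5,6,7,10,2,3,4,5,6,7,10,2,3,4,5,6,7,10,2,3,4,5,6,7,10,2,3,4,5,6,7,10,2,3,4,5,6,7])
 (Tr.leaf [11,5,4,3,2,1,0,5,6,7,8,9,5,10,11,5,4,3,2,1,0,5,6,7,8,9,5,10,11,5,4,3,2,1,0,5,6,7,8,9,5,10,11,5,4,3,2,1,0,5,6,7,8,9,5,10,11,5,4,3,2,1,0,5,6,7,8,9,5,10,11,5,4,3,2,1,0,5,6,7,8,9,5,10,11,5,4,3,2,1,0,5,6,7,8,9,5,10,11,5,4,3,2,1,0,5,6,7,8,9,5,10,11,5,4,3,2,1,0,5,6,7,8,9,5,10,11,5,4,3,2,1,0,5,6,7,8,9,5,10,11,5,4,3,2,1,0,5,6,7,8,9,5,10,11,5,4,3,2,1,0,5,6,7,8,9,5,10,11,5,4,3,2,1,0,5,6,7,8,9,5,10,11,5,4,3,2,1,0,5,6,7,8,9,5,10,11,5,4,3,2,1,0,5,6,7,8,9,5,10,11,5,4,3,2,1,0,5,6,7,8,9,5,10,11,5,4,3,2,1,0,5,6,7,8,9,5,10])))))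
 (Tr.node (Tr.node (Tr.node (Tr.node (Tr.leaf [4,0,4,0])
 (Tr.leaf [10,5,9,8,7,6,5,0,1,2,3,4,5,11,10,5,9,8,7,6,5,0,1,2,3,4,5,11,10,5,9,8,7,6,5,0,1,2,3,4,5,11,10,5,9,8,7,6,5,0,1,2,3,4,5,11,10,5,9,8,7,6,5,0,1,2,3,4,5,11,10,5,9,8,7,6,5,0,1,2,3,4,5,11,10,5,9,8,7,6,5,0,1,2,3,4,5,11,10,5,9,8,7,6,5,0,1,2,3,4,5,11,10,5,9,8,7,6,5,0,1,2,3,4,5,11,10,5,9,8,7,6,5,0,1,2,3,4,5,11,10,5,9,8,7,6,5,0,1,2,3,4,5,11,10,5,9,8,7,6,5,0,1,2,3,4,5,11,10,5,9,8,7,6,5,0,1,2,3,4,5,11,10,5,9,8,7,6,5,0,1,2,3,4,5,11,10,5,9,8,7,6,5,0,1,2,3,4,5,11,10,5,9,8,7,6,5,0,1,2,3,4,5,11,10,5,9,8,7,6,5,0,1,2,3,4,5,11]))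
 (Tr.node (Tr.leaf [3,4,5,6,7,10,2,3,4,5,6,7,10,2,3,4,5,6,7,10,2,3,4,5,6,7,10,2,3,4,5,6,7,10,2,3,4,5,6,7,10,2,3,4,5,6,7,10,2,3,4,5,6,7,10,2,3,4,5,6,7,10,0,2])
 (Tr.leaf [11,5,4,3,2,1,0,5,6,7,8,9,5,10,11,5,4,3,2,1,0,5,6,7,8,9,5,10,11,5,4,3,2,1,0,5,6,7,8,9,5,10,11,5,4,3,2,1,0,5,6,7,8,9,5,10,11,5,4,3,2,1,0,5,6,7,8,9,5,10,11,5,4,3,2,1,0,5,6,7,8,9,5,10,11,5,4,3,2,1,0,5,6,7,8,9,5,10,11,5,4,3,2,1,0,5,6,7,8,9,5,10,11,5,4,3,2,1,0,5,6,7,8,9,5,10,11,5,4,3,2,1,0,5,6,7,8,9,5,10,11,5,4,3,2,1,0,5,6,7,8,9,5,10,11,5,4,3,2,1,0,5,6,7,8,9,5,10,11,5,4,3,2,1,0,5,6,7,8,9,5,10,11,5,4,3,2,1,0,5,6,7,8,9,5,10,11,5,4,3,2,1,0,5,6,7,8,9,5,10,11,5,4,3,2,1,0,5,6,7,8,9,5,10,11,5,4,3,2,1,0,5,6,7,8,9,5,10])))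
 (Tr.node (Tr.node (Tr.leaf [9,3,9,3])
 (Tr.leaf [11,5,4,3,2,1,0,5,6,7,8,9,5,10,11,5,4,3,2,1,0,5,6,7,8,9,5,10,11,5,4,3,2,1,0,5,6,7,8,9,5,10,11,5,4,3,2,1,0,5,6,7,8,9,5,10,11,5,4,3,2,1,0,5,6,7,8,9,5,10,11,5,4,3,2,1,0,5,6,7,8,9,5,10,11,5,4,3,2,1,0,5,6,7,8,9,5,10,11,5,4,3,2,1,0,5,6,7,8,9,5,10,11,5,4,3,2,1,0,5,6,7,8,9,5,10,11,5,4,3,2,1,0,5,6,7,8,9,5,10,11,5,4,3,2,1,0,5,6,7,8,9,5,10,11,5,4,3,2,1,0,5,6,7,8,9,5,10,11,5,4,3,2,1,0,5,6,7,8,9,5,10,11,5,4,3,2,1,0,5,6,7,8,9,5,10,11,5,4,3,2,1,0,5,6,7,8,9,5,10,11,5,4,3,2,1,0,5,6,7,8,9,5,10,11,5,4,3,2,1,0,5,6,7,8,9,5,10]))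
 (Tr.node (Tr.leaf [7,10,2,3,4,5,6,7,10,2,3,4,5,6,7,10,2,3,4,5,6,7,10,2,3,4,5,6,7,10,0,2,3,4,5,6,7,10,2,3,4,5,6,7,10,2,3,4,5,6,7,10,2,3,4,5,6,7,10,2,3,4,5,6])
 (Tr.leaf [11,5,4,3,2,1,0,5,6,7,8,9,5,10,11,5,4,3,2,1,0,5,6,7,8,9,5,10,11,5,4,3,2,1,0,5,6,7,8,9,5,10,11,5,4,3,2,1,0,5,6,7,8,9,5,10,11,5,4,3,2,1,0,5,6,7,8,9,5,10,11,5,4,3,2,1,0,5,6,7,8,9,5,10,11,5,4,3,2,1,0,5,6,7,8,9,5,10,11,5,4,3,2,1,0,5,6,7,8,9,5,10,11,5,4,3,2,1,0,5,6,7,8,9,5,10,11,5,4,3,2,1,0,5,6,7,8,9,5,10,11,5,4,3,2,1,0,5,6,7,8,9,5,10,11,5,4,3,2,1,0,5,6,7,8,9,5,10,11,5,4,3,2,1,0,5,6,7,8,9,5,10,11,5,4,3,2,1,0,5,6,7,8,9,5,10,11,5,4,3,2,1,0,5,6,7,8,9,5,10,11,5,4,3,2,1,0,5,6,7,8,9,5,10,11,5,4,3,2,1,0,5,6,7,8,9,5,10]))))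
 (Tr.node (Tr.node (Tr.node (Tr.leaf [10,1,10,1])
 (Tr.leaf [11,5,4,3,2,1,0,5,6,7,8,9,5,10,11,5,4,3,2,1,0,5,6,7,8,9,5,10,11,5,4,3,2,1,0,5,6,7,8,9,5,10,11,5,4,3,2,1,0,5,6,7,8,9,5,10,11,5,4,3,2,1,0,5,6,7,8,9,5,10,11,5,4,3,2,1,0,5,6,7,8,9,5,10,11,5,4,3,2,1,0,5,6,7,8,9,5,10,11,5,4,3,2,1,0,5,6,7,8,9,5,10,11,5,4,3,2,1,0,5,6,7,8,9,5,10,11,5,4,3,2,1,0,5,6,7,8,9,5,10,11,5,4,3,2,1,0,5,6,7,8,9,5,10,11,5,4,3,2,1,0,5,6,7,8,9,5,10,11,5,4,3,2,1,0,5,6,7,8,9,5,10,11,5,4,3,2,1,0,5,6,7,8,9,5,10,11,5,4,3,2,1,0,5,6,7,8,9,5,10,11,5,4,3,2,1,0,5,6,7,8,9,5,10,11,5,4,3,2,1,0,5,6,7,8,9,5,10]))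
 (Tr.node (Tr.leaf [5,6,7,10,2,3,4,5,6,7,10,2,3,4,5,6,7,10,2,3,4,5,6,7,10,2,3,4,5,6,7,10,2,3,4,5,6,7,10,2,3,4,5,6,7,10,0,2,3,4,5,6,7,10,2,3,4,5,6,7,10,2,3,4])
 (Tr.leaf [11,5,4,3,2,1,0,5,6,7,8,9,5,10,11,5,4,3,2,1,0,5,6,7,8,9,5,10,11,5,4,3,2,1,0,5,6,7,8,9,5,10,11,5,4,3,2,1,0,5,6,7,8,9,5,10,11,5,4,3,2,1,0,5,6,7,8,9,5,10,11,5,4,3,2,1,0,5,6,7,8,9,5,10,11,5,4,3,2,1,0,5,6,7,8,9,5,10,11,5,4,3,2,1,0,5,6,7,8,9,5,10,11,5,4,3,2,1,0,5,6,7,8,9,5,10,11,5,4,3,2,1,0,5,6,7,8,9,5,10,11,5,4,3,2,1,0,5,6,7,8,9,5,10,11,5,4,3,2,1,0,5,6,7,8,9,5,10,11,5,4,3,2,1,0,5,6,7,8,9,5,10,11,5,4,3,2,1,0,5,6,7,8,9,5,10,11,5,4,3,2,1,0,5,6,7,8,9,5,10,11,5,4,3,2,1,0,5,6,7,8,9,5,10,11,5,4,3,2,1,0,5,6,7,8,9,5,10])))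
 (Tr.node (Tr.node (Tr.leaf [7,6,7,6,7,6])
 (Tr.leaf [11,5,4,3,2,1,0,5,6,7,8,9,5,10,11,5,4,3,2,1,0,5,6,7,8,9,5,10,11,5,4,3,2,1,0,5,6,7,8,9,5,10,11,5,4,3,2,1,0,5,6,7,8,9,5,10,11,5,4,3,2,1,0,5,6,7,8,9,5,10,11,5,4,3,2,1,0,5,6,7,8,9,5,10,11,5,4,3,2,1,0,5,6,7,8,9,5,10,11,5,4,3,2,1,0,5,6,7,8,9,5,10,11,5,4,3,2,1,0,5,6,7,8,9,5,10,11,5,4,3,2,1,0,5,6,7,8,9,5,10,11,5,4,3,2,1,0,5,6,7,8,9,5,10,11,5,4,3,2,1,0,5,6,7,8,9,5,10,11,5,4,3,2,1,0,5,6,7,8,9,5,10,11,5,4,3,2,1,0,5,6,7,8,9,5,10,11,5,4,3,2,1,0,5,6,7,8,9,5,10,11,5,4,3,2,1,0,5,6,7,8,9,5,10,11,5,4,3,2,1,0,5,6,7,8,9,5,10]))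
 (Tr.node (Tr.leaf [2,3,4,5,6,7,10,2,3,4,5,6,7,10,0,2,3,4,5,6,7,10,2,3,4,5,6,7,10,2,3,4,5,6,7,10,2,3,4,5,6,7,10,2,3,4,5,6,7,10,2,3,4,5,6,7,10,2,3,4,5,6,7,10])
 (Tr.leaf [11,5,4,3,2,1,0,5,6,7,8,9,5,10,11,5,4,3,2,1,0,5,6,7,8,9,5,10,11,5,4,3,2,1,0,5,6,7,8,9,5,10,11,5,4,3,2,1,0,5,6,7,8,9,5,10,11,5,4,3,2,1,0,5,6,7,8,9,5,10,11,5,4,3,2,1,0,5,6,7,8,9,5,10,11,5,4,3,2,1,0,5,6,7,8,9,5,10,11,5,4,3,2,1,0,5,6,7,8,9,5,10,11,5,4,3,2,1,0,5,6,7,8,9,5,10,11,5,4,3,2,1,0,5,6,7,8,9,5,10,11,5,4,3,2,1,0,5,6,7,8,9,5,10,11,5,4,3,2,1,0,5,6,7,8,9,5,10,11,5,4,3,2,1,0,5,6,7,8,9,5,10,11,5,4,3,2,1,0,5,6,7,8,9,5,10,11,5,4,3,2,1,0,5,6,7,8,9,5,10,11,5,4,3,2,1,0,5,6,7,8,9,5,10,11,5,4,3,2,1,0,5,6,7,8,9,5,10]))))))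
 (Tr.node (Tr.node (Tr.node (Tr.node (Tr.node (Tr.leaf [10,10])
 (Tr.leaf [7,10,0,2,3,4,5,6,7,10,2,3,4,5,6,7,10,2,3,4,5,6,7,10,2,3,4,5,6,7,10,2,3,4,5,6,7,10,2,3,4,5,6,7,10,2,3,4,5,6,7,10,2,3,4,5,6,7,10,2,3,4,5,6]))
 (Tr.node (Tr.leaf [10,9,10,9])
 (Tr.leaf [11,5,4,3,2,1,0,5,6,7,8,9,5,10,11,5,4,3,2,1,0,5,6,7,8,9,5,10,11,5,4,3,2,1,0,5,6,7,8,9,5,10,11,5,4,3,2,1,0,5,6,7,8,9,5,10,11,5,4,3,2,1,0,5,6,7,8,9,5,10,11,5,4,3,2,1,0,5,6,7,8,9,5,10,11,5,4,3,2,1,0,5,6,7,8,9,5,10,11,5,4,3,2,1,0,5,6,7,8,9,5,10,11,5,4,3,2,1,0,5,6,7,8,9,5,10,11,5,4,3,2,1,0,5,6,7,8,9,5,10,11,5,4,3,2,1,0,5,6,7,8,9,5,10,11,5,4,3,2,1,0,5,6,7,8,9,5,10,11,5,4,3,2,1,0,5,6,7,8,9,5,10,11,5,4,3,2,1,0,5,6,7,8,9,5,10,11,5,4,3,2,1,0,5,6,7,8,9,5,10,11,5,4,3,2,1,0,5,6,7,8,9,5,10,11,5,4,3,2,1,0,5,6,7,8,9,5,10])))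
 (Tr.node (Tr.node (Tr.leaf [5,3,5,3])
 (Tr.leaf [11,5,4,3,2,1,0,5,6,7,8,9,5,10,11,5,4,3,2,1,0,5,6,7,8,9,5,10,11,5,4,3,2,1,0,5,6,7,8,9,5,10,11,5,4,3,2,1,0,5,6,7,8,9,5,10,11,5,4,3,2,1,0,5,6,7,8,9,5,10,11,5,4,3,2,1,0,5,6,7,8,9,5,10,11,5,4,3,2,1,0,5,6,7,8,9,5,10,11,5,4,3,2,1,0,5,6,7,8,9,5,10,11,5,4,3,2,1,0,5,6,7,8,9,5,10,11,5,4,3,2,1,0,5,6,7,8,9,5,10,11,5,4,3,2,1,0,5,6,7,8,9,5,10,11,5,4,3,2,1,0,5,6,7,8,9,5,10,11,5,4,3,2,1,0,5,6,7,8,9,5,10,11,5,4,3,2,1,0,5,6,7,8,9,5,10,11,5,4,3,2,1,0,5,6,7,8,9,5,10,11,5,4,3,2,1,0,5,6,7,8,9,5,10,11,5,4,3,2,1,0,5,6,7,8,9,5,10]))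
 (Tr.node (Tr.leaf [3,4,5,6,7,10,2,3,4,5,6,7,10,2,3,4,5,6,7,10,2,3,4,5,6,7,10,2,3,4,5,6,7,10,0,2,3,4,5,6,7,10,2,3,4,5,6,7,10,2,3,4,5,6,7,10,2,3,4,5,6,7,10,2])
 (Tr.leaf [11,5,4,3,2,1,0,5,6,7,8,9,5,10,11,5,4,3,2,1,0,5,6,7,8,9,5,10,11,5,4,3,2,1,0,5,6,7,8,9,5,10,11,5,4,3,2,1,0,5,6,7,8,9,5,10,11,5,4,3,2,1,0,5,6,7,8,9,5,10,11,5,4,3,2,1,0,5,6,7,8,9,5,10,11,5,4,3,2,1,0,5,6,7,8,9,5,10,11,5,4,3,2,1,0,5,6,7,8,9,5,10,11,5,4,3,2,1,0,5,6,7,8,9,5,10,11,5,4,3,2,1,0,5,6,7,8,9,5,10,11,5,4,3,2,1,0,5,6,7,8,9,5,10,11,5,4,3,2,1,0,5,6,7,8,9,5,10,11,5,4,3,2,1,0,5,6,7,8,9,5,10,11,5,4,3,2,1,0,5,6,7,8,9,5,10,11,5,4,3,2,1,0,5,6,7,8,9,5,10,11,5,4,3,2,1,0,5,6,7,8,9,5,10,11,5,4,3,2,1,0,5,6,7,8,9,5,10]))))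
 (Tr.node (Tr.node (Tr.node (Tr.leaf [6,1,6,1])
 (Tr.leaf [5,11,10,5,9,8,7,6,5,0,1,2,3,4,5,11,10,5,9,8,7,6,5,0,1,2,3,4,5,11,10,5,9,8,7,6,5,0,1,2,3,4,5,11,10,5,9,8,7,6,5,0,1,2,3,4,5,11,10,5,9,8,7,6,5,0,1,2,3,4,5,11,10,5,9,8,7,6,5,0,1,2,3,4,5,11,10,5,9,8,7,6,5,0,1,2,3,4,5,11,10,5,9,8,7,6,5,0,1,2,3,4,5,11,10,5,9,8,7,6,5,0,1,2,3,4,5,11,10,5,9,8,7,6,5,0,1,2,3,4,5,11,10,5,9,8,7,6,5,0,1,2,3,4,5,11,10,5,9,8,7,6,5,0,1,2,3,4,5,11,10,5,9,8,7,6,5,0,1,2,3,4,5,11,10,5,9,8,7,6,5,0,1,2,3,4,5,11,10,5,9,8,7,6,5,0,1,2,3,4,5,11,10,5,9,8,7,6,5,0,1,2,3,4,5,11,10,5,9,8,7,6,5,0,1,2,3,4]))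
 (Tr.node (Tr.leaf [10,2,3,4,5,6,7,10,2,3,4,5,6,7,10,2,3,4,5,6,7,10,2,3,4,5,6,7,10,2,3,4,5,6,7,10,2,3,4,5,6,7,10,2,3,4,5,6,7,10,0,2,3,4,5,6,7,10,2,3,4,5,6,7])
 (Tr.leaf [11,5,4,3,2,1,0,5,6,7,8,9,5,10,11,5,4,3,2,1,0,5,6,7,8,9,5,10,11,5,4,3,2,1,0,5,6,7,8,9,5,10,11,5,4,3,2,1,0,5,6,7,8,9,5,10,11,5,4,3,2,1,0,5,6,7,8,9,5,10,11,5,4,3,2,1,0,5,6,7,8,9,5,10,11,5,4,3,2,1,0,5,6,7,8,9,5,10,11,5,4,3,2,1,0,5,6,7,8,9,5,10,11,5,4,3,2,1,0,5,6,7,8,9,5,10,11,5,4,3,2,1,0,5,6,7,8,9,5,10,11,5,4,3,2,1,0,5,6,7,8,9,5,10,11,5,4,3,2,1,0,5,6,7,8,9,5,10,11,5,4,3,2,1,0,5,6,7,8,9,5,10,11,5,4,3,2,1,0,5,6,7,8,9,5,10,11,5,4,3,2,1,0,5,6,7,8,9,5,10,11,5,4,3,2,1,0,5,6,7,8,9,5,10,11,5,4,3,2,1,0,5,6,7,8,9,5,10])))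
 (Tr.node (Tr.node (Tr.leaf [8,5,8,5])
 (Tr.leaf [11,5,4,3,2,1,0,5,6,7,8,9,5,10,11,5,4,3,2,1,0,5,6,7,8,9,5,10,11,5,4,3,2,1,0,5,6,7,8,9,5,10,11,5,4,3,2,1,0,5,6,7,8,9,5,10,11,5,4,3,2,1,0,5,6,7,8,9,5,10,11,5,4,3,2,1,0,5,6,7,8,9,5,10,11,5,4,3,2,1,0,5,6,7,8,9,5,10,11,5,4,3,2,1,0,5,6,7,8,9,5,10,11,5,4,3,2,1,0,5,6,7,8,9,5,10,11,5,4,3,2,1,0,5,6,7,8,9,5,10,11,5,4,3,2,1,0,5,6,7,8,9,5,10,11,5,4,3,2,1,0,5,6,7,8,9,5,10,11,5,4,3,2,1,0,5,6,7,8,9,5,10,11,5,4,3,2,1,0,5,6,7,8,9,5,10,11,5,4,3,2,1,0,5,6,7,8,9,5,10,11,5,4,3,2,1,0,5,6,7,8,9,5,10,11,5,4,3,2,1,0,5,6,7,8,9,5,10]))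
 (Tr.node (Tr.leaf [5,6,7,10,2,3,4,5,6,7,10,2,3,4,5,6,7,10,0,2,3,4,5,6,7,10,2,3,4,5,6,7,10,2,3,4,5,6,7,10,2,3,4,5,6,7,10,2,3,4,5,6,7,10,2,3,4,5,6,7,10,2,3,4])
 (Tr.leaf [11,5,4,3,2,1,0,5,6,7,8,9,5,10,11,5,4,3,2,1,0,5,6,7,8,9,5,10,11,5,4,3,2,1,0,5,6,7,8,9,5,10,11,5,4,3,2,1,0,5,6,7,8,9,5,10,11,5,4,3,2,1,0,5,6,7,8,9,5,10,11,5,4,3,2,1,0,5,6,7,8,9,5,10,11,5,4,3,2,1,0,5,6,7,8,9,5,10,11,5,4,3,2,1,0,5,6,7,8,9,5,10,11,5,4,3,2,1,0,5,6,7,8,9,5,10,11,5,4,3,2,1,0,5,6,7,8,9,5,10,11,5,4,3,2,1,0,5,6,7,8,9,5,10,11,5,4,3,2,1,0,5,6,7,8,9,5,10,11,5,4,3,2,1,0,5,6,7,8,9,5,10,11,5,4,3,2,1,0,5,6,7,8,9,5,10,11,5,4,3,2,1,0,5,6,7,8,9,5,10,11,5,4,3,2,1,0,5,6,7,8,9,5,10,11,5,4,3,2,1,0,5,6,7,8,9,5,10])))))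
 (Tr.node (Tr.node (Tr.node (Tr.node (Tr.leaf [8,0,8,0])
 (Tr.leaf [7,6,5,0,1,2,3,4,5,11,10,5,9,8,7,6,5,0,1,2,3,4,5,11,10,5,9,8,7,6,5,0,1,2,3,4,5,11,10,5,9,8,7,6,5,0,1,2,3,4,5,11,10,5,9,8,7,6,5,0,1,2,3,4,5,11,10,5,9,8,7,6,5,0,1,2,3,4,5,11,10,5,9,8,7,6,5,0,1,2,3,4,5,11,10,5,9,8,7,6,5,0,1,2,3,4,5,11,10,5,9,8,7,6,5,0,1,2,3,4,5,11,10,5,9,8,7,6,5,0,1,2,3,4,5,11,10,5,9,8,7,6,5,0,1,2,3,4,5,11,10,5,9,8,7,6,5,0,1,2,3,4,5,11,10,5,9,8,7,6,5,0,1,2,3,4,5,11,10,5,9,8,7,6,5,0,1,2,3,4,5,11,10,5,9,8,7,6,5,0,1,2,3,4,5,11,10,5,9,8,7,6,5,0,1,2,3,4,5,11,10,5,9,8,7,6,5,0,1,2,3,4,5,11,10,5,9,8]))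
 (Tr.node (Tr.leaf [7,10,2,3,4,5,6,7,10,2,3,4,5,6,7,10,2,3,4,5,6,7,10,2,3,4,5,6,7,10,2,3,4,5,6,7,10,2,3,4,5,6,7,10,2,3,4,5,6,7,10,2,3,4,5,6,7,10,0,2,3,4,5,6])
 (Tr.leaf [11,5,4,3,2,1,0,5,6,7,8,9,5,10,11,5,4,3,2,1,0,5,6,7,8,9,5,10,11,5,4,3,2,1,0,5,6,7,8,9,5,10,11,5,4,3,2,1,0,5,6,7,8,9,5,10,11,5,4,3,2,1,0,5,6,7,8,9,5,10,11,5,4,3,2,1,0,5,6,7,8,9,5,10,11,5,4,3,2,1,0,5,6,7,8,9,5,10,11,5,4,3,2,1,0,5,6,7,8,9,5,10,11,5,4,3,2,1,0,5,6,7,8,9,5,10,11,5,4,3,2,1,0,5,6,7,8,9,5,10,11,5,4,3,2,1,0,5,6,7,8,9,5,10,11,5,4,3,2,1,0,5,6,7,8,9,5,10,11,5,4,3,2,1,0,5,6,7,8,9,5,10,11,5,4,3,2,1,0,5,6,7,8,9,5,10,11,5,4,3,2,1,0,5,6,7,8,9,5,10,11,5,4,3,2,1,0,5,6,7,8,9,5,10,11,5,4,3,2,1,0,5,6,7,8,9,5,10])))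
 (Tr.node (Tr.node (Tr.leaf [6,4,6,4])
 (Tr.leaf [11,5,4,3,2,1,0,5,6,7,8,9,5,10,11,5,4,3,2,1,0,5,6,7,8,9,5,10,11,5,4,3,2,1,0,5,6,7,8,9,5,10,11,5,4,3,2,1,0,5,6,7,8,9,5,10,11,5,4,3,2,1,0,5,6,7,8,9,5,10,11,5,4,3,2,1,0,5,6,7,8,9,5,10,11,5,4,3,2,1,0,5,6,7,8,9,5,10,11,5,4,3,2,1,0,5,6,7,8,9,5,10,11,5,4,3,2,1,0,5,6,7,8,9,5,10,11,5,4,3,2,1,0,5,6,7,8,9,5,10,11,5,4,3,2,1,0,5,6,7,8,9,5,10,11,5,4,3,2,1,0,5,6,7,8,9,5,10,11,5,4,3,2,1,0,5,6,7,8,9,5,10,11,5,4,3,2,1,0,5,6,7,8,9,5,10,11,5,4,3,2,1,0,5,6,7,8,9,5,10,11,5,4,3,2,1,0,5,6,7,8,9,5,10,11,5,4,3,2,1,0,5,6,7,8,9,5,10]))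
 (Tr.node (Tr.leaf [4,5,6,7,10,2,3,4,5,6,7,10,2,3,4,5,6,7,10,2,3,4,5,6,7,10,0,2,3,4,5,6,7,10,2,3,4,5,6,7,10,2,3,4,5,6,7,10,2,3,4,5,6,7,10,2,3,4,5,6,7,10,2,3])
 (Tr.leaf [11,5,4,3,2,1,0,5,6,7,8,9,5,10,11,5,4,3,2,1,0,5,6,7,8,9,5,10,11,5,4,3,2,1,0,5,6,7,8,9,5,10,11,5,4,3,2,1,0,5,6,7,8,9,5,10,11,5,4,3,2,1,0,5,6,7,8,9,5,10,11,5,4,3,2,1,0,5,6,7,8,9,5,10,11,5,4,3,2,1,0,5,6,7,8,9,5,10,11,5,4,3,2,1,0,5,6,7,8,9,5,10,11,5,4,3,2,1,0,5,6,7,8,9,5,10,11,5,4,3,2,1,0,5,6,7,8,9,5,10,11,5,4,3,2,1,0,5,6,7,8,9,5,10,11,5,4,3,2,1,0,5,6,7,8,9,5,10,11,5,4,3,2,1,0,5,6,7,8,9,5,10,11,5,4,3,2,1,0,5,6,7,8,9,5,10,11,5,4,3,2,1,0,5,6,7,8,9,5,10,11,5,4,3,2,1,0,5,6,7,8,9,5,10,11,5,4,3,2,1,0,5,6,7,8,9,5,10]))))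
 (Tr.node (Tr.node (Tr.node (Tr.leaf [5,2,5,2])
 (Tr.leaf [11,5,4,3,2,1,0,5,6,7,8,9,5,10,11,5,4,3,2,1,0,5,6,7,8,9,5,10,11,5,4,3,2,1,0,5,6,7,8,9,5,10,11,5,4,3,2,1,0,5,6,7,8,9,5,10,11,5,4,3,2,1,0,5,6,7,8,9,5,10,11,5,4,3,2,1,0,5,6,7,8,9,5,10,11,5,4,3,2,1,0,5,6,7,8,9,5,10,11,5,4,3,2,1,0,5,6,7,8,9,5,10,11,5,4,3,2,1,0,5,6,7,8,9,5,10,11,5,4,3,2,1,0,5,6,7,8,9,5,10,11,5,4,3,2,1,0,5,6,7,8,9,5,10,11,5,4,3,2,1,0,5,6,7,8,9,5,10,11,5,4,3,2,1,0,5,6,7,8,9,5,10,11,5,4,3,2,1,0,5,6,7,8,9,5,10,11,5,4,3,2,1,0,5,6,7,8,9,5,10,11,5,4,3,2,1,0,5,6,7,8,9,5,10,11,5,4,3,2,1,0,5,6,7,8,9,5,10]))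
 (Tr.node (Tr.leaf [2,3,4,5,6,7,10,2,3,4,5,6,7,10,2,3,4,5,6,7,10,2,3,4,5,6,7,10,2,3,4,5,6,7,10,2,3,4,5,6,7,10,0,2,3,4,5,6,7,10,2,3,4,5,6,7,10,2,3,4,5,6,7,10])
 (Tr.leaf [11,5,4,3,2,1,0,5,6,7,8,9,5,10,11,5,4,3,2,1,0,5,6,7,8,9,5,10,11,5,4,3,2,1,0,5,6,7,8,9,5,10,11,5,4,3,2,1,0,5,6,7,8,9,5,10,11,5,4,3,2,1,0,5,6,7,8,9,5,10,11,5,4,3,2,1,0,5,6,7,8,9,5,10,11,5,4,3,2,1,0,5,6,7,8,9,5,10,11,5,4,3,2,1,0,5,6,7,8,9,5,10,11,5,4,3,2,1,0,5,6,7,8,9,5,10,11,5,4,3,2,1,0,5,6,7,8,9,5,10,11,5,4,3,2,1,0,5,6,7,8,9,5,10,11,5,4,3,2,1,0,5,6,7,8,9,5,10,11,5,4,3,2,1,0,5,6,7,8,9,5,10,11,5,4,3,2,1,0,5,6,7,8,9,5,10,11,5,4,3,2,1,0,5,6,7,8,9,5,10,11,5,4,3,2,1,0,5,6,7,8,9,5,10,11,5,4,3,2,1,0,5,6,7,8,9,5,10])))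
 (Tr.node (Tr.node (Tr.leaf [11,6,11,6])
 (Tr.leaf [11,5,4,3,2,1,0,5,6,7,8,9,5,10,11,5,4,3,2,1,0,5,6,7,8,9,5,10,11,5,4,3,2,1,0,5,6,7,8,9,5,10,11,5,4,3,2,1,0,5,6,7,8,9,5,10,11,5,4,3,2,1,0,5,6,7,8,9,5,10,11,5,4,3,2,1,0,5,6,7,8,9,5,10,11,5,4,3,2,1,0,5,6,7,8,9,5,10,11,5,4,3,2,1,0,5,6,7,8,9,5,10,11,5,4,3,2,1,0,5,6,7,8,9,5,10,11,5,4,3,2,1,0,5,6,7,8,9,5,10,11,5,4,3,2,1,0,5,6,7,8,9,5,10,11,5,4,3,2,1,0,5,6,7,8,9,5,10,11,5,4,3,2,1,0,5,6,7,8,9,5,10,11,5,4,3,2,1,0,5,6,7,8,9,5,10,11,5,4,3,2,1,0,5,6,7,8,9,5,10,11,5,4,3,2,1,0,5,6,7,8,9,5,10,11,5,4,3,2,1,0,5,6,7,8,9,5,10]))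
 (Tr.node (Tr.leaf [6,7,10,2,3,4,5,6,7,10,0,2,3,4,5,6,7,10,2,3,4,5,6,7,10,2,3,4,5,6,7,10,2,3,4,5,6,7,10,2,3,4,5,6,7,10,2,3,4,5,6,7,10,2,3,4,5,6,7,10,2,3,4,5])
 (Tr.leaf [11,5,4,3,2,1,0,5,6,7,8,9,5,10,11,5,4,3,2,1,0,5,6,7,8,9,5,10,11,5,4,3,2,1,0,5,6,7,8,9,5,10,11,5,4,3,2,1,0,5,6,7,8,9,5,10,11,5,4,3,2,1,0,5,6,7,8,9,5,10,11,5,4,3,2,1,0,5,6,7,8,9,5,10,11,5,4,3,2,1,0,5,6,7,8,9,5,10,11,5,4,3,2,1,0,5,6,7,8,9,5,10,11,5,4,3,2,1,0,5,6,7,8,9,5,10,11,5,4,3,2,1,0,5,6,7,8,9,5,10,11,5,4,3,2,1,0,5,6,7,8,9,5,10,11,5,4,3,2,1,0,5,6,7,8,9,5,10,11,5,4,3,2,1,0,5,6,7,8,9,5,10,11,5,4,3,2,1,0,5,6,7,8,9,5,10,11,5,4,3,2,1,0,5,6,7,8,9,5,10,11,5,4,3,2,1,0,5,6,7,8,9,5,10,11,5,4,3,2,1,0,5,6,7,8,9,5,10])))))))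
 (Tr.node (Tr.node (Tr.node (Tr.node (Tr.node (Tr.node (Tr.leaf [6,6])
 (Tr.leaf [5,6,7,10,0,2,3,4,5,6,7,10,2,3,4,5,6,7,10,2,3,4,5,6,7,10,2,3,4,5,6,7,10,2,3,4,5,6,7,10,2,3,4,5,6,7,10,2,3,4,5,6,7,10,2,3,4,5,6,7,10,2,3,4]))
 (Tr.node (Tr.leaf [10,8,10,8])
 (Tr.leaf [11,5,4,3,2,1,0,5,6,7,8,9,5,10,11,5,4,3,2,1,0,5,6,7,8,9,5,10,11,5,4,3,2,1,0,5,6,7,8,9,5,10,11,5,4,3,2,1,0,5,6,7,8,9,5,10,11,5,4,3,2,1,0,5,6,7,8,9,5,10,11,5,4,3,2,1,0,5,6,7,8,9,5,10,11,5,4,3,2,1,0,5,6,7,8,9,5,10,11,5,4,3,2,1,0,5,6,7,8,9,5,10,11,5,4,3,2,1,0,5,6,7,8,9,5,10,11,5,4,3,2,1,0,5,6,7,8,9,5,10,11,5,4,3,2,1,0,5,6,7,8,9,5,10,11,5,4,3,2,1,0,5,6,7,8,9,5,10,11,5,4,3,2,1,0,5,6,7,8,9,5,10,11,5,4,3,2,1,0,5,6,7,8,9,5,10,11,5,4,3,2,1,0,5,6,7,8,9,5,10,11,5,4,3,2,1,0,5,6,7,8,9,5,10,11,5,4,3,2,1,0,5,6,7,8,9,5,10])))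
 (Tr.node (Tr.node (Tr.leaf [11,2,11,2])
 (Tr.leaf [11,5,4,3,2,1,0,5,6,7,8,9,5,10,11,5,4,3,2,1,0,5,6,7,8,9,5,10,11,5,4,3,2,1,0,5,6,7,8,9,5,10,11,5,4,3,2,1,0,5,6,7,8,9,5,10,11,5,4,3,2,1,0,5,6,7,8,9,5,10,11,5,4,3,2,1,0,5,6,7,8,9,5,10,11,5,4,3,2,1,0,5,6,7,8,9,5,10,11,5,4,3,2,1,0,5,6,7,8,9,5,10,11,5,4,3,2,1,0,5,6,7,8,9,5,10,11,5,4,3,2,1,0,5,6,7,8,9,5,10,11,5,4,3,2,1,0,5,6,7,8,9,5,10,11,5,4,3,2,1,0,5,6,7,8,9,5,10,11,5,4,3,2,1,0,5,6,7,8,9,5,10,11,5,4,3,2,1,0,5,6,7,8,9,5,10,11,5,4,3,2,1,0,5,6,7,8,9,5,10,11,5,4,3,2,1,0,5,6,7,8,9,5,10,11,5,4,3,2,1,0,5,6,7,8,9,5,10]))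
 (Tr.node (Tr.leaf [10,2,3,4,5,6,7,10,2,3,4,5,6,7,10,2,3,4,5,6,7,10,2,3,4,5,6,7,10,2,3,4,5,6,7,10,0,2,3,4,5,6,7,10,2,3,4,5,6,7,10,2,3,4,5,6,7,10,2,3,4,5,6,7])
 (Tr.leaf [11,5,4,3,2,1,0,5,6,7,8,9,5,10,11,5,4,3,2,1,0,5,6,7,8,9,5,10,11,5,4,3,2,1,0,5,6,7,8,9,5,10,11,5,4,3,2,1,0,5,6,7,8,9,5,10,11,5,4,3,2,1,0,5,6,7,8,9,5,10,11,5,4,3,2,1,0,5,6,7,8,9,5,10,11,5,4,3,2,1,0,5,6,7,8,9,5,10,11,5,4,3,2,1,0,5,6,7,8,9,5,10,11,5,4,3,2,1,0,5,6,7,8,9,5,10,11,5,4,3,2,1,0,5,6,7,8,9,5,10,11,5,4,3,2,1,0,5,6,7,8,9,5,10,11,5,4,3,2,1,0,5,6,7,8,9,5,10,11,5,4,3,2,1,0,5,6,7,8,9,5,10,11,5,4,3,2,1,0,5,6,7,8,9,5,10,11,5,4,3,2,1,0,5,6,7,8,9,5,10,11,5,4,3,2,1,0,5,6,7,8,9,5,10,11,5,4,3,2,1,0,5,6,7,8,9,5,10]))))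
 (Tr.node (Tr.node (Tr.node (Tr.leaf [4,1,4,1])
 (Tr.leaf [3,4,5,11,10,5,9,8,7,6,5,0,1,2,3,4,5,11,10,5,9,8,7,6,5,0,1,2,3,4,5,11,10,5,9,8,7,6,5,0,1,2,3,4,5,11,10,5,9,8,7,6,5,0,1,2,3,4,5,11,10,5,9,8,7,6,5,0,1,2,3,4,5,11,10,5,9,8,7,6,5,0,1,2,3,4,5,11,10,5,9,8,7,6,5,0,1,2,3,4,5,11,10,5,9,8,7,6,5,0,1,2,3,4,5,11,10,5,9,8,7,6,5,0,1,2,3,4,5,11,10,5,9,8,7,6,5,0,1,2,3,4,5,11,10,5,9,8,7,6,5,0,1,2,3,4,5,11,10,5,9,8,7,6,5,0,1,2,3,4,5,11,10,5,9,8,7,6,5,0,1,2,3,4,5,11,10,5,9,8,7,6,5,0,1,2,3,4,5,11,10,5,9,8,7,6,5,0,1,2,3,4,5,11,10,5,9,8,7,6,5,0,1,2,3,4,5,11,10,5,9,8,7,6,5,0,1,2]))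
 (Tr.node (Tr.leaf [6,7,10,2,3,4,5,6,7,10,2,3,4,5,6,7,10,2,3,4,5,6,7,10,2,3,4,5,6,7,10,2,3,4,5,6,7,10,2,3,4,5,6,7,10,2,3,4,5,6,7,10,0,2,3,4,5,6,7,10,2,3,4,5])
 (Tr.leaf [11,5,4,3,2,1,0,5,6,7,8,9,5,10,11,5,4,3,2,1,0,5,6,7,8,9,5,10,11,5,4,3,2,1,0,5,6,7,8,9,5,10,11,5,4,3,2,1,0,5,6,7,8,9,5,10,11,5,4,3,2,1,0,5,6,7,8,9,5,10,11,5,4,3,2,1,0,5,6,7,8,9,5,10,11,5,4,3,2,1,0,5,6,7,8,9,5,10,11,5,4,3,2,1,0,5,6,7,8,9,5,10,11,5,4,3,2,1,0,5,6,7,8,9,5,10,11,5,4,3,2,1,0,5,6,7,8,9,5,10,11,5,4,3,2,1,0,5,6,7,8,9,5,10,11,5,4,3,2,1,0,5,6,7,8,9,5,10,11,5,4,3,2,1,0,5,6,7,8,9,5,10,11,5,4,3,2,1,0,5,6,7,8,9,5,10,11,5,4,3,2,1,0,5,6,7,8,9,5,10,11,5,4,3,2,1,0,5,6,7,8,9,5,10,11,5,4,3,2,1,0,5,6,7,8,9,5,10])))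
 (Tr.node (Tr.node (Tr.leaf [6,5,6,5,6,5])
 (Tr.leaf [11,5,4,3,2,1,0,5,6,7,8,9,5,10,11,5,4,3,2,1,0,5,6,7,8,9,5,10,11,5,4,3,2,1,0,5,6,7,8,9,5,10,11,5,4,3,2,1,0,5,6,7,8,9,5,10,11,5,4,3,2,1,0,5,6,7,8,9,5,10,11,5,4,3,2,1,0,5,6,7,8,9,5,10,11,5,4,3,2,1,0,5,6,7,8,9,5,10,11,5,4,3,2,1,0,5,6,7,8,9,5,10,11,5,4,3,2,1,0,5,6,7,8,9,5,10,11,5,4,3,2,1,0,5,6,7,8,9,5,10,11,5,4,3,2,1,0,5,6,7,8,9,5,10,11,5,4,3,2,1,0,5,6,7,8,9,5,10,11,5,4,3,2,1,0,5,6,7,8,9,5,10,11,5,4,3,2,1,0,5,6,7,8,9,5,10,11,5,4,3,2,1,0,5,6,7,8,9,5,10,11,5,4,3,2,1,0,5,6,7,8,9,5,10,11,5,4,3,2,1,0,5,6,7,8,9,5,10]))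
 (Tr.node (Tr.leaf [3,4,5,6,7,10,2,3,4,5,6,7,10,2,3,4,5,6,7,10,0,2,3,4,5,6,7,10,2,3,4,5,6,7,10,2,3,4,5,6,7,10,2,3,4,5,6,7,10,2,3,4,5,6,7,10,2,3,4,5,6,7,10,2])
 (Tr.leaf [11,5,4,3,2,1,0,5,6,7,8,9,5,10,11,5,4,3,2,1,0,5,6,7,8,9,5,10,11,5,4,3,2,1,0,5,6,7,8,9,5,10,11,5,4,3,2,1,0,5,6,7,8,9,5,10,11,5,4,3,2,1,0,5,6,7,8,9,5,10,11,5,4,3,2,1,0,5,6,7,8,9,5,10,11,5,4,3,2,1,0,5,6,7,8,9,5,10,11,5,4,3,2,1,0,5,6,7,8,9,5,10,11,5,4,3,2,1,0,5,6,7,8,9,5,10,11,5,4,3,2,1,0,5,6,7,8,9,5,10,11,5,4,3,2,1,0,5,6,7,8,9,5,10,11,5,4,3,2,1,0,5,6,7,8,9,5,10,11,5,4,3,2,1,0,5,6,7,8,9,5,10,11,5,4,3,2,1,0,5,6,7,8,9,5,10,11,5,4,3,2,1,0,5,6,7,8,9,5,10,11,5,4,3,2,1,0,5,6,7,8,9,5,10,11,5,4,3,2,1,0,5,6,7,8,9,5,10])))))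
 (Tr.node (Tr.node (Tr.node (Tr.node (Tr.leaf [6,0,6,0])
 (Tr.leaf [9,8,7,6,5,0,1,2,3,4,5,11,10,5,9,8,7,6,5,0,1,2,3,4,5,11,10,5,9,8,7,6,5,0,1,2,3,4,5,11,10,5,9,8,7,6,5,0,1,2,3,4,5,11,10,5,9,8,7,6,5,0,1,2,3,4,5,11,10,5,9,8,7,6,5,0,1,2,3,4,5,11,10,5,9,8,7,6,5,0,1,2,3,4,5,11,10,5,9,8,7,6,5,0,1,2,3,4,5,11,10,5,9,8,7,6,5,0,1,2,3,4,5,11,10,5,9,8,7,6,5,0,1,2,3,4,5,11,10,5,9,8,7,6,5,0,1,2,3,4,5,11,10,5,9,8,7,6,5,0,1,2,3,4,5,11,10,5,9,8,7,6,5,0,1,2,3,4,5,11,10,5,9,8,7,6,5,0,1,2,3,4,5,11,10,5,9,8,7,6,5,0,1,2,3,4,5,11,10,5,9,8,7,6,5,0,1,2,3,4,5,11,10,5,9,8,7,6,5,0,1,2,3,4,5,11,10,5]))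
 (Tr.node (Tr.leaf [5,6,7,10,2,3,4,5,6,7,10,2,3,4,5,6,7,10,2,3,4,5,6,7,10,2,3,4,5,6,7,10,2,3,4,5,6,7,10,2,3,4,5,6,7,10,2,3,4,5,6,7,10,2,3,4,5,6,7,10,0,2,3,4])
 (Tr.leaf [11,5,4,3,2,1,0,5,6,7,8,9,5,10,11,5,4,3,2,1,0,5,6,7,8,9,5,10,11,5,4,3,2,1,0,5,6,7,8,9,5,10,11,5,4,3,2,1,0,5,6,7,8,9,5,10,11,5,4,3,2,1,0,5,6,7,8,9,5,10,11,5,4,3,2,1,0,5,6,7,8,9,5,10,11,5,4,3,2,1,0,5,6,7,8,9,5,10,11,5,4,3,2,1,0,5,6,7,8,9,5,10,11,5,4,3,2,1,0,5,6,7,8,9,5,10,11,5,4,3,2,1,0,5,6,7,8,9,5,10,11,5,4,3,2,1,0,5,6,7,8,9,5,10,11,5,4,3,2,1,0,5,6,7,8,9,5,10,11,5,4,3,2,1,0,5,6,7,8,9,5,10,11,5,4,3,2,1,0,5,6,7,8,9,5,10,11,5,4,3,2,1,0,5,6,7,8,9,5,10,11,5,4,3,2,1,0,5,6,7,8,9,5,10,11,5,4,3,2,1,0,5,6,7,8,9,5,10])))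
 (Tr.node (Tr.node (Tr.leaf [11,3,11,3])
 (Tr.leaf [11,5,4,3,2,1,0,5,6,7,8,9,5,10,11,5,4,3,2,1,0,5,6,7,8,9,5,10,11,5,4,3,2,1,0,5,6,7,8,9,5,10,11,5,4,3,2,1,0,5,6,7,8,9,5,10,11,5,4,3,2,1,0,5,6,7,8,9,5,10,11,5,4,3,2,1,0,5,6,7,8,9,5,10,11,5,4,3,2,1,0,5,6,7,8,9,5,10,11,5,4,3,2,1,0,5,6,7,8,9,5,10,11,5,4,3,2,1,0,5,6,7,8,9,5,10,11,5,4,3,2,1,0,5,6,7,8,9,5,10,11,5,4,3,2,1,0,5,6,7,8,9,5,10,11,5,4,3,2,1,0,5,6,7,8,9,5,10,11,5,4,3,2,1,0,5,6,7,8,9,5,10,11,5,4,3,2,1,0,5,6,7,8,9,5,10,11,5,4,3,2,1,0,5,6,7,8,9,5,10,11,5,4,3,2,1,0,5,6,7,8,9,5,10,11,5,4,3,2,1,0,5,6,7,8,9,5,10]))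
 (Tr.node (Tr.leaf [2,3,4,5,6,7,10,2,3,4,5,6,7,10,2,3,4,5,6,7,10,2,3,4,5,6,7,10,0,2,3,4,5,6,7,10,2,3,4,5,6,7,10,2,3,4,5,6,7,10,2,3,4,5,6,7,10,2,3,4,5,6,7,10])
 (Tr.leaf [11,5,4,3,2,1,0,5,6,7,8,9,5,10,11,5,4,3,2,1,0,5,6,7,8,9,5,10,11,5,4,3,2,1,0,5,6,7,8,9,5,10,11,5,4,3,2,1,0,5,6,7,8,9,5,10,11,5,4,3,2,1,0,5,6,7,8,9,5,10,11,5,4,3,2,1,0,5,6,7,8,9,5,10,11,5,4,3,2,1,0,5,6,7,8,9,5,10,11,5,4,3,2,1,0,5,6,7,8,9,5,10,11,5,4,3,2,1,0,5,6,7,8,9,5,10,11,5,4,3,2,1,0,5,6,7,8,9,5,10,11,5,4,3,2,1,0,5,6,7,8,9,5,10,11,5,4,3,2,1,0,5,6,7,8,9,5,10,11,5,4,3,2,1,0,5,6,7,8,9,5,10,11,5,4,3,2,1,0,5,6,7,8,9,5,10,11,5,4,3,2,1,0,5,6,7,8,9,5,10,11,5,4,3,2,1,0,5,6,7,8,9,5,10,11,5,4,3,2,1,0,5,6,7,8,9,5,10]))))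
 (Tr.node (Tr.node (Tr.node (Tr.leaf [3,2,3,2,3,2])
 (Tr.leaf [11,5,4,3,2,1,0,5,6,7,8,9,5,10,11,5,4,3,2,1,0,5,6,7,8,9,5,10,11,5,4,3,2,1,0,5,6,7,8,9,5,10,11,5,4,3,2,1,0,5,6,7,8,9,5,10,11,5,4,3,2,1,0,5,6,7,8,9,5,10,11,5,4,3,2,1,0,5,6,7,8,9,5,10,11,5,4,3,2,1,0,5,6,7,8,9,5,10,11,5,4,3,2,1,0,5,6,7,8,9,5,10,11,5,4,3,2,1,0,5,6,7,8,9,5,10,11,5,4,3,2,1,0,5,6,7,8,9,5,10,11,5,4,3,2,1,0,5,6,7,8,9,5,10,11,5,4,3,2,1,0,5,6,7,8,9,5,10,11,5,4,3,2,1,0,5,6,7,8,9,5,10,11,5,4,3,2,1,0,5,6,7,8,9,5,10,11,5,4,3,2,1,0,5,6,7,8,9,5,10,11,5,4,3,2,1,0,5,6,7,8,9,5,10,11,5,4,3,2,1,0,5,6,7,8,9,5,10]))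
 (Tr.node (Tr.leaf [7,10,2,3,4,5,6,7,10,2,3,4,5,6,7,10,2,3,4,5,6,7,10,2,3,4,5,6,7,10,2,3,4,5,6,7,10,2,3,4,5,6,7,10,0,2,3,4,5,6,7,10,2,3,4,5,6,7,10,2,3,4,5,6])
 (Tr.leaf [11,5,4,3,2,1,0,5,6,7,8,9,5,10,11,5,4,3,2,1,0,5,6,7,8,9,5,10,11,5,4,3,2,1,0,5,6,7,8,9,5,10,11,5,4,3,2,1,0,5,6,7,8,9,5,10,11,5,4,3,2,1,0,5,6,7,8,9,5,10,11,5,4,3,2,1,0,5,6,7,8,9,5,10,11,5,4,3,2,1,0,5,6,7,8,9,5,10,11,5,4,3,2,1,0,5,6,7,8,9,5,10,11,5,4,3,2,1,0,5,6,7,8,9,5,10,11,5,4,3,2,1,0,5,6,7,8,9,5,10,11,5,4,3,2,1,0,5,6,7,8,9,5,10,11,5,4,3,2,1,0,5,6,7,8,9,5,10,11,5,4,3,2,1,0,5,6,7,8,9,5,10,11,5,4,3,2,1,0,5,6,7,8,9,5,10,11,5,4,3,2,1,0,5,6,7,8,9,5,10,11,5,4,3,2,1,0,5,6,7,8,9,5,10,11,5,4,3,2,1,0,5,6,7,8,9,5,10])))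
 (Tr.node (Tr.node (Tr.leaf [9,6,9,6])
 (Tr.leaf [11,5,4,3,2,1,0,5,6,7,8,9,5,10,11,5,4,3,2,1,0,5,6,7,8,9,5,10,11,5,4,3,2,1,0,5,6,7,8,9,5,10,11,5,4,3,2,1,0,5,6,7,8,9,5,10,11,5,4,3,2,1,0,5,6,7,8,9,5,10,11,5,4,3,2,1,0,5,6,7,8,9,5,10,11,5,4,3,2,1,0,5,6,7,8,9,5,10,11,5,4,3,2,1,0,5,6,7,8,9,5,10,11,5,4,3,2,1,0,5,6,7,8,9,5,10,11,5,4,3,2,1,0,5,6,7,8,9,5,10,11,5,4,3,2,1,0,5,6,7,8,9,5,10,11,5,4,3,2,1,0,5,6,7,8,9,5,10,11,5,4,3,2,1,0,5,6,7,8,9,5,10,11,5,4,3,2,1,0,5,6,7,8,9,5,10,11,5,4,3,2,1,0,5,6,7,8,9,5,10,11,5,4,3,2,1,0,5,6,7,8,9,5,10,11,5,4,3,2,1,0,5,6,7,8,9,5,10]))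
 (Tr.node (Tr.leaf [4,5,6,7,10,2,3,4,5,6,7,10,0,2,3,4,5,6,7,10,2,3,4,5,6,7,10,2,3,4,5,6,7,10,2,3,4,5,6,7,10,2,3,4,5,6,7,10,2,3,4,5,6,7,10,2,3,4,5,6,7,10,2,3])
 (Tr.leaf [11,5,4,3,2,1,0,5,6,7,8,9,5,10,11,5,4,3,2,1,0,5,6,7,8,9,5,10,11,5,4,3,2,1,0,5,6,7,8,9,5,10,11,5,4,3,2,1,0,5,6,7,8,9,5,10,11,5,4,3,2,1,0,5,6,7,8,9,5,10,11,5,4,3,2,1,0,5,6,7,8,9,5,10,11,5,4,3,2,1,0,5,6,7,8,9,5,10,11,5,4,3,2,1,0,5,6,7,8,9,5,10,11,5,4,3,2,1,0,5,6,7,8,9,5,10,11,5,4,3,2,1,0,5,6,7,8,9,5,10,11,5,4,3,2,1,0,5,6,7,8,9,5,10,11,5,4,3,2,1,0,5,6,7,8,9,5,10,11,5,4,3,2,1,0,5,6,7,8,9,5,10,11,5,4,3,2,1,0,5,6,7,8,9,5,10,11,5,4,3,2,1,0,5,6,7,8,9,5,10,11,5,4,3,2,1,0,5,6,7,8,9,5,10,11,5,4,3,2,1,0,5,6,7,8,9,5,10]))))))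
 (Tr.node (Tr.node (Tr.node (Tr.node (Tr.node (Tr.leaf [2,0,2,0])
 (Tr.leaf [0,2,3,4,5,6,7,10,2,3,4,5,6,7,10,2,3,4,5,6,7,10,2,3,4,5,6,7,10,2,3,4,5,6,7,10,2,3,4,5,6,7,10,2,3,4,5,6,7,10,2,3,4,5,6,7,10,2,3,4,5,6,7,10]))
 (Tr.node (Tr.leaf [11,10,11,10,11,10])
 (Tr.leaf [11,5,4,3,2,1,0,5,6,7,8,9,5,10,11,5,4,3,2,1,0,5,6,7,8,9,5,10,11,5,4,3,2,1,0,5,6,7,8,9,5,10,11,5,4,3,2,1,0,5,6,7,8,9,5,10,11,5,4,3,2,1,0,5,6,7,8,9,5,10,11,5,4,3,2,1,0,5,6,7,8,9,5,10,11,5,4,3,2,1,0,5,6,7,8,9,5,10,11,5,4,3,2,1,0,5,6,7,8,9,5,10,11,5,4,3,2,1,0,5,6,7,8,9,5,10,11,5,4,3,2,1,0,5,6,7,8,9,5,10,11,5,4,3,2,1,0,5,6,7,8,9,5,10,11,5,4,3,2,1,0,5,6,7,8,9,5,10,11,5,4,3,2,1,0,5,6,7,8,9,5,10,11,5,4,3,2,1,0,5,6,7,8,9,5,10,11,5,4,3,2,1,0,5,6,7,8,9,5,10,11,5,4,3,2,1,0,5,6,7,8,9,5,10,11,5,4,3,2,1,0,5,6,7,8,9,5,10])))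
 (Tr.node (Tr.node (Tr.leaf [7,3,7,3])
 (Tr.leaf [11,5,4,3,2,1,0,5,6,7,8,9,5,10,11,5,4,3,2,1,0,5,6,7,8,9,5,10,11,5,4,3,2,1,0,5,6,7,8,9,5,10,11,5,4,3,2,1,0,5,6,7,8,9,5,10,11,5,4,3,2,1,0,5,6,7,8,9,5,10,11,5,4,3,2,1,0,5,6,7,8,9,5,10,11,5,4,3,2,1,0,5,6,7,8,9,5,10,11,5,4,3,2,1,0,5,6,7,8,9,5,10,11,5,4,3,2,1,0,5,6,7,8,9,5,10,11,5,4,3,2,1,0,5,6,7,8,9,5,10,11,5,4,3,2,1,0,5,6,7,8,9,5,10,11,5,4,3,2,1,0,5,6,7,8,9,5,10,11,5,4,3,2,1,0,5,6,7,8,9,5,10,11,5,4,3,2,1,0,5,6,7,8,9,5,10,11,5,4,3,2,1,0,5,6,7,8,9,5,10,11,5,4,3,2,1,0,5,6,7,8,9,5,10,11,5,4,3,2,1,0,5,6,7,8,9,5,10]))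
 (Tr.node (Tr.leaf [5,6,7,10,2,3,4,5,6,7,10,2,3,4,5,6,7,10,2,3,4,5,6,7,10,2,3,4,5,6,7,10,0,2,3,4,5,6,7,10,2,3,4,5,6,7,10,2,3,4,5,6,7,10,2,3,4,5,6,7,10,2,3,4])
 (Tr.leaf [11,5,4,3,2,1,0,5,6,7,8,9,5,10,11,5,4,3,2,1,0,5,6,7,8,9,5,10,11,5,4,3,2,1,0,5,6,7,8,9,5,10,11,5,4,3,2,1,0,5,6,7,8,9,5,10,11,5,4,3,2,1,0,5,6,7,8,9,5,10,11,5,4,3,2,1,0,5,6,7,8,9,5,10,11,5,4,3,2,1,0,5,6,7,8,9,5,10,11,5,4,3,2,1,0,5,6,7,8,9,5,10,11,5,4,3,2,1,0,5,6,7,8,9,5,10,11,5,4,3,2,1,0,5,6,7,8,9,5,10,11,5,4,3,2,1,0,5,6,7,8,9,5,10,11,5,4,3,2,1,0,5,6,7,8,9,5,10,11,5,4,3,2,1,0,5,6,7,8,9,5,10,11,5,4,3,2,1,0,5,6,7,8,9,5,10,11,5,4,3,2,1,0,5,6,7,8,9,5,10,11,5,4,3,2,1,0,5,6,7,8,9,5,10,11,5,4,3,2,1,0,5,6,7,8,9,5,10]))))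
 (Tr.node (Tr.node (Tr.node (Tr.leaf [8,1,8,1])
 (Tr.leaf [11,5,4,3,2,1,0,5,6,7,8,9,5,10,11,5,4,3,2,1,0,5,6,7,8,9,5,10,11,5,4,3,2,1,0,5,6,7,8,9,5,10,11,5,4,3,2,1,0,5,6,7,8,9,5,10,11,5,4,3,2,1,0,5,6,7,8,9,5,10,11,5,4,3,2,1,0,5,6,7,8,9,5,10,11,5,4,3,2,1,0,5,6,7,8,9,5,10,11,5,4,3,2,1,0,5,6,7,8,9,5,10,11,5,4,3,2,1,0,5,6,7,8,9,5,10,11,5,4,3,2,1,0,5,6,7,8,9,5,10,11,5,4,3,2,1,0,5,6,7,8,9,5,10,11,5,4,3,2,1,0,5,6,7,8,9,5,10,11,5,4,3,2,1,0,5,6,7,8,9,5,10,11,5,4,3,2,1,0,5,6,7,8,9,5,10,11,5,4,3,2,1,0,5,6,7,8,9,5,10,11,5,4,3,2,1,0,5,6,7,8,9,5,10,11,5,4,3,2,1,0,5,6,7,8,9,5,10]))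
 (Tr.node (Tr.leaf [3,4,5,6,7,10,2,3,4,5,6,7,10,2,3,4,5,6,7,10,2,3,4,5,6,7,10,2,3,4,5,6,7,10,2,3,4,5,6,7,10,2,3,4,5,6,7,10,0,2,3,4,5,6,7,10,2,3,4,5,6,7,10,2])
 (Tr.leaf [11,5,4,3,2,1,0,5,6,7,8,9,5,10,11,5,4,3,2,1,0,5,6,7,8,9,5,10,11,5,4,3,2,1,0,5,6,7,8,9,5,10,11,5,4,3,2,1,0,5,6,7,8,9,5,10,11,5,4,3,2,1,0,5,6,7,8,9,5,10,11,5,4,3,2,1,0,5,6,7,8,9,5,10,11,5,4,3,2,1,0,5,6,7,8,9,5,10,11,5,4,3,2,1,0,5,6,7,8,9,5,10,11,5,4,3,2,1,0,5,6,7,8,9,5,10,11,5,4,3,2,1,0,5,6,7,8,9,5,10,11,5,4,3,2,1,0,5,6,7,8,9,5,10,11,5,4,3,2,1,0,5,6,7,8,9,5,10,11,5,4,3,2,1,0,5,6,7,8,9,5,10,11,5,4,3,2,1,0,5,6,7,8,9,5,10,11,5,4,3,2,1,0,5,6,7,8,9,5,10,11,5,4,3,2,1,0,5,6,7,8,9,5,10,11,5,4,3,2,1,0,5,6,7,8,9,5,10])))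
 (Tr.node (Tr.node (Tr.leaf [10,5,10,5,10,5])
 (Tr.leaf [11,5,4,3,2,1,0,5,6,7,8,9,5,10,11,5,4,3,2,1,0,5,6,7,8,9,5,10,11,5,4,3,2,1,0,5,6,7,8,9,5,10,11,5,4,3,2,1,0,5,6,7,8,9,5,10,11,5,4,3,2,1,0,5,6,7,8,9,5,10,11,5,4,3,2,1,0,5,6,7,8,9,5,10,11,5,4,3,2,1,0,5,6,7,8,9,5,10,11,5,4,3,2,1,0,5,6,7,8,9,5,10,11,5,4,3,2,1,0,5,6,7,8,9,5,10,11,5,4,3,2,1,0,5,6,7,8,9,5,10,11,5,4,3,2,1,0,5,6,7,8,9,5,10,11,5,4,3,2,1,0,5,6,7,8,9,5,10,11,5,4,3,2,1,0,5,6,7,8,9,5,10,11,5,4,3,2,1,0,5,6,7,8,9,5,10,11,5,4,3,2,1,0,5,6,7,8,9,5,10,11,5,4,3,2,1,0,5,6,7,8,9,5,10,11,5,4,3,2,1,0,5,6,7,8,9,5,10]))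
 (Tr.node (Tr.leaf [7,10,2,3,4,5,6,7,10,2,3,4,5,6,7,10,0,2,3,4,5,6,7,10,2,3,4,5,6,7,10,2,3,4,5,6,7,10,2,3,4,5,6,7,10,2,3,4,5,6,7,10,2,3,4,5,6,7,10,2,3,4,5,6])
 (Tr.leaf [11,5,4,3,2,1,0,5,6,7,8,9,5,10,11,5,4,3,2,1,0,5,6,7,8,9,5,10,11,5,4,3,2,1,0,5,6,7,8,9,5,10,11,5,4,3,2,1,0,5,6,7,8,9,5,10,11,5,4,3,2,1,0,5,6,7,8,9,5,10,11,5,4,3,2,1,0,5,6,7,8,9,5,10,11,5,4,3,2,1,0,5,6,7,8,9,5,10,11,5,4,3,2,1,0,5,6,7,8,9,5,10,11,5,4,3,2,1,0,5,6,7,8,9,5,10,11,5,4,3,2,1,0,5,6,7,8,9,5,10,11,5,4,3,2,1,0,5,6,7,8,9,5,10,11,5,4,3,2,1,0,5,6,7,8,9,5,10,11,5,4,3,2,1,0,5,6,7,8,9,5,10,11,5,4,3,2,1,0,5,6,7,8,9,5,10,11,5,4,3,2,1,0,5,6,7,8,9,5,10,11,5,4,3,2,1,0,5,6,7,8,9,5,10,11,5,4,3,2,1,0,5,6,7,8,9,5,10])))))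
 (Tr.node (Tr.node (Tr.node (Tr.node (Tr.leaf [10,0,10,0])
 (Tr.leaf [5,0,1,2,3,4,5,11,10,5,9,8,7,6,5,0,1,2,3,4,5,11,10,5,9,8,7,6,5,0,1,2,3,4,5,11,10,5,9,8,7,6,5,0,1,2,3,4,5,11,10,5,9,8,7,6,5,0,1,2,3,4,5,11,10,5,9,8,7,6,5,0,1,2,3,4,5,11,10,5,9,8,7,6,5,0,1,2,3,4,5,11,10,5,9,8,7,6,5,0,1,2,3,4,5,11,10,5,9,8,7,6,5,0,1,2,3,4,5,11,10,5,9,8,7,6,5,0,1,2,3,4,5,11,10,5,9,8,7,6,5,0,1,2,3,4,5,11,10,5,9,8,7,6,5,0,1,2,3,4,5,11,10,5,9,8,7,6,5,0,1,2,3,4,5,11,10,5,9,8,7,6,5,0,1,2,3,4,5,11,10,5,9,8,7,6,5,0,1,2,3,4,5,11,10,5,9,8,7,6,5,0,1,2,3,4,5,11,10,5,9,8,7,6,5,0,1,2,3,4,5,11,10,5,9,8,7,6]))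
 (Tr.node (Tr.leaf [2,3,4,5,6,7,10,2,3,4,5,6,7,10,2,3,4,5,6,7,10,2,3,4,5,6,7,10,2,3,4,5,6,7,10,2,3,4,5,6,7,10,2,3,4,5,6,7,10,2,3,4,5,6,7,10,0,2,3,4,5,6,7,10])
 (Tr.leaf [11,5,4,3,2,1,0,5,6,7,8,9,5,10,11,5,4,3,2,1,0,5,6,7,8,9,5,10,11,5,4,3,2,1,0,5,6,7,8,9,5,10,11,5,4,3,2,1,0,5,6,7,8,9,5,10,11,5,4,3,2,1,0,5,6,7,8,9,5,10,11,5,4,3,2,1,0,5,6,7,8,9,5,10,11,5,4,3,2,1,0,5,6,7,8,9,5,10,11,5,4,3,2,1,0,5,6,7,8,9,5,10,11,5,4,3,2,1,0,5,6,7,8,9,5,10,11,5,4,3,2,1,0,5,6,7,8,9,5,10,11,5,4,3,2,1,0,5,6,7,8,9,5,10,11,5,4,3,2,1,0,5,6,7,8,9,5,10,11,5,4,3,2,1,0,5,6,7,8,9,5,10,11,5,4,3,2,1,0,5,6,7,8,9,5,10,11,5,4,3,2,1,0,5,6,7,8,9,5,10,11,5,4,3,2,1,0,5,6,7,8,9,5,10,11,5,4,3,2,1,0,5,6,7,8,9,5,10])))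
 (Tr.node (Tr.node (Tr.leaf [8,4,8,4])
 (Tr.leaf [11,5,4,3,2,1,0,5,6,7,8,9,5,10,11,5,4,3,2,1,0,5,6,7,8,9,5,10,11,5,4,3,2,1,0,5,6,7,8,9,5,10,11,5,4,3,2,1,0,5,6,7,8,9,5,10,11,5,4,3,2,1,0,5,6,7,8,9,5,10,11,5,4,3,2,1,0,5,6,7,8,9,5,10,11,5,4,3,2,1,0,5,6,7,8,9,5,10,11,5,4,3,2,1,0,5,6,7,8,9,5,10,11,5,4,3,2,1,0,5,6,7,8,9,5,10,11,5,4,3,2,1,0,5,6,7,8,9,5,10,11,5,4,3,2,1,0,5,6,7,8,9,5,10,11,5,4,3,2,1,0,5,6,7,8,9,5,10,11,5,4,3,2,1,0,5,6,7,8,9,5,10,11,5,4,3,2,1,0,5,6,7,8,9,5,10,11,5,4,3,2,1,0,5,6,7,8,9,5,10,11,5,4,3,2,1,0,5,6,7,8,9,5,10,11,5,4,3,2,1,0,5,6,7,8,9,5,10]))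
 (Tr.node (Tr.leaf [6,7,10,2,3,4,5,6,7,10,2,3,4,5,6,7,10,2,3,4,5,6,7,10,0,2,3,4,5,6,7,10,2,3,4,5,6,7,10,2,3,4,5,6,7,10,2,3,4,5,6,7,10,2,3,4,5,6,7,10,2,3,4,5])
 (Tr.leaf [11,5,4,3,2,1,0,5,6,7,8,9,5,10,11,5,4,3,2,1,0,5,6,7,8,9,5,10,11,5,4,3,2,1,0,5,6,7,8,9,5,10,11,5,4,3,2,1,0,5,6,7,8,9,5,10,11,5,4,3,2,1,0,5,6,7,8,9,5,10,11,5,4,3,2,1,0,5,6,7,8,9,5,10,11,5,4,3,2,1,0,5,6,7,8,9,5,10,11,5,4,3,2,1,0,5,6,7,8,9,5,10,11,5,4,3,2,1,0,5,6,7,8,9,5,10,11,5,4,3,2,1,0,5,6,7,8,9,5,10,11,5,4,3,2,1,0,5,6,7,8,9,5,10,11,5,4,3,2,1,0,5,6,7,8,9,5,10,11,5,4,3,2,1,0,5,6,7,8,9,5,10,11,5,4,3,2,1,0,5,6,7,8,9,5,10,11,5,4,3,2,1,0,5,6,7,8,9,5,10,11,5,4,3,2,1,0,5,6,7,8,9,5,10,11,5,4,3,2,1,0,5,6,7,8,9,5,10]))))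
 (Tr.node (Tr.node (Tr.node (Tr.leaf [7,2,7,2])
 (Tr.leaf [11,5,4,3,2,1,0,5,6,7,8,9,5,10,11,5,4,3,2,1,0,5,6,7,8,9,5,10,11,5,4,3,2,1,0,5,6,7,8,9,5,10,11,5,4,3,2,1,0,5,6,7,8,9,5,10,11,5,4,3,2,1,0,5,6,7,8,9,5,10,11,5,4,3,2,1,0,5,6,7,8,9,5,10,11,5,4,3,2,1,0,5,6,7,8,9,5,10,11,5,4,3,2,1,0,5,6,7,8,9,5,10,11,5,4,3,2,1,0,5,6,7,8,9,5,10,11,5,4,3,2,1,0,5,6,7,8,9,5,10,11,5,4,3,2,1,0,5,6,7,8,9,5,10,11,5,4,3,2,1,0,5,6,7,8,9,5,10,11,5,4,3,2,1,0,5,6,7,8,9,5,10,11,5,4,3,2,1,0,5,6,7,8,9,5,10,11,5,4,3,2,1,0,5,6,7,8,9,5,10,11,5,4,3,2,1,0,5,6,7,8,9,5,10,11,5,4,3,2,1,0,5,6,7,8,9,5,10]))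
 (Tr.node (Tr.leaf [4,5,6,7,10,2,3,4,5,6,7,10,2,3,4,5,6,7,10,2,3,4,5,6,7,10,2,3,4,5,6,7,10,2,3,4,5,6,7,10,0,2,3,4,5,6,7,10,2,3,4,5,6,7,10,2,3,4,5,6,7,10,2,3])
 (Tr.leaf [11,5,4,3,2,1,0,5,6,7,8,9,5,10,11,5,4,3,2,1,0,5,6,7,8,9,5,10,11,5,4,3,2,1,0,5,6,7,8,9,5,10,11,5,4,3,2,1,0,5,6,7,8,9,5,10,11,5,4,3,2,1,0,5,6,7,8,9,5,10,11,5,4,3,2,1,0,5,6,7,8,9,5,10,11,5,4,3,2,1,0,5,6,7,8,9,5,10,11,5,4,3,2,1,0,5,6,7,8,9,5,10,11,5,4,3,2,1,0,5,6,7,8,9,5,10,11,5,4,3,2,1,0,5,6,7,8,9,5,10,11,5,4,3,2,1,0,5,6,7,8,9,5,10,11,5,4,3,2,1,0,5,6,7,8,9,5,10,11,5,4,3,2,1,0,5,6,7,8,9,5,10,11,5,4,3,2,1,0,5,6,7,8,9,5,10,11,5,4,3,2,1,0,5,6,7,8,9,5,10,11,5,4,3,2,1,0,5,6,7,8,9,5,10,11,5,4,3,2,1,0,5,6,7,8,9,5,10])))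
 (Tr.node (Tr.node (Tr.leaf [9,7,9,7])
 (Tr.leaf [11,5,4,3,2,1,0,5,6,7,8,9,5,10,11,5,4,3,2,1,0,5,6,7,8,9,5,10,11,5,4,3,2,1,0,5,6,7,8,9,5,10,11,5,4,3,2,1,0,5,6,7,8,9,5,10,11,5,4,3,2,1,0,5,6,7,8,9,5,10,11,5,4,3,2,1,0,5,6,7,8,9,5,10,11,5,4,3,2,1,0,5,6,7,8,9,5,10,11,5,4,3,2,1,0,5,6,7,8,9,5,10,11,5,4,3,2,1,0,5,6,7,8,9,5,10,11,5,4,3,2,1,0,5,6,7,8,9,5,10,11,5,4,3,2,1,0,5,6,7,8,9,5,10,11,5,4,3,2,1,0,5,6,7,8,9,5,10,11,5,4,3,2,1,0,5,6,7,8,9,5,10,11,5,4,3,2,1,0,5,6,7,8,9,5,10,11,5,4,3,2,1,0,5,6,7,8,9,5,10,11,5,4,3,2,1,0,5,6,7,8,9,5,10,11,5,4,3,2,1,0,5,6,7,8,9,5,10]))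
 (Tr.node (Tr.leaf [10,2,3,4,5,6,7,10,0,2,3,4,5,6,7,10,2,3,4,5,6,7,10,2,3,4,5,6,7,10,2,3,4,5,6,7,10,2,3,4,5,6,7,10,2,3,4,5,6,7,10,2,3,4,5,6,7,10,2,3,4,5,6,7])
 (Tr.leaf [11,5,4,3,2,1,0,5,6,7,8,9,5,10,11,5,4,3,2,1,0,5,6,7,8,9,5,10,11,5,4,3,2,1,0,5,6,7,8,9,5,10,11,5,4,3,2,1,0,5,6,7,8,9,5,10,11,5,4,3,2,1,0,5,6,7,8,9,5,10,11,5,4,3,2,1,0,5,6,7,8,9,5,10,11,5,4,3,2,1,0,5,6,7,8,9,5,10,11,5,4,3,2,1,0,5,6,7,8,9,5,10,11,5,4,3,2,1,0,5,6,7,8,9,5,10,11,5,4,3,2,1,0,5,6,7,8,9,5,10,11,5,4,3,2,1,0,5,6,7,8,9,5,10,11,5,4,3,2,1,0,5,6,7,8,9,5,10,11,5,4,3,2,1,0,5,6,7,8,9,5,10,11,5,4,3,2,1,0,5,6,7,8,9,5,10,11,5,4,3,2,1,0,5,6,7,8,9,5,10,11,5,4,3,2,1,0,5,6,7,8,9,5,10,11,5,4,3,2,1,0,5,6,7,8,9,5,10]))))))))))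

/-- The subgroup rotations. -/
noncomputable def srotT : Tr (List Nat × Nat × List Nat) := (Tr.node (Tr.node (Tr.node (Tr.node (Tr.leaf ([],2,[]))
 (Tr.leaf ([],10,[])))
 (Tr.node (Tr.leaf ([],6,[]))
 (Tr.leaf ([],0,[]))))
 (Tr.node (Tr.node (Tr.leaf ([],4,[]))
 (Tr.leaf ([],0,[])))
 (Tr.node (Tr.leaf ([],8,[]))
 (Tr.leaf ([],0,[])))))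
 (Tr.node (Tr.node (Tr.node (Tr.leaf ([],3,[]))
 (Tr.leaf ([],11,[])))
 (Tr.node (Tr.leaf ([],7,[]))
 (Tr.leaf ([],0,[]))))
 (Tr.node (Tr.node (Tr.leaf ([],5,[]))
 (Tr.leaf ([],0,[])))
 (Tr.node (Tr.leaf ([],9,[]))
 (Tr.leaf ([],0,[]))))))

/-- The certificate. -/
noncomputable def cert : Cert :=
  mkCert 12 366461 4020115 4 301 312 4 15 826 60 720 803 1152921504606846975 9671406556917033397649407 22 19 4194303 524287 41 38 15 ctree.get rotT.get srotT.get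

/-- The chunks of the table. -/
noncomputable def ptree : Tr Nat := (Tr.node (Tr.node (Tr.node Cfsg.Agent.Lib.TC.D.Fi24a.PT0.tree Cfsg.Agent.Lib.TC.D.Fi24a.PT4.tree) (Tr.node Cfsg.Agent.Lib.TC.D.Fi24a.PT2.tree Cfsg.Agent.Lib.TC.D.Fi24a.PT6.tree)) (Tr.node (Tr.node Cfsg.Agent.Lib.TC.D.Fi24a.PT1.tree Cfsg.Agent.Lib.TC.D.Fi24a.PT5.tree) (Tr.node Cfsg.Agent.Lib.TC.D.Fi24a.PT3.tree Cfsg.Agent.Lib.TC.D.Fi24a.PT7.tree)))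

/-- The table. -/
noncomputable def pt : PT :=
  mkPT 306936 12 5 31 14 19 524287 ptree.get Cfsg.Agent.Lib.TC.G.Fi24.invF

/-- The witnesses of the rotations. -/
noncomputable def witT : Tr (Nat × Nat × Bool) := (Tr.node (Tr.node (Tr.node (Tr.node (Tr.node (Tr.node (Tr.node (Tr.node (Tr.node (Tr.leaf (0,0,false))
 (Tr.leaf (78,55,true)))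
 (Tr.node (Tr.leaf (65,1,false))
 (Tr.leaf (79,13,true))))
 (Tr.node (Tr.node (Tr.leaf (28,1,false))
 (Tr.leaf (79,13,true)))
 (Tr.node (Tr.leaf (78,23,true))
 (Tr.leaf (79,13,true)))))
 (Tr.node (Tr.node (Tr.node (Tr.leaf (10,1,false))
 (Tr.leaf (79,7,true)))
 (Tr.node (Tr.leaf (78,7,true))
 (Tr.leaf (79,13,true))))
 (Tr.node (Tr.node (Tr.leaf (46,1,false))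
 (Tr.leaf (79,13,true)))
 (Tr.node (Tr.leaf (78,39,true))
 (Tr.leaf (79,13,true))))))
 (Tr.node (Tr.node (Tr.node (Tr.node (Tr.leaf (2,1,false))
 (Tr.leaf (78,63,true)))
 (Tr.node (Tr.leaf (76,1,false))
 (Tr.leaf (79,13,true))))
 (Tr.node (Tr.node (Tr.leaf (37,1,false))
 (Tr.leaf (79,13,true)))
 (Tr.node (Tr.leaf (78,31,true))
 (Tr.leaf (79,13,true)))))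
 (Tr.node (Tr.node (Tr.node (Tr.leaf (19,1,false))
 (Tr.leaf (79,13,true)))
 (Tr.node (Tr.leaf (78,15,true))
 (Tr.leaf (79,13,true))))
 (Tr.node (Tr.node (Tr.leaf (55,1,false))
 (Tr.leaf (79,13,true)))
 (Tr.node (Tr.leaf (78,47,true))
 (Tr.leaf (79,13,true)))))))
 (Tr.node (Tr.node (Tr.node (Tr.node (Tr.node (Tr.leaf (63,0,false))
 (Tr.leaf (78,59,true)))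
 (Tr.node (Tr.leaf (70,1,false))
 (Tr.leaf (79,13,true))))
 (Tr.node (Tr.node (Tr.leaf (32,1,false))
 (Tr.leaf (79,13,true)))
 (Tr.node (Tr.leaf (78,27,true))
 (Tr.leaf (79,13,true)))))
 (Tr.node (Tr.node (Tr.node (Tr.leaf (15,1,false))
 (Tr.leaf (79,11,true)))
 (Tr.node (Tr.leaf (78,11,true))
 (Tr.leaf (79,13,true))))
 (Tr.node (Tr.node (Tr.leaf (51,1,false))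
 (Tr.leaf (79,13,true)))
 (Tr.node (Tr.leaf (78,43,true))
 (Tr.leaf (79,13,true))))))
 (Tr.node (Tr.node (Tr.node (Tr.node (Tr.leaf (6,1,false))
 (Tr.leaf (79,3,true)))
 (Tr.node (Tr.leaf (78,3,true))
 (Tr.leaf (79,13,true))))
 (Tr.node (Tr.node (Tr.leaf (41,1,false))
 (Tr.leaf (79,13,true)))
 (Tr.node (Tr.leaf (78,35,true))
 (Tr.leaf (79,13,true)))))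
 (Tr.node (Tr.node (Tr.node (Tr.leaf (24,1,false))
 (Tr.leaf (79,13,true)))
 (Tr.node (Tr.leaf (78,19,true))
 (Tr.leaf (79,13,true))))
 (Tr.node (Tr.node (Tr.leaf (60,1,false))
 (Tr.leaf (79,13,true)))
 (Tr.node (Tr.leaf (78,51,true))
 (Tr.leaf (79,13,true))))))))
 (Tr.node (Tr.node (Tr.node (Tr.node (Tr.node (Tr.node (Tr.leaf (33,0,false))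
 (Tr.leaf (78,57,true)))
 (Tr.node (Tr.leaf (67,1,false))
 (Tr.leaf (79,13,true))))
 (Tr.node (Tr.node (Tr.leaf (30,1,false))
 (Tr.leaf (79,13,true)))
 (Tr.node (Tr.leaf (78,25,true))
 (Tr.leaf (79,13,true)))))
 (Tr.node (Tr.node (Tr.node (Tr.leaf (13,1,false))
 (Tr.leaf (79,9,true)))
 (Tr.node (Tr.leaf (78,9,true))
 (Tr.leaf (79,13,true))))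
 (Tr.node (Tr.node (Tr.leaf (48,1,false))
 (Tr.leaf (79,13,true)))
 (Tr.node (Tr.leaf (78,41,true))
 (Tr.leaf (79,13,true))))))
 (Tr.node (Tr.node (Tr.node (Tr.node (Tr.leaf (4,1,false))
 (Tr.leaf (79,1,true)))
 (Tr.node (Tr.leaf (78,1,true))
 (Tr.leaf (79,13,true))))
 (Tr.node (Tr.node (Tr.leaf (39,1,false))
 (Tr.leaf (79,13,true)))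
 (Tr.node (Tr.leaf (78,33,true))
 (Tr.leaf (79,13,true)))))
 (Tr.node (Tr.node (Tr.node (Tr.leaf (21,1,false))
 (Tr.leaf (79,13,true)))
 (Tr.node (Tr.leaf (78,17,true))
 (Tr.leaf (79,13,true))))
 (Tr.node (Tr.node (Tr.leaf (58,1,false))
 (Tr.leaf (79,13,true)))
 (Tr.node (Tr.leaf (78,49,true))
 (Tr.leaf (79,13,true)))))))
 (Tr.node (Tr.node (Tr.node (Tr.node (Tr.node (Tr.leaf (77,0,false))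
 (Tr.leaf (78,61,true)))
 (Tr.node (Tr.leaf (73,1,false))
 (Tr.leaf (79,13,true))))
 (Tr.node (Tr.node (Tr.leaf (35,1,false))
 (Tr.leaf (79,13,true)))
 (Tr.node (Tr.leaf (78,29,true))
 (Tr.leaf (79,13,true)))))
 (Tr.node (Tr.node (Tr.node (Tr.leaf (17,1,false))
 (Tr.leaf (79,13,true)))
 (Tr.node (Tr.leaf (78,13,true))
 (Tr.leaf (79,13,true))))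
 (Tr.node (Tr.node (Tr.leaf (53,1,false))
 (Tr.leaf (79,13,true)))
 (Tr.node (Tr.leaf (78,45,true))
 (Tr.leaf (79,13,true))))))
 (Tr.node (Tr.node (Tr.node (Tr.node (Tr.leaf (8,1,false))
 (Tr.leaf (79,5,true)))
 (Tr.node (Tr.leaf (78,5,true))
 (Tr.leaf (79,13,true))))
 (Tr.node (Tr.node (Tr.leaf (44,1,false))
 (Tr.leaf (79,13,true)))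
 (Tr.node (Tr.leaf (78,37,true))
 (Tr.leaf (79,13,true)))))
 (Tr.node (Tr.node (Tr.node (Tr.leaf (26,1,false))
 (Tr.leaf (79,13,true)))
 (Tr.node (Tr.leaf (78,21,true))
 (Tr.leaf (79,13,true))))
 (Tr.node (Tr.node (Tr.leaf (62,1,false))
 (Tr.leaf (79,13,true)))
 (Tr.node (Tr.leaf (78,53,true))
 (Tr.leaf (79,13,true)))))))))
 (Tr.node (Tr.node (Tr.node (Tr.node (Tr.node (Tr.node (Tr.node (Tr.leaf (12,0,false))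
 (Tr.leaf (78,56,true)))
 (Tr.node (Tr.leaf (66,1,false))
 (Tr.leaf (79,13,true))))
 (Tr.node (Tr.node (Tr.leaf (29,1,false))
 (Tr.leaf (79,13,true)))
 (Tr.node (Tr.leaf (78,24,true))
 (Tr.leaf (79,13,true)))))
 (Tr.node (Tr.node (Tr.node (Tr.leaf (11,1,false))
 (Tr.leaf (79,8,true)))
 (Tr.node (Tr.leaf (78,8,true))
 (Tr.leaf (79,13,true))))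
 (Tr.node (Tr.node (Tr.leaf (47,1,false))
 (Tr.leaf (79,13,true)))
 (Tr.node (Tr.leaf (78,40,true))
 (Tr.leaf (79,13,true))))))
 (Tr.node (Tr.node (Tr.node (Tr.node (Tr.leaf (3,1,false))
 (Tr.leaf (79,0,true)))
 (Tr.node (Tr.leaf (78,0,true))
 (Tr.leaf (79,13,true))))
 (Tr.node (Tr.node (Tr.leaf (38,1,false))
 (Tr.leaf (79,13,true)))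
 (Tr.node (Tr.leaf (78,32,true))
 (Tr.leaf (79,13,true)))))
 (Tr.node (Tr.node (Tr.node (Tr.leaf (20,1,false))
 (Tr.leaf (79,13,true)))
 (Tr.node (Tr.leaf (78,16,true))
 (Tr.leaf (79,13,true))))
 (Tr.node (Tr.node (Tr.leaf (56,1,false))
 (Tr.leaf (79,13,true)))
 (Tr.node (Tr.leaf (78,48,true))
 (Tr.leaf (79,13,true)))))))
 (Tr.node (Tr.node (Tr.node (Tr.node (Tr.node (Tr.leaf (72,0,false))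
 (Tr.leaf (78,60,true)))
 (Tr.node (Tr.leaf (71,1,false))
 (Tr.leaf (79,13,true))))
 (Tr.node (Tr.node (Tr.leaf (34,1,false))
 (Tr.leaf (79,13,true)))
 (Tr.node (Tr.leaf (78,28,true))
 (Tr.leaf (79,13,true)))))
 (Tr.node (Tr.node (Tr.node (Tr.leaf (16,1,false))
 (Tr.leaf (79,12,true)))
 (Tr.node (Tr.leaf (78,12,true))
 (Tr.leaf (79,13,true))))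
 (Tr.node (Tr.node (Tr.leaf (52,1,false))
 (Tr.leaf (79,13,true)))
 (Tr.node (Tr.leaf (78,44,true))
 (Tr.leaf (79,13,true))))))
 (Tr.node (Tr.node (Tr.node (Tr.node (Tr.leaf (7,1,false))
 (Tr.leaf (79,4,true)))
 (Tr.node (Tr.leaf (78,4,true))
 (Tr.leaf (79,13,true))))
 (Tr.node (Tr.node (Tr.leaf (43,1,false))
 (Tr.leaf (79,13,true)))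
 (Tr.node (Tr.leaf (78,36,true))
 (Tr.leaf (79,13,true)))))
 (Tr.node (Tr.node (Tr.node (Tr.leaf (25,1,false))
 (Tr.leaf (79,13,true)))
 (Tr.node (Tr.leaf (78,20,true))
 (Tr.leaf (79,13,true))))
 (Tr.node (Tr.node (Tr.leaf (61,1,false))
 (Tr.leaf (79,13,true)))
 (Tr.node (Tr.leaf (78,52,true))
 (Tr.leaf (79,13,true))))))))
 (Tr.node (Tr.node (Tr.node (Tr.node (Tr.node (Tr.node (Tr.leaf (50,0,false))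
 (Tr.leaf (78,58,true)))
 (Tr.node (Tr.leaf (69,1,false))
 (Tr.leaf (79,13,true))))
 (Tr.node (Tr.node (Tr.leaf (31,1,false))
 (Tr.leaf (79,13,true)))
 (Tr.node (Tr.leaf (78,26,true))
 (Tr.leaf (79,13,true)))))
 (Tr.node (Tr.node (Tr.node (Tr.leaf (14,1,false))
 (Tr.leaf (79,10,true)))
 (Tr.node (Tr.leaf (78,10,true))
 (Tr.leaf (79,13,true))))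
 (Tr.node (Tr.node (Tr.leaf (49,1,false))
 (Tr.leaf (79,13,true)))
 (Tr.node (Tr.leaf (78,42,true))
 (Tr.leaf (79,13,true))))))
 (Tr.node (Tr.node (Tr.node (Tr.node (Tr.leaf (5,1,false))
 (Tr.leaf (79,2,true)))
 (Tr.node (Tr.leaf (78,2,true))
 (Tr.leaf (79,13,true))))
 (Tr.node (Tr.node (Tr.leaf (40,1,false))
 (Tr.leaf (79,13,true)))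
 (Tr.node (Tr.leaf (78,34,true))
 (Tr.leaf (79,13,true)))))
 (Tr.node (Tr.node (Tr.node (Tr.leaf (22,1,false))
 (Tr.leaf (79,13,true)))
 (Tr.node (Tr.leaf (78,18,true))
 (Tr.leaf (79,13,true))))
 (Tr.node (Tr.node (Tr.leaf (59,1,false))
 (Tr.leaf (79,13,true)))
 (Tr.node (Tr.leaf (78,50,true))
 (Tr.leaf (79,13,true)))))))
 (Tr.node (Tr.node (Tr.node (Tr.node (Tr.node (Tr.leaf (1,1,false))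
 (Tr.leaf (78,62,true)))
 (Tr.node (Tr.leaf (74,1,false))
 (Tr.leaf (79,13,true))))
 (Tr.node (Tr.node (Tr.leaf (36,1,false))
 (Tr.leaf (79,13,true)))
 (Tr.node (Tr.leaf (78,30,true))
 (Tr.leaf (79,13,true)))))
 (Tr.node (Tr.node (Tr.node (Tr.leaf (18,1,false))
 (Tr.leaf (79,13,true)))
 (Tr.node (Tr.leaf (78,14,true))
 (Tr.leaf (79,13,true))))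
 (Tr.node (Tr.node (Tr.leaf (54,1,false))
 (Tr.leaf (79,13,true)))
 (Tr.node (Tr.leaf (78,46,true))
 (Tr.leaf (79,13,true))))))
 (Tr.node (Tr.node (Tr.node (Tr.node (Tr.leaf (9,1,false))
 (Tr.leaf (79,6,true)))
 (Tr.node (Tr.leaf (78,6,true))
 (Tr.leaf (79,13,true))))
 (Tr.node (Tr.node (Tr.leaf (45,1,false))
 (Tr.leaf (79,13,true)))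
 (Tr.node (Tr.leaf (78,38,true))
 (Tr.leaf (79,13,true)))))
 (Tr.node (Tr.node (Tr.node (Tr.leaf (27,1,false))
 (Tr.leaf (79,13,true)))
 (Tr.node (Tr.leaf (78,22,true))
 (Tr.leaf (79,13,true))))
 (Tr.node (Tr.node (Tr.leaf (64,1,false))
 (Tr.leaf (79,13,true)))
 (Tr.node (Tr.leaf (78,54,true))
 (Tr.leaf (79,13,true))))))))))
 (Tr.node (Tr.node (Tr.node (Tr.node (Tr.node (Tr.node (Tr.node (Tr.node (Tr.leaf (0,0,false))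
 (Tr.leaf (78,56,false)))
 (Tr.node (Tr.leaf (66,0,false))
 (Tr.leaf (79,13,true))))
 (Tr.node (Tr.node (Tr.leaf (29,0,false))
 (Tr.leaf (79,13,true)))
 (Tr.node (Tr.leaf (78,24,false))
 (Tr.leaf (79,13,true)))))
 (Tr.node (Tr.node (Tr.node (Tr.leaf (11,0,false))
 (Tr.leaf (79,8,false)))
 (Tr.node (Tr.leaf (78,8,false))
 (Tr.leaf (79,13,true))))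
 (Tr.node (Tr.node (Tr.leaf (47,0,false))
 (Tr.leaf (79,13,true)))
 (Tr.node (Tr.leaf (78,40,false))
 (Tr.leaf (79,13,true))))))
 (Tr.node (Tr.node (Tr.node (Tr.node (Tr.leaf (3,0,false))
 (Tr.leaf (79,0,false)))
 (Tr.node (Tr.leaf (78,0,false))
 (Tr.leaf (79,13,true))))
 (Tr.node (Tr.node (Tr.leaf (38,0,false))
 (Tr.leaf (79,13,true)))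
 (Tr.node (Tr.leaf (78,32,false))
 (Tr.leaf (79,13,true)))))
 (Tr.node (Tr.node (Tr.node (Tr.leaf (20,0,false))
 (Tr.leaf (79,13,true)))
 (Tr.node (Tr.leaf (78,16,false))
 (Tr.leaf (79,13,true))))
 (Tr.node (Tr.node (Tr.leaf (56,0,false))
 (Tr.leaf (79,13,true)))
 (Tr.node (Tr.leaf (78,48,false))
 (Tr.leaf (79,13,true)))))))
 (Tr.node (Tr.node (Tr.node (Tr.node (Tr.node (Tr.leaf (68,0,false))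
 (Tr.leaf (78,60,false)))
 (Tr.node (Tr.leaf (71,0,false))
 (Tr.leaf (79,13,true))))
 (Tr.node (Tr.node (Tr.leaf (34,0,false))
 (Tr.leaf (79,13,true)))
 (Tr.node (Tr.leaf (78,28,false))
 (Tr.leaf (79,13,true)))))
 (Tr.node (Tr.node (Tr.node (Tr.leaf (16,0,false))
 (Tr.leaf (79,12,false)))
 (Tr.node (Tr.leaf (78,12,false))
 (Tr.leaf (79,13,true))))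
 (Tr.node (Tr.node (Tr.leaf (52,0,false))
 (Tr.leaf (79,13,true)))
 (Tr.node (Tr.leaf (78,44,false))
 (Tr.leaf (79,13,true))))))
 (Tr.node (Tr.node (Tr.node (Tr.node (Tr.leaf (7,0,false))
 (Tr.leaf (79,4,false)))
 (Tr.node (Tr.leaf (78,4,false))
 (Tr.leaf (79,13,true))))
 (Tr.node (Tr.node (Tr.leaf (43,0,false))
 (Tr.leaf (79,13,true)))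
 (Tr.node (Tr.leaf (78,36,false))
 (Tr.leaf (79,13,true)))))
 (Tr.node (Tr.node (Tr.node (Tr.leaf (25,0,false))
 (Tr.leaf (79,13,true)))
 (Tr.node (Tr.leaf (78,20,false))
 (Tr.leaf (79,13,true))))
 (Tr.node (Tr.node (Tr.leaf (61,0,false))
 (Tr.leaf (79,13,true)))
 (Tr.node (Tr.leaf (78,52,false))
 (Tr.leaf (79,13,true))))))))
 (Tr.node (Tr.node (Tr.node (Tr.node (Tr.node (Tr.node (Tr.leaf (42,0,false))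
 (Tr.leaf (78,58,false)))
 (Tr.node (Tr.leaf (69,0,false))
 (Tr.leaf (79,13,true))))
 (Tr.node (Tr.node (Tr.leaf (31,0,false))
 (Tr.leaf (79,13,true)))
 (Tr.node (Tr.leaf (78,26,false))
 (Tr.leaf (79,13,true)))))
 (Tr.node (Tr.node (Tr.node (Tr.leaf (14,0,false))
 (Tr.leaf (79,10,false)))
 (Tr.node (Tr.leaf (78,10,false))
 (Tr.leaf (79,13,true))))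
 (Tr.node (Tr.node (Tr.leaf (49,0,false))
 (Tr.leaf (79,13,true)))
 (Tr.node (Tr.leaf (78,42,false))
 (Tr.leaf (79,13,true))))))
 (Tr.node (Tr.node (Tr.node (Tr.node (Tr.leaf (5,0,false))
 (Tr.leaf (79,2,false)))
 (Tr.node (Tr.leaf (78,2,false))
 (Tr.leaf (79,13,true))))
 (Tr.node (Tr.node (Tr.leaf (40,0,false))
 (Tr.leaf (79,13,true)))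
 (Tr.node (Tr.leaf (78,34,false))
 (Tr.leaf (79,13,true)))))
 (Tr.node (Tr.node (Tr.node (Tr.leaf (22,0,false))
 (Tr.leaf (79,13,true)))
 (Tr.node (Tr.leaf (78,18,false))
 (Tr.leaf (79,13,true))))
 (Tr.node (Tr.node (Tr.leaf (59,0,false))
 (Tr.leaf (79,13,true)))
 (Tr.node (Tr.leaf (78,50,false))
 (Tr.leaf (79,13,true)))))))
 (Tr.node (Tr.node (Tr.node (Tr.node (Tr.node (Tr.leaf (1,0,false))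
 (Tr.leaf (78,62,false)))
 (Tr.node (Tr.leaf (74,0,false))
 (Tr.leaf (79,13,true))))
 (Tr.node (Tr.node (Tr.leaf (36,0,false))
 (Tr.leaf (79,13,true)))
 (Tr.node (Tr.leaf (78,30,false))
 (Tr.leaf (79,13,true)))))
 (Tr.node (Tr.node (Tr.node (Tr.leaf (18,0,false))
 (Tr.leaf (79,13,true)))
 (Tr.node (Tr.leaf (78,14,false))
 (Tr.leaf (79,13,true))))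
 (Tr.node (Tr.node (Tr.leaf (54,0,false))
 (Tr.leaf (79,13,true)))
 (Tr.node (Tr.leaf (78,46,false))
 (Tr.leaf (79,13,true))))))
 (Tr.node (Tr.node (Tr.node (Tr.node (Tr.leaf (9,0,false))
 (Tr.leaf (79,6,false)))
 (Tr.node (Tr.leaf (78,6,false))
 (Tr.leaf (79,13,true))))
 (Tr.node (Tr.node (Tr.leaf (45,0,false))
 (Tr.leaf (79,13,true)))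
 (Tr.node (Tr.leaf (78,38,false))
 (Tr.leaf (79,13,true)))))
 (Tr.node (Tr.node (Tr.node (Tr.leaf (27,0,false))
 (Tr.leaf (79,13,true)))
 (Tr.node (Tr.leaf (78,22,false))
 (Tr.leaf (79,13,true))))
 (Tr.node (Tr.node (Tr.leaf (64,0,false))
 (Tr.leaf (79,13,true)))
 (Tr.node (Tr.leaf (78,54,false))
 (Tr.leaf (79,13,true)))))))))
 (Tr.node (Tr.node (Tr.node (Tr.node (Tr.node (Tr.node (Tr.node (Tr.leaf (23,0,false))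
 (Tr.leaf (78,57,false)))
 (Tr.node (Tr.leaf (67,0,false))
 (Tr.leaf (79,13,true))))
 (Tr.node (Tr.node (Tr.leaf (30,0,false))
 (Tr.leaf (79,13,true)))
 (Tr.node (Tr.leaf (78,25,false))
 (Tr.leaf (79,13,true)))))
 (Tr.node (Tr.node (Tr.node (Tr.leaf (13,0,false))
 (Tr.leaf (79,9,false)))
 (Tr.node (Tr.leaf (78,9,false))
 (Tr.leaf (79,13,true))))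
 (Tr.node (Tr.node (Tr.leaf (48,0,false))
 (Tr.leaf (79,13,true)))
 (Tr.node (Tr.leaf (78,41,false))
 (Tr.leaf (79,13,true))))))
 (Tr.node (Tr.node (Tr.node (Tr.node (Tr.leaf (4,0,false))
 (Tr.leaf (79,1,false)))
 (Tr.node (Tr.leaf (78,1,false))
 (Tr.leaf (79,13,true))))
 (Tr.node (Tr.node (Tr.leaf (39,0,false))
 (Tr.leaf (79,13,true)))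
 (Tr.node (Tr.leaf (78,33,false))
 (Tr.leaf (79,13,true)))))
 (Tr.node (Tr.node (Tr.node (Tr.leaf (21,0,false))
 (Tr.leaf (79,13,true)))
 (Tr.node (Tr.leaf (78,17,false))
 (Tr.leaf (79,13,true))))
 (Tr.node (Tr.node (Tr.leaf (58,0,false))
 (Tr.leaf (79,13,true)))
 (Tr.node (Tr.leaf (78,49,false))
 (Tr.leaf (79,13,true)))))))
 (Tr.node (Tr.node (Tr.node (Tr.node (Tr.node (Tr.leaf (75,0,false))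
 (Tr.leaf (78,61,false)))
 (Tr.node (Tr.leaf (73,0,false))
 (Tr.leaf (79,13,true))))
 (Tr.node (Tr.node (Tr.leaf (35,0,false))
 (Tr.leaf (79,13,true)))
 (Tr.node (Tr.leaf (78,29,false))
 (Tr.leaf (79,13,true)))))
 (Tr.node (Tr.node (Tr.node (Tr.leaf (17,0,false))
 (Tr.leaf (79,13,false)))
 (Tr.node (Tr.leaf (78,13,false))
 (Tr.leaf (79,13,true))))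
 (Tr.node (Tr.node (Tr.leaf (53,0,false))
 (Tr.leaf (79,13,true)))
 (Tr.node (Tr.leaf (78,45,false))
 (Tr.leaf (79,13,true))))))
 (Tr.node (Tr.node (Tr.node (Tr.node (Tr.leaf (8,0,false))
 (Tr.leaf (79,5,false)))
 (Tr.node (Tr.leaf (78,5,false))
 (Tr.leaf (79,13,true))))
 (Tr.node (Tr.node (Tr.leaf (44,0,false))
 (Tr.leaf (79,13,true)))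
 (Tr.node (Tr.leaf (78,37,false))
 (Tr.leaf (79,13,true)))))
 (Tr.node (Tr.node (Tr.node (Tr.leaf (26,0,false))
 (Tr.leaf (79,13,true)))
 (Tr.node (Tr.leaf (78,21,false))
 (Tr.leaf (79,13,true))))
 (Tr.node (Tr.node (Tr.leaf (62,0,false))
 (Tr.leaf (79,13,true)))
 (Tr.node (Tr.leaf (78,53,false))
 (Tr.leaf (79,13,true))))))))
 (Tr.node (Tr.node (Tr.node (Tr.node (Tr.node (Tr.node (Tr.leaf (57,0,false))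
 (Tr.leaf (78,59,false)))
 (Tr.node (Tr.leaf (70,0,false))
 (Tr.leaf (79,13,true))))
 (Tr.node (Tr.node (Tr.leaf (32,0,false))
 (Tr.leaf (79,13,true)))
 (Tr.node (Tr.leaf (78,27,false))
 (Tr.leaf (79,13,true)))))
 (Tr.node (Tr.node (Tr.node (Tr.leaf (15,0,false))
 (Tr.leaf (79,11,false)))
 (Tr.node (Tr.leaf (78,11,false))
 (Tr.leaf (79,13,true))))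
 (Tr.node (Tr.node (Tr.leaf (51,0,false))
 (Tr.leaf (79,13,true)))
 (Tr.node (Tr.leaf (78,43,false))
 (Tr.leaf (79,13,true))))))
 (Tr.node (Tr.node (Tr.node (Tr.node (Tr.leaf (6,0,false))
 (Tr.leaf (79,3,false)))
 (Tr.node (Tr.leaf (78,3,false))
 (Tr.leaf (79,13,true))))
 (Tr.node (Tr.node (Tr.leaf (41,0,false))
 (Tr.leaf (79,13,true)))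
 (Tr.node (Tr.leaf (78,35,false))
 (Tr.leaf (79,13,true)))))
 (Tr.node (Tr.node (Tr.node (Tr.leaf (24,0,false))
 (Tr.leaf (79,13,true)))
 (Tr.node (Tr.leaf (78,19,false))
 (Tr.leaf (79,13,true))))
 (Tr.node (Tr.node (Tr.leaf (60,0,false))
 (Tr.leaf (79,13,true)))
 (Tr.node (Tr.leaf (78,51,false))
 (Tr.leaf (79,13,true)))))))
 (Tr.node (Tr.node (Tr.node (Tr.node (Tr.node (Tr.leaf (2,0,false))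
 (Tr.leaf (78,63,false)))
 (Tr.node (Tr.leaf (76,0,false))
 (Tr.leaf (79,13,true))))
 (Tr.node (Tr.node (Tr.leaf (37,0,false))
 (Tr.leaf (79,13,true)))
 (Tr.node (Tr.leaf (78,31,false))
 (Tr.leaf (79,13,true)))))
 (Tr.node (Tr.node (Tr.node (Tr.leaf (19,0,false))
 (Tr.leaf (79,13,true)))
 (Tr.node (Tr.leaf (78,15,false))
 (Tr.leaf (79,13,true))))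
 (Tr.node (Tr.node (Tr.leaf (55,0,false))
 (Tr.leaf (79,13,true)))
 (Tr.node (Tr.leaf (78,47,false))
 (Tr.leaf (79,13,true))))))
 (Tr.node (Tr.node (Tr.node (Tr.node (Tr.leaf (10,0,false))
 (Tr.leaf (79,7,false)))
 (Tr.node (Tr.leaf (78,7,false))
 (Tr.leaf (79,13,true))))
 (Tr.node (Tr.node (Tr.leaf (46,0,false))
 (Tr.leaf (79,13,true)))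
 (Tr.node (Tr.leaf (78,39,false))
 (Tr.leaf (79,13,true)))))
 (Tr.node (Tr.node (Tr.node (Tr.leaf (28,0,false))
 (Tr.leaf (79,13,true)))
 (Tr.node (Tr.leaf (78,23,false))
 (Tr.leaf (79,13,true))))
 (Tr.node (Tr.node (Tr.leaf (65,0,false))
 (Tr.leaf (79,13,true)))
 (Tr.node (Tr.leaf (78,55,false))
 (Tr.leaf (79,13,true)))))))))))

/-- The words of the subgroup. -/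
def subW : List (List (Cfsg.Spor.Fi24.Gen × Bool)) :=
  [[(Cfsg.Spor.Fi24.Gen.a,true)],
   [(Cfsg.Spor.Fi24.Gen.b,true)],
   [(Cfsg.Spor.Fi24.Gen.c,true)],
   [(Cfsg.Spor.Fi24.Gen.d,true)],
   [(Cfsg.Spor.Fi24.Gen.e,true)],
   [(Cfsg.Spor.Fi24.Gen.f,true)],
   [(Cfsg.Spor.Fi24.Gen.g,true)],
   [(Cfsg.Spor.Fi24.Gen.j,true)],
   [(Cfsg.Spor.Fi24.Gen.h,true)],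
   [(Cfsg.Spor.Fi24.Gen.i,true)],
   [(Cfsg.Spor.Fi24.Gen.l,true)]]

/-- The words of the subgroup, as columns. -/
def subs : List (List Nat) :=
  [[2],[3],[4],[5],[6],[7],[8],[9],[10],[11],[0]]


end Cfsg.Agent.Lib.TC.D.Fi24a.Tab
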