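import Cfsg.Agent.Lib.TC.D.Fi24a.Tab
import Cfsg.Agent.Lib.TC.D.Fi24a.C0
import Cfsg.Agent.Lib.TC.D.Fi24a.C1
import Cfsg.Agent.Lib.TC.D.Fi24a.C2
import Cfsg.Agent.Lib.TC.D.Fi24a.C3
import Cfsg.Agent.Lib.TC.D.Fi24a.C4
import Cfsg.Agent.Lib.TC.D.Fi24a.C5
import Cfsg.Agent.Lib.TC.D.Fi24a.C6
import Cfsg.Agent.Lib.TC.D.Fi24a.C7
import Cfsg.Agent.Lib.TC.D.Fi24a.C8
import Cfsg.Agent.Lib.TC.D.Fi24a.C9
import Cfsg.Agent.Lib.TC.D.Fi24a.C10
import Cfsg.Agent.Lib.TC.D.Fi24a.C11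
import Cfsg.Agent.Lib.TC.D.Fi24a.C12
import Cfsg.Agent.Lib.TC.D.Fi24a.C13
import Cfsg.Agent.Lib.TC.D.Fi24a.C14
import Cfsg.Agent.Lib.TC.D.Fi24a.C15
import Cfsg.Agent.Lib.TC.D.Fi24a.C16
import Cfsg.Agent.Lib.TC.D.Fi24a.C17
import Cfsg.Agent.Lib.TC.D.Fi24a.C18
import Cfsg.Agent.Lib.TC.D.Fi24a.C19
import Cfsg.Agent.Lib.TC.D.Fi24a.C20
import Cfsg.Agent.Lib.TC.D.Fi24a.C21
import Cfsg.Agent.Lib.TC.D.Fi24a.C22
import Cfsg.Agent.Lib.TC.D.Fi24a.C23
import Cfsg.Agent.Lib.TC.D.Fi24a.C24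
import Cfsg.Agent.Lib.TC.D.Fi24a.C25
import Cfsg.Agent.Lib.TC.D.Fi24a.C26
import Cfsg.Agent.Lib.TC.D.Fi24a.C27
import Cfsg.Agent.Lib.TC.D.Fi24a.C28
import Cfsg.Agent.Lib.TC.D.Fi24a.C29
import Cfsg.Agent.Lib.TC.D.Fi24a.C30
import Cfsg.Agent.Lib.TC.D.Fi24a.C31
import Cfsg.Agent.Lib.TC.D.Fi24a.C32
import Cfsg.Agent.Lib.TC.D.Fi24a.C33
import Cfsg.Agent.Lib.TC.D.Fi24a.C34
import Cfsg.Agent.Lib.TC.D.Fi24a.C35
import Cfsg.Agent.Lib.TC.D.Fi24a.C36
import Cfsg.Agent.Lib.TC.D.Fi24a.C37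
import Cfsg.Agent.Lib.TC.D.Fi24a.C38
import Cfsg.Agent.Lib.TC.D.Fi24a.C39
import Cfsg.Agent.Lib.TC.D.Fi24a.C40
import Cfsg.Agent.Lib.TC.D.Fi24a.C41
import Cfsg.Agent.Lib.TC.D.Fi24a.C42
import Cfsg.Agent.Lib.TC.D.Fi24a.C43
import Cfsg.Agent.Lib.TC.D.Fi24a.C44
import Cfsg.Agent.Lib.TC.D.Fi24a.C45
import Cfsg.Agent.Lib.TC.D.Fi24a.C46
import Cfsg.Agent.Lib.TC.D.Fi24a.C47
import Cfsg.Agent.Lib.TC.D.Fi24a.C48
import Cfsg.Agent.Lib.TC.D.Fi24a.C49
import Cfsg.Agent.Lib.TC.D.Fi24a.C50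
import Cfsg.Agent.Lib.TC.D.Fi24a.C51
import Cfsg.Agent.Lib.TC.D.Fi24a.C52
import Cfsg.Agent.Lib.TC.D.Fi24a.C53
import Cfsg.Agent.Lib.TC.D.Fi24a.C54
import Cfsg.Agent.Lib.TC.D.Fi24a.C55
import Cfsg.Agent.Lib.TC.D.Fi24a.C56
import Cfsg.Agent.Lib.TC.D.Fi24a.C57
import Cfsg.Agent.Lib.TC.D.Fi24a.C58
import Cfsg.Agent.Lib.TC.D.Fi24a.C59
import Cfsg.Agent.Lib.TC.D.Fi24a.C60
import Cfsg.Agent.Lib.TC.D.Fi24a.C61
import Cfsg.Agent.Lib.TC.D.Fi24a.C62
import Cfsg.Agent.Lib.TC.D.Fi24a.C63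
import Cfsg.Agent.Lib.TC.D.Fi24a.C64
import Cfsg.Agent.Lib.TC.D.Fi24a.C65
import Cfsg.Agent.Lib.TC.D.Fi24a.C66
import Cfsg.Agent.Lib.TC.D.Fi24a.C67
import Cfsg.Agent.Lib.TC.D.Fi24a.C68
import Cfsg.Agent.Lib.TC.D.Fi24a.C69
import Cfsg.Agent.Lib.TC.D.Fi24a.C70
import Cfsg.Agent.Lib.TC.D.Fi24a.C71
import Cfsg.Agent.Lib.TC.D.Fi24a.C72
import Cfsg.Agent.Lib.TC.D.Fi24a.C73
import Cfsg.Agent.Lib.TC.D.Fi24a.C74
import Cfsg.Agent.Lib.TC.D.Fi24a.C75
import Cfsg.Agent.Lib.TC.D.Fi24a.C76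
import Cfsg.Agent.Lib.TC.D.Fi24a.C77
import Cfsg.Agent.Lib.TC.D.Fi24a.C78
import Cfsg.Agent.Lib.TC.D.Fi24a.C79
import Cfsg.Agent.Lib.TC.D.Fi24a.C80
import Cfsg.Agent.Lib.TC.D.Fi24a.C81
import Cfsg.Agent.Lib.TC.D.Fi24a.C82
import Cfsg.Agent.Lib.TC.D.Fi24a.C83
import Cfsg.Agent.Lib.TC.D.Fi24a.C84
import Cfsg.Agent.Lib.TC.D.Fi24a.C85
import Cfsg.Agent.Lib.TC.D.Fi24a.C86
import Cfsg.Agent.Lib.TC.D.Fi24a.C87
import Cfsg.Agent.Lib.TC.D.Fi24a.C88
import Cfsg.Agent.Lib.TC.D.Fi24a.C89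
import Cfsg.Agent.Lib.TC.D.Fi24a.C90
import Cfsg.Agent.Lib.TC.D.Fi24a.C91
import Cfsg.Agent.Lib.TC.D.Fi24a.C92
import Cfsg.Agent.Lib.TC.D.Fi24a.C93
import Cfsg.Agent.Lib.TC.D.Fi24a.C94
import Cfsg.Agent.Lib.TC.D.Fi24a.C95
import Cfsg.Agent.Lib.TC.D.Fi24a.C96
import Cfsg.Agent.Lib.TC.D.Fi24a.C97
import Cfsg.Agent.Lib.TC.D.Fi24a.C98
import Cfsg.Agent.Lib.TC.D.Fi24a.C99
import Cfsg.Agent.Lib.TC.D.Fi24a.C100
import Cfsg.Agent.Lib.TC.D.Fi24a.C101
import Cfsg.Agent.Lib.TC.D.Fi24a.C102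
import Cfsg.Agent.Lib.TC.D.Fi24a.C103
import Cfsg.Agent.Lib.TC.D.Fi24a.C104
import Cfsg.Agent.Lib.TC.D.Fi24a.C105
import Cfsg.Agent.Lib.TC.D.Fi24a.C106
import Cfsg.Agent.Lib.TC.D.Fi24a.C107
import Cfsg.Agent.Lib.TC.D.Fi24a.C108
import Cfsg.Agent.Lib.TC.D.Fi24a.C109
import Cfsg.Agent.Lib.TC.D.Fi24a.C110
import Cfsg.Agent.Lib.TC.D.Fi24a.C111
import Cfsg.Agent.Lib.TC.D.Fi24a.C112
import Cfsg.Agent.Lib.TC.D.Fi24a.C113
import Cfsg.Agent.Lib.TC.D.Fi24a.C114
import Cfsg.Agent.Lib.TC.D.Fi24a.C115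
import Cfsg.Agent.Lib.TC.D.Fi24a.C116
import Cfsg.Agent.Lib.TC.D.Fi24a.C117
import Cfsg.Agent.Lib.TC.D.Fi24a.C118
import Cfsg.Agent.Lib.TC.D.Fi24a.C119
import Cfsg.Agent.Lib.TC.D.Fi24a.C120
import Cfsg.Agent.Lib.TC.D.Fi24a.C121
import Cfsg.Agent.Lib.TC.D.Fi24a.C122
import Cfsg.Agent.Lib.TC.D.Fi24a.C123
import Cfsg.Agent.Lib.TC.D.Fi24a.C124
import Cfsg.Agent.Lib.TC.D.Fi24a.C125
import Cfsg.Agent.Lib.TC.D.Fi24a.C126
import Cfsg.Agent.Lib.TC.D.Fi24a.C127
import Cfsg.Agent.Lib.TC.D.Fi24a.C128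
import Cfsg.Agent.Lib.TC.D.Fi24a.C129
import Cfsg.Agent.Lib.TC.D.Fi24a.P0
import Cfsg.Agent.Lib.TC.D.Fi24a.P1
import Cfsg.Agent.Lib.TC.D.Fi24a.P2
import Cfsg.Agent.Lib.TC.D.Fi24a.P3
import Cfsg.Agent.Lib.TC.D.Fi24a.P4
import Cfsg.Agent.Lib.TC.D.Fi24a.P5
import Cfsg.Agent.Lib.TC.D.Fi24a.P6
import Cfsg.Agent.Lib.TC.D.Fi24a.P7
import Cfsg.Agent.Lib.TC.D.Fi24a.P8
import Cfsg.Agent.Lib.TC.D.Fi24a.P9
import Cfsg.Agent.Lib.TC.D.Fi24a.P10
import Cfsg.Agent.Lib.TC.D.Fi24a.P11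
import Cfsg.Agent.Lib.TC.D.Fi24a.P12
import Cfsg.Agent.Lib.TC.D.Fi24a.P13
import Cfsg.Agent.Lib.TC.D.Fi24a.P14
import Cfsg.Agent.Lib.TC.D.Fi24a.P15
import Cfsg.Agent.Lib.TC.D.Fi24a.P16
import Cfsg.Agent.Lib.TC.D.Fi24a.P17
import Cfsg.Agent.Lib.TC.D.Fi24a.P18
import Cfsg.Agent.Lib.TC.D.Fi24a.P19
import Cfsg.Agent.Lib.TC.D.Fi24a.P20
import Cfsg.Agent.Lib.TC.D.Fi24a.P21
import Cfsg.Agent.Lib.TC.D.Fi24a.P22
import Cfsg.Agent.Lib.TC.D.Fi24a.P23
import Cfsg.Agent.Lib.TC.D.Fi24a.P24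
import Cfsg.Agent.Lib.TC.D.Fi24a.P25
import Cfsg.Agent.Lib.TC.D.Fi24a.P26
import Cfsg.Agent.Lib.TC.D.Fi24a.P27
import Cfsg.Agent.Lib.TC.D.Fi24a.P28
import Cfsg.Agent.Lib.TC.D.Fi24a.P29
import Cfsg.Agent.Lib.TC.D.Fi24a.P30
import Cfsg.Agent.Lib.TC.D.Fi24a.P31
import Cfsg.Agent.Lib.TC.D.Fi24a.P32
import Cfsg.Agent.Lib.TC.D.Fi24a.P33
import Cfsg.Agent.Lib.TC.D.Fi24a.P34
import Cfsg.Agent.Lib.TC.D.Fi24a.P35
import Cfsg.Agent.Lib.TC.D.Fi24a.P36
import Cfsg.Agent.Lib.TC.D.Fi24a.P37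
import Cfsg.Agent.Lib.TC.D.Fi24a.P38
import Cfsg.Agent.Lib.TC.D.Fi24a.P39
import Cfsg.Agent.Lib.TC.D.Fi24a.P40
import Cfsg.Agent.Lib.TC.D.Fi24a.P41
import Cfsg.Agent.Lib.TC.D.Fi24a.P42
import Cfsg.Agent.Lib.TC.D.Fi24a.P43
import Cfsg.Agent.Lib.TC.D.Fi24a.P44
import Cfsg.Agent.Lib.TC.D.Fi24a.P45
import Cfsg.Agent.Lib.TC.D.Fi24a.P46
import Cfsg.Agent.Lib.TC.D.Fi24a.P47
import Cfsg.Agent.Lib.TC.D.Fi24a.P48
import Cfsg.Agent.Lib.TC.D.Fi24a.P49
import Cfsg.Agent.Lib.TC.D.Fi24a.P50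
import Cfsg.Agent.Lib.TC.D.Fi24a.P51
import Cfsg.Agent.Lib.TC.D.Fi24a.P52
import Cfsg.Agent.Lib.TC.D.Fi24a.P53
import Cfsg.Agent.Lib.TC.D.Fi24a.P54
import Cfsg.Agent.Lib.TC.D.Fi24a.P55
import Cfsg.Agent.Lib.TC.D.Fi24a.P56
import Cfsg.Agent.Lib.TC.D.Fi24a.P57
import Cfsg.Agent.Lib.TC.D.Fi24a.P58
import Cfsg.Agent.Lib.TC.D.Fi24a.P59
import Cfsg.Agent.Lib.TC.D.Fi24a.P60
import Cfsg.Agent.Lib.TC.D.Fi24a.P61
import Cfsg.Agent.Lib.TC.D.Fi24a.P62
import Cfsg.Agent.Lib.TC.D.Fi24a.P63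
import Cfsg.Agent.Lib.TC.D.Fi24a.P64
import Cfsg.Agent.Lib.TC.D.Fi24a.P65
import Cfsg.Agent.Lib.TC.D.Fi24a.P66
import Cfsg.Agent.Lib.TC.D.Fi24a.P67
import Cfsg.Agent.Lib.TC.D.Fi24a.P68
import Cfsg.Agent.Lib.TC.D.Fi24a.P69
import Cfsg.Agent.Lib.TC.D.Fi24a.P70
import Cfsg.Agent.Lib.TC.D.Fi24a.P71
import Cfsg.Agent.Lib.TC.D.Fi24a.P72
import Cfsg.Agent.Lib.TC.D.Fi24a.P73
import Cfsg.Agent.Lib.TC.D.Fi24a.P74
import Cfsg.Agent.Lib.TC.D.Fi24a.P75
import Cfsg.Agent.Lib.TC.D.Fi24a.P76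
import Cfsg.Agent.Lib.TC.D.Fi24a.P77
import Cfsg.Agent.Lib.TC.D.Fi24a.P78
import Cfsg.Agent.Lib.TC.D.Fi24a.P79
import Cfsg.Agent.Lib.TC.D.Fi24a.P80
import Cfsg.Agent.Lib.TC.D.Fi24a.P81
import Cfsg.Agent.Lib.TC.D.Fi24a.P82
import Cfsg.Agent.Lib.TC.D.Fi24a.P83
import Cfsg.Agent.Lib.TC.D.Fi24a.P84
import Cfsg.Agent.Lib.TC.D.Fi24a.P85
import Cfsg.Agent.Lib.TC.D.Fi24a.P86
import Cfsg.Agent.Lib.TC.D.Fi24a.P87
import Cfsg.Agent.Lib.TC.D.Fi24a.P88
import Cfsg.Agent.Lib.TC.D.Fi24a.P89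
import Cfsg.Agent.Lib.TC.D.Fi24a.P90
import Cfsg.Agent.Lib.TC.D.Fi24a.P91
import Cfsg.Agent.Lib.TC.D.Fi24a.P92
import Cfsg.Agent.Lib.TC.D.Fi24a.P93
import Cfsg.Agent.Lib.TC.D.Fi24a.P94
import Cfsg.Agent.Lib.TC.D.Fi24a.P95
import Cfsg.Agent.Lib.TC.D.Fi24a.P96
import Cfsg.Agent.Lib.TC.D.Fi24a.P97
import Cfsg.Agent.Lib.TC.D.Fi24a.P98
import Cfsg.Agent.Lib.TC.D.Fi24a.P99
import Cfsg.Agent.Lib.TC.D.Fi24a.P100
import Cfsg.Agent.Lib.TC.D.Fi24a.P101
import Cfsg.Agent.Lib.TC.D.Fi24a.P102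
import Cfsg.Agent.Lib.TC.D.Fi24a.P103
import Cfsg.Agent.Lib.TC.D.Fi24a.P104
import Cfsg.Agent.Lib.TC.D.Fi24a.P105
import Cfsg.Agent.Lib.TC.D.Fi24a.P106
import Cfsg.Agent.Lib.TC.D.Fi24a.P107
import Cfsg.Agent.Lib.TC.D.Fi24a.P108
import Cfsg.Agent.Lib.TC.D.Fi24a.P109
import Cfsg.Agent.Lib.TC.D.Fi24a.P110
import Cfsg.Agent.Lib.TC.D.Fi24a.P111
import Cfsg.Agent.Lib.TC.D.Fi24a.P112
import Cfsg.Agent.Lib.TC.D.Fi24a.P113
import Cfsg.Agent.Lib.TC.D.Fi24a.P114
import Cfsg.Agent.Lib.TC.D.Fi24a.P115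
import Cfsg.Agent.Lib.TC.D.Fi24a.P116
import Cfsg.Agent.Lib.TC.D.Fi24a.P117
import Cfsg.Agent.Lib.TC.D.Fi24a.P118
import Cfsg.Agent.Lib.TC.D.Fi24a.P119
import Cfsg.Agent.Lib.TC.D.Fi24a.P120
import Cfsg.Agent.Lib.TC.D.Fi24a.P121
import Cfsg.Agent.Lib.TC.D.Fi24a.P122
import Cfsg.Agent.Lib.TC.D.Fi24a.P123
import Cfsg.Agent.Lib.TC.D.Fi24a.P124
import Cfsg.Agent.Lib.TC.D.Fi24a.P125
import Cfsg.Agent.Lib.TC.D.Fi24a.P126
import Cfsg.Agent.Lib.TC.D.Fi24a.P127
import Cfsg.Agent.Lib.TC.D.Fi24a.P128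
import Cfsg.Agent.Lib.TC.D.Fi24a.P129
import Cfsg.Agent.Lib.TC.D.Fi24a.P130
import Cfsg.Agent.Lib.TC.D.Fi24a.P131
import Cfsg.Agent.Lib.TC.D.Fi24a.P132
import Cfsg.Agent.Lib.TC.D.Fi24a.P133
import Cfsg.Agent.Lib.TC.D.Fi24a.P134
import Cfsg.Agent.Lib.TC.D.Fi24a.P135
import Cfsg.Agent.Lib.TC.D.Fi24a.P136
import Cfsg.Agent.Lib.TC.D.Fi24a.P137
import Cfsg.Agent.Lib.TC.D.Fi24a.P138
import Cfsg.Agent.Lib.TC.D.Fi24a.P139
import Cfsg.Agent.Lib.TC.D.Fi24a.P140
import Cfsg.Agent.Lib.TC.D.Fi24a.P141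
import Cfsg.Agent.Lib.TC.D.Fi24a.P142
import Cfsg.Agent.Lib.TC.D.Fi24a.P143
import Cfsg.Agent.Lib.TC.D.Fi24a.P144
import Cfsg.Agent.Lib.TC.D.Fi24a.P145
import Cfsg.Agent.Lib.TC.D.Fi24a.P146
import Cfsg.Agent.Lib.TC.D.Fi24a.P147
import Cfsg.Agent.Lib.TC.D.Fi24a.P148
import Cfsg.Agent.Lib.TC.D.Fi24a.P149
import Cfsg.Agent.Lib.TC.D.Fi24a.P150
import Cfsg.Agent.Lib.TC.D.Fi24a.P151
import Cfsg.Agent.Lib.TC.D.Fi24a.P152
import Cfsg.Agent.Lib.TC.D.Fi24a.P153
import Cfsg.Agent.Lib.TC.D.Fi24a.P154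
import Cfsg.Agent.Lib.TC.D.Fi24a.P155
import Cfsg.Agent.Lib.TC.D.Fi24a.P156
import Cfsg.Agent.Lib.TC.D.Fi24a.P157
import Cfsg.Agent.Lib.TC.D.Fi24a.P158
import Cfsg.Agent.Lib.TC.D.Fi24a.P159
import Cfsg.Agent.Lib.TC.D.Fi24a.P160
import Cfsg.Agent.Lib.TC.D.Fi24a.P161
import Cfsg.Agent.Lib.TC.D.Fi24a.P162
import Cfsg.Agent.Lib.TC.D.Fi24a.P163
import Cfsg.Agent.Lib.TC.D.Fi24a.P164
import Cfsg.Agent.Lib.TC.D.Fi24a.P165
import Cfsg.Agent.Lib.TC.D.Fi24a.P166
import Cfsg.Agent.Lib.TC.D.Fi24a.P167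
import Cfsg.Agent.Lib.TC.D.Fi24a.P168
import Cfsg.Agent.Lib.TC.D.Fi24a.P169
import Cfsg.Agent.Lib.TC.D.Fi24a.P170
import Cfsg.Agent.Lib.TC.D.Fi24a.P171
import Cfsg.Agent.Lib.TC.D.Fi24a.P172
import Cfsg.Agent.Lib.TC.D.Fi24a.P173
import Cfsg.Agent.Lib.TC.D.Fi24a.P174
import Cfsg.Agent.Lib.TC.D.Fi24a.P175
import Cfsg.Agent.Lib.TC.D.Fi24a.P176
import Cfsg.Agent.Lib.TC.D.Fi24a.P177
import Cfsg.Agent.Lib.TC.D.Fi24a.P178
import Cfsg.Agent.Lib.TC.D.Fi24a.P179
import Cfsg.Agent.Lib.TC.D.Fi24a.P180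
import Cfsg.Agent.Lib.TC.D.Fi24a.P181
import Cfsg.Agent.Lib.TC.D.Fi24a.P182
import Cfsg.Agent.Lib.TC.D.Fi24a.P183
import Cfsg.Agent.Lib.TC.D.Fi24a.P184
import Cfsg.Agent.Lib.TC.D.Fi24a.P185
import Cfsg.Agent.Lib.TC.D.Fi24a.P186
import Cfsg.Agent.Lib.TC.D.Fi24a.P187
import Cfsg.Agent.Lib.TC.D.Fi24a.P188
import Cfsg.Agent.Lib.TC.D.Fi24a.P189
import Cfsg.Agent.Lib.TC.D.Fi24a.P190
import Cfsg.Agent.Lib.TC.D.Fi24a.P191
import Cfsg.Agent.Lib.TC.D.Fi24a.P192
import Cfsg.Agent.Lib.TC.D.Fi24a.P193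
import Cfsg.Agent.Lib.TC.D.Fi24a.P194
import Cfsg.Agent.Lib.TC.D.Fi24a.P195
import Cfsg.Agent.Lib.TC.D.Fi24a.P196
import Cfsg.Agent.Lib.TC.D.Fi24a.P197
import Cfsg.Agent.Lib.TC.D.Fi24a.P198
import Cfsg.Agent.Lib.TC.D.Fi24a.P199
import Cfsg.Agent.Lib.TC.D.Fi24a.P200
import Cfsg.Agent.Lib.TC.D.Fi24a.P201
import Cfsg.Agent.Lib.TC.D.Fi24a.P202
import Cfsg.Agent.Lib.TC.D.Fi24a.P203
import Cfsg.Agent.Lib.TC.D.Fi24a.P204
import Cfsg.Agent.Lib.TC.D.Fi24a.P205
import Cfsg.Agent.Lib.TC.D.Fi24a.P206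
import Cfsg.Agent.Lib.TC.D.Fi24a.P207
import Cfsg.Agent.Lib.TC.D.Fi24a.P208
import Cfsg.Agent.Lib.TC.D.Fi24a.P209
import Cfsg.Agent.Lib.TC.D.Fi24a.P210
import Cfsg.Agent.Lib.TC.D.Fi24a.P211
import Cfsg.Agent.Lib.TC.D.Fi24a.P212
import Cfsg.Agent.Lib.TC.D.Fi24a.P213
import Cfsg.Agent.Lib.TC.D.Fi24a.P214
import Cfsg.Agent.Lib.TC.D.Fi24a.P215
import Cfsg.Agent.Lib.TC.D.Fi24a.P216
import Cfsg.Agent.Lib.TC.D.Fi24a.P217
import Cfsg.Agent.Lib.TC.D.Fi24a.P218
import Cfsg.Agent.Lib.TC.D.Fi24a.P219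
import Cfsg.Agent.Lib.TC.D.Fi24a.P220
import Cfsg.Agent.Lib.TC.D.Fi24a.P221
import Cfsg.Agent.Lib.TC.D.Fi24a.P222
import Cfsg.Agent.Lib.TC.D.Fi24a.P223
import Cfsg.Agent.Lib.TC.D.Fi24a.P224
import Cfsg.Agent.Lib.TC.D.Fi24a.P225
import Cfsg.Agent.Lib.TC.D.Fi24a.P226
import Cfsg.Agent.Lib.TC.D.Fi24a.P227
import Cfsg.Agent.Lib.TC.D.Fi24a.P228
import Cfsg.Agent.Lib.TC.D.Fi24a.P229
import Cfsg.Agent.Lib.TC.D.Fi24a.P230
import Cfsg.Agent.Lib.TC.D.Fi24a.P231
import Cfsg.Agent.Lib.TC.D.Fi24a.P232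
import Cfsg.Agent.Lib.TC.D.Fi24a.P233
import Cfsg.Agent.Lib.TC.D.Fi24a.P234
import Cfsg.Agent.Lib.TC.D.Fi24a.P235
import Cfsg.Agent.Lib.TC.D.Fi24a.P236
import Cfsg.Agent.Lib.TC.D.Fi24a.P237
import Cfsg.Agent.Lib.TC.D.Fi24a.P238
import Cfsg.Agent.Lib.TC.D.Fi24a.P239
import Cfsg.Agent.Lib.TC.D.Fi24a.P240
import Cfsg.Agent.Lib.TC.D.Fi24a.P241
import Cfsg.Agent.Lib.TC.D.Fi24a.P242
import Cfsg.Agent.Lib.TC.D.Fi24a.P243
import Cfsg.Agent.Lib.TC.D.Fi24a.P244
import Cfsg.Agent.Lib.TC.D.Fi24a.P245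
import Cfsg.Agent.Lib.TC.D.Fi24a.P246
import Cfsg.Agent.Lib.TC.D.Fi24a.P247
import Cfsg.Agent.Lib.TC.D.Fi24a.P248
import Cfsg.Agent.Lib.TC.D.Fi24a.P249
import Cfsg.Agent.Lib.TC.D.Fi24a.P250
import Cfsg.Agent.Lib.TC.D.Fi24a.P251
import Cfsg.Agent.Lib.TC.D.Fi24a.P252
import Cfsg.Agent.Lib.TC.D.Fi24a.P253
import Cfsg.Agent.Lib.TC.D.Fi24a.P254
import Cfsg.Agent.Lib.TC.D.Fi24a.P255
import Cfsg.Agent.Lib.TC.D.Fi24a.P256
import Cfsg.Agent.Lib.TC.D.Fi24a.P257
import Cfsg.Agent.Lib.TC.D.Fi24a.P258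
import Cfsg.Agent.Lib.TC.D.Fi24a.P259
import Cfsg.Agent.Lib.TC.D.Fi24a.P260
import Cfsg.Agent.Lib.TC.D.Fi24a.P261
import Cfsg.Agent.Lib.TC.D.Fi24a.P262
import Cfsg.Agent.Lib.TC.D.Fi24a.P263
import Cfsg.Agent.Lib.TC.D.Fi24a.P264
import Cfsg.Agent.Lib.TC.D.Fi24a.P265
import Cfsg.Agent.Lib.TC.D.Fi24a.P266
import Cfsg.Agent.Lib.TC.D.Fi24a.P267
import Cfsg.Agent.Lib.TC.D.Fi24a.P268
import Cfsg.Agent.Lib.TC.D.Fi24a.P269
import Cfsg.Agent.Lib.TC.D.Fi24a.P270
import Cfsg.Agent.Lib.TC.D.Fi24a.P271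
import Cfsg.Agent.Lib.TC.D.Fi24a.P272
import Cfsg.Agent.Lib.TC.D.Fi24a.P273
import Cfsg.Agent.Lib.TC.D.Fi24a.P274
import Cfsg.Agent.Lib.TC.D.Fi24a.P275
import Cfsg.Agent.Lib.TC.D.Fi24a.P276
import Cfsg.Agent.Lib.TC.D.Fi24a.P277
import Cfsg.Agent.Lib.TC.D.Fi24a.P278
import Cfsg.Agent.Lib.TC.D.Fi24a.P279
import Cfsg.Agent.Lib.TC.D.Fi24a.P280
import Cfsg.Agent.Lib.TC.D.Fi24a.P281
import Cfsg.Agent.Lib.TC.D.Fi24a.P282
import Cfsg.Agent.Lib.TC.D.Fi24a.P283
import Cfsg.Agent.Lib.TC.D.Fi24a.P284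
import Cfsg.Agent.Lib.TC.D.Fi24a.P285
import Cfsg.Agent.Lib.TC.D.Fi24a.P286
import Cfsg.Agent.Lib.TC.D.Fi24a.P287
import Cfsg.Agent.Lib.TC.D.Fi24a.P288
import Cfsg.Agent.Lib.TC.D.Fi24a.P289
import Cfsg.Agent.Lib.TC.D.Fi24a.P290
import Cfsg.Agent.Lib.TC.D.Fi24a.P291
import Cfsg.Agent.Lib.TC.D.Fi24a.P292
import Cfsg.Agent.Lib.TC.D.Fi24a.P293
import Cfsg.Agent.Lib.TC.D.Fi24a.P294
import Cfsg.Agent.Lib.TC.D.Fi24a.P295
import Cfsg.Agent.Lib.TC.D.Fi24a.P296
import Cfsg.Agent.Lib.TC.D.Fi24a.P297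
import Cfsg.Agent.Lib.TC.D.Fi24a.P298
import Cfsg.Agent.Lib.TC.D.Fi24a.P299
import Cfsg.Agent.Lib.TC.D.Fi24a.P300
import Cfsg.Agent.Lib.TC.D.Fi24a.P301
import Cfsg.Agent.Lib.TC.D.Fi24a.P302
import Cfsg.Agent.Lib.TC.D.Fi24a.P303
import Cfsg.Agent.Lib.TC.D.Fi24a.P304
import Cfsg.Agent.Lib.TC.D.Fi24a.P305
import Cfsg.Agent.Lib.TC.D.Fi24a.P306
import Cfsg.Agent.Lib.TC.D.Fi24a.P307
import Cfsg.Agent.Lib.TC.D.Fi24a.P308
import Cfsg.Agent.Lib.TC.D.Fi24a.P309
import Cfsg.Agent.Lib.TC.D.Fi24a.P310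
import Cfsg.Agent.Lib.TC.D.Fi24a.P311
import Cfsg.Agent.Lib.TC.D.Fi24a.P312
import Cfsg.Agent.Lib.TC.D.Fi24a.P313
import Cfsg.Agent.Lib.TC.D.Fi24a.P314
import Cfsg.Agent.Lib.TC.D.Fi24a.P315
import Cfsg.Agent.Lib.TC.D.Fi24a.P316
import Cfsg.Agent.Lib.TC.D.Fi24a.P317
import Cfsg.Agent.Lib.TC.D.Fi24a.P318
import Cfsg.Agent.Lib.TC.D.Fi24a.P319
import Cfsg.Agent.Lib.TC.D.Fi24a.P320
import Cfsg.Agent.Lib.TC.D.Fi24a.P321
import Cfsg.Agent.Lib.TC.D.Fi24a.P322
import Cfsg.Agent.Lib.TC.D.Fi24a.P323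
import Cfsg.Agent.Lib.TC.D.Fi24a.P324
import Cfsg.Agent.Lib.TC.D.Fi24a.P325
import Cfsg.Agent.Lib.TC.D.Fi24a.P326
import Cfsg.Agent.Lib.TC.D.Fi24a.P327
import Cfsg.Agent.Lib.TC.D.Fi24a.P328
import Cfsg.Agent.Lib.TC.D.Fi24a.P329
import Cfsg.Agent.Lib.TC.D.Fi24a.P330
import Cfsg.Agent.Lib.TC.D.Fi24a.P331
import Cfsg.Agent.Lib.TC.D.Fi24a.P332
import Cfsg.Agent.Lib.TC.D.Fi24a.P333
import Cfsg.Agent.Lib.TC.D.Fi24a.P334
import Cfsg.Agent.Lib.TC.D.Fi24a.P335
import Cfsg.Agent.Lib.TC.D.Fi24a.P336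
import Cfsg.Agent.Lib.TC.D.Fi24a.P337
import Cfsg.Agent.Lib.TC.D.Fi24a.P338
import Cfsg.Agent.Lib.TC.D.Fi24a.P339
import Cfsg.Agent.Lib.TC.D.Fi24a.P340
import Cfsg.Agent.Lib.TC.D.Fi24a.P341
import Cfsg.Agent.Lib.TC.D.Fi24a.P342
import Cfsg.Agent.Lib.TC.D.Fi24a.P343
import Cfsg.Agent.Lib.TC.D.Fi24a.P344
import Cfsg.Agent.Lib.TC.D.Fi24a.P345
import Cfsg.Agent.Lib.TC.D.Fi24a.P346
import Cfsg.Agent.Lib.TC.D.Fi24a.P347
import Cfsg.Agent.Lib.TC.D.Fi24a.P348
import Cfsg.Agent.Lib.TC.D.Fi24a.P349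
import Cfsg.Agent.Lib.TC.D.Fi24a.P350
import Cfsg.Agent.Lib.TC.D.Fi24a.P351
import Cfsg.Agent.Lib.TC.D.Fi24a.P352
import Cfsg.Agent.Lib.TC.D.Fi24a.P353
import Cfsg.Agent.Lib.TC.D.Fi24a.P354
import Cfsg.Agent.Lib.TC.D.Fi24a.P355
import Cfsg.Agent.Lib.TC.D.Fi24a.P356
import Cfsg.Agent.Lib.TC.D.Fi24a.P357
import Cfsg.Agent.Lib.TC.D.Fi24a.P358
import Cfsg.Agent.Lib.TC.D.Fi24a.P359
import Cfsg.Agent.Lib.TC.D.Fi24a.P360
import Cfsg.Agent.Lib.TC.D.Fi24a.P361
import Cfsg.Agent.Lib.TC.D.Fi24a.P362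
import Cfsg.Agent.Lib.TC.D.Fi24a.P363
import Cfsg.Agent.Lib.TC.D.Fi24a.P364
import Cfsg.Agent.Lib.TC.D.Fi24a.P365
import Cfsg.Agent.Lib.TC.D.Fi24a.P366
import Cfsg.Agent.Lib.TC.D.Fi24a.P367
import Cfsg.Agent.Lib.TC.D.Fi24a.P368
import Cfsg.Agent.Lib.TC.D.Fi24a.P369
import Cfsg.Agent.Lib.TC.D.Fi24a.P370
import Cfsg.Agent.Lib.TC.D.Fi24a.P371
import Cfsg.Agent.Lib.TC.D.Fi24a.P372
import Cfsg.Agent.Lib.TC.D.Fi24a.P373
import Cfsg.Agent.Lib.TC.D.Fi24a.P374
import Cfsg.Agent.Lib.TC.D.Fi24a.P375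
import Cfsg.Agent.Lib.TC.D.Fi24a.P376
import Cfsg.Agent.Lib.TC.D.Fi24a.P377
import Cfsg.Agent.Lib.TC.D.Fi24a.P378
import Cfsg.Agent.Lib.TC.D.Fi24a.P379
import Cfsg.Agent.Lib.TC.D.Fi24a.P380
import Cfsg.Agent.Lib.TC.D.Fi24a.P381
import Cfsg.Agent.Lib.TC.D.Fi24a.P382
import Cfsg.Agent.Lib.TC.D.Fi24a.P383
import Cfsg.Agent.Lib.TC.D.Fi24a.P384
import Cfsg.Agent.Lib.TC.D.Fi24a.P385
import Cfsg.Agent.Lib.TC.D.Fi24a.P386
import Cfsg.Agent.Lib.TC.D.Fi24a.P387
import Cfsg.Agent.Lib.TC.D.Fi24a.P388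
import Cfsg.Agent.Lib.TC.D.Fi24a.P389
import Cfsg.Agent.Lib.TC.D.Fi24a.P390
import Cfsg.Agent.Lib.TC.D.Fi24a.P391
import Cfsg.Agent.Lib.TC.D.Fi24a.P392
import Cfsg.Agent.Lib.TC.D.Fi24a.P393
import Cfsg.Agent.Lib.TC.D.Fi24a.P394
import Cfsg.Agent.Lib.TC.D.Fi24a.P395
import Cfsg.Agent.Lib.TC.D.Fi24a.P396
import Cfsg.Agent.Lib.TC.D.Fi24a.P397
import Cfsg.Agent.Lib.TC.D.Fi24a.P398
import Cfsg.Agent.Lib.TC.D.Fi24a.P399
import Cfsg.Agent.Lib.TC.D.Fi24a.P400
import Cfsg.Agent.Lib.TC.D.Fi24a.P401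
import Cfsg.Agent.Lib.TC.D.Fi24a.P402
import Cfsg.Agent.Lib.TC.D.Fi24a.P403
import Cfsg.Agent.Lib.TC.D.Fi24a.P404
import Cfsg.Agent.Lib.TC.D.Fi24a.P405
import Cfsg.Agent.Lib.TC.D.Fi24a.P406
import Cfsg.Agent.Lib.TC.D.Fi24a.P407
import Cfsg.Agent.Lib.TC.D.Fi24a.P408
import Cfsg.Agent.Lib.TC.D.Fi24a.P409
import Cfsg.Agent.Lib.TC.D.Fi24a.P410
import Cfsg.Agent.Lib.TC.D.Fi24a.P411
import Cfsg.Agent.Lib.TC.D.Fi24a.P412
import Cfsg.Agent.Lib.TC.D.Fi24a.P413
import Cfsg.Agent.Lib.TC.D.Fi24a.P414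
import Cfsg.Agent.Lib.TC.D.Fi24a.P415
import Cfsg.Agent.Lib.TC.D.Fi24a.P416
import Cfsg.Agent.Lib.TC.D.Fi24a.P417
import Cfsg.Agent.Lib.TC.D.Fi24a.P418
import Cfsg.Agent.Lib.TC.D.Fi24a.P419
import Cfsg.Agent.Lib.TC.D.Fi24a.P420
import Cfsg.Agent.Lib.TC.D.Fi24a.P421
import Cfsg.Agent.Lib.TC.D.Fi24a.P422
import Cfsg.Agent.Lib.TC.D.Fi24a.P423
import Cfsg.Agent.Lib.TC.D.Fi24a.P424
import Cfsg.Agent.Lib.TC.D.Fi24a.P425
import Cfsg.Agent.Lib.TC.D.Fi24a.P426
import Cfsg.Agent.Lib.TC.D.Fi24a.P427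
import Cfsg.Agent.Lib.TC.D.Fi24a.P428
import Cfsg.Agent.Lib.TC.D.Fi24a.P429
import Cfsg.Agent.Lib.TC.D.Fi24a.P430
import Cfsg.Agent.Lib.TC.D.Fi24a.P431
import Cfsg.Agent.Lib.TC.D.Fi24a.P432
import Cfsg.Agent.Lib.TC.D.Fi24a.P433
import Cfsg.Agent.Lib.TC.D.Fi24a.P434
import Cfsg.Agent.Lib.TC.D.Fi24a.P435
import Cfsg.Agent.Lib.TC.D.Fi24a.P436
import Cfsg.Agent.Lib.TC.D.Fi24a.P437
import Cfsg.Agent.Lib.TC.D.Fi24a.P438
import Cfsg.Agent.Lib.TC.D.Fi24a.P439
import Cfsg.Agent.Lib.TC.D.Fi24a.P440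
import Cfsg.Agent.Lib.TC.D.Fi24a.P441
import Cfsg.Agent.Lib.TC.D.Fi24a.P442
import Cfsg.Agent.Lib.TC.D.Fi24a.P443
import Cfsg.Agent.Lib.TC.D.Fi24a.P444
import Cfsg.Agent.Lib.TC.D.Fi24a.P445
import Cfsg.Agent.Lib.TC.D.Fi24a.P446
import Cfsg.Agent.Lib.TC.D.Fi24a.P447
import Cfsg.Agent.Lib.TC.D.Fi24a.P448
import Cfsg.Agent.Lib.TC.D.Fi24a.P449
import Cfsg.Agent.Lib.TC.D.Fi24a.P450
import Cfsg.Agent.Lib.TC.D.Fi24a.P451
import Cfsg.Agent.Lib.TC.D.Fi24a.P452
import Cfsg.Agent.Lib.TC.D.Fi24a.P453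
import Cfsg.Agent.Lib.TC.D.Fi24a.P454
import Cfsg.Agent.Lib.TC.D.Fi24a.P455
import Cfsg.Agent.Lib.TC.D.Fi24a.P456
import Cfsg.Agent.Lib.TC.D.Fi24a.P457
import Cfsg.Agent.Lib.TC.D.Fi24a.P458
import Cfsg.Agent.Lib.TC.D.Fi24a.P459
import Cfsg.Agent.Lib.TC.D.Fi24a.P460
import Cfsg.Agent.Lib.TC.D.Fi24a.P461
import Cfsg.Agent.Lib.TC.D.Fi24a.P462
import Cfsg.Agent.Lib.TC.D.Fi24a.P463
import Cfsg.Agent.Lib.TC.D.Fi24a.P464
import Cfsg.Agent.Lib.TC.D.Fi24a.P465
import Cfsg.Agent.Lib.TC.D.Fi24a.P466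
import Cfsg.Agent.Lib.TC.D.Fi24a.P467
import Cfsg.Agent.Lib.TC.D.Fi24a.P468
import Cfsg.Agent.Lib.TC.D.Fi24a.P469
import Cfsg.Agent.Lib.TC.D.Fi24a.P470
import Cfsg.Agent.Lib.TC.D.Fi24a.P471
import Cfsg.Agent.Lib.TC.D.Fi24a.P472
import Cfsg.Agent.Lib.TC.D.Fi24a.P473
import Cfsg.Agent.Lib.TC.D.Fi24a.P474
import Cfsg.Agent.Lib.TC.D.Fi24a.P475
import Cfsg.Agent.Lib.TC.D.Fi24a.P476
import Cfsg.Agent.Lib.TC.D.Fi24a.P477
import Cfsg.Agent.Lib.TC.D.Fi24a.P478
import Cfsg.Agent.Lib.TC.D.Fi24a.P479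
import Cfsg.Agent.Lib.TC.D.Fi24a.P480
import Cfsg.Agent.Lib.TC.D.Fi24a.P481
import Cfsg.Agent.Lib.TC.D.Fi24a.P482
import Cfsg.Agent.Lib.TC.D.Fi24a.P483
import Cfsg.Agent.Lib.TC.D.Fi24a.P484
import Cfsg.Agent.Lib.TC.D.Fi24a.P485
import Cfsg.Agent.Lib.TC.D.Fi24a.P486
import Cfsg.Agent.Lib.TC.D.Fi24a.P487
import Cfsg.Agent.Lib.TC.D.Fi24a.P488
import Cfsg.Agent.Lib.TC.D.Fi24a.P489
import Cfsg.Agent.Lib.TC.D.Fi24a.P490
import Cfsg.Agent.Lib.TC.D.Fi24a.P491
import Cfsg.Agent.Lib.TC.D.Fi24a.P492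
import Cfsg.Agent.Lib.TC.D.Fi24a.P493
import Cfsg.Agent.Lib.TC.D.Fi24a.P494
import Cfsg.Agent.Lib.TC.D.Fi24a.P495
import Cfsg.Agent.Lib.TC.D.Fi24a.P496
import Cfsg.Agent.Lib.TC.D.Fi24a.P497
import Cfsg.Agent.Lib.TC.D.Fi24a.P498
import Cfsg.Agent.Lib.TC.D.Fi24a.P499
import Cfsg.Agent.Lib.TC.D.Fi24a.P500
import Cfsg.Agent.Lib.TC.D.Fi24a.P501
import Cfsg.Agent.Lib.TC.D.Fi24a.P502
import Cfsg.Agent.Lib.TC.D.Fi24a.P503
import Cfsg.Agent.Lib.TC.D.Fi24a.P504
import Cfsg.Agent.Lib.TC.D.Fi24a.P505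
import Cfsg.Agent.Lib.TC.D.Fi24a.P506
import Cfsg.Agent.Lib.TC.D.Fi24a.P507
import Cfsg.Agent.Lib.TC.D.Fi24a.P508
import Cfsg.Agent.Lib.TC.D.Fi24a.P509
import Cfsg.Agent.Lib.TC.D.Fi24a.P510
import Cfsg.Agent.Lib.TC.D.Fi24a.P511
import Cfsg.Agent.Lib.TC.D.Fi24a.P512
import Cfsg.Agent.Lib.TC.D.Fi24a.P513
import Cfsg.Agent.Lib.TC.D.Fi24a.P514
import Cfsg.Agent.Lib.TC.D.Fi24a.P515
import Cfsg.Agent.Lib.TC.D.Fi24a.P516
import Cfsg.Agent.Lib.TC.D.Fi24a.P517
import Cfsg.Agent.Lib.TC.D.Fi24a.P518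
import Cfsg.Agent.Lib.TC.D.Fi24a.P519
import Cfsg.Agent.Lib.TC.D.Fi24a.P520
import Cfsg.Agent.Lib.TC.D.Fi24a.P521
import Cfsg.Agent.Lib.TC.D.Fi24a.P522
import Cfsg.Agent.Lib.TC.D.Fi24a.P523
import Cfsg.Agent.Lib.TC.D.Fi24a.P524
import Cfsg.Agent.Lib.TC.D.Fi24a.P525
import Cfsg.Agent.Lib.TC.D.Fi24a.P526
import Cfsg.Agent.Lib.TC.D.Fi24a.P527
import Cfsg.Agent.Lib.TC.D.Fi24a.P528
import Cfsg.Agent.Lib.TC.D.Fi24a.P529
import Cfsg.Agent.Lib.TC.D.Fi24a.P530
import Cfsg.Agent.Lib.TC.D.Fi24a.P531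
import Cfsg.Agent.Lib.TC.D.Fi24a.P532
import Cfsg.Agent.Lib.TC.D.Fi24a.P533
import Cfsg.Agent.Lib.TC.D.Fi24a.P534
import Cfsg.Agent.Lib.TC.D.Fi24a.P535
import Cfsg.Agent.Lib.TC.D.Fi24a.P536
import Cfsg.Agent.Lib.TC.D.Fi24a.P537
import Cfsg.Agent.Lib.TC.D.Fi24a.P538
import Cfsg.Agent.Lib.TC.D.Fi24a.P539
import Cfsg.Agent.Lib.TC.D.Fi24a.P540
import Cfsg.Agent.Lib.TC.D.Fi24a.P541
import Cfsg.Agent.Lib.TC.D.Fi24a.P542
import Cfsg.Agent.Lib.TC.D.Fi24a.P543
import Cfsg.Agent.Lib.TC.D.Fi24a.P544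
import Cfsg.Agent.Lib.TC.D.Fi24a.P545
import Cfsg.Agent.Lib.TC.D.Fi24a.P546
import Cfsg.Agent.Lib.TC.D.Fi24a.P547
import Cfsg.Agent.Lib.TC.D.Fi24a.P548
import Cfsg.Agent.Lib.TC.D.Fi24a.P549
import Cfsg.Agent.Lib.TC.D.Fi24a.P550
import Cfsg.Agent.Lib.TC.D.Fi24a.P551
import Cfsg.Agent.Lib.TC.D.Fi24a.P552
import Cfsg.Agent.Lib.TC.D.Fi24a.P553
import Cfsg.Agent.Lib.TC.D.Fi24a.P554
import Cfsg.Agent.Lib.TC.D.Fi24a.P555
import Cfsg.Agent.Lib.TC.D.Fi24a.P556
import Cfsg.Agent.Lib.TC.D.Fi24a.P557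
import Cfsg.Agent.Lib.TC.D.Fi24a.P558
import Cfsg.Agent.Lib.TC.D.Fi24a.P559
import Cfsg.Agent.Lib.TC.D.Fi24a.P560
import Cfsg.Agent.Lib.TC.D.Fi24a.P561
import Cfsg.Agent.Lib.TC.D.Fi24a.P562
import Cfsg.Agent.Lib.TC.D.Fi24a.P563
import Cfsg.Agent.Lib.TC.D.Fi24a.P564
import Cfsg.Agent.Lib.TC.D.Fi24a.P565
import Cfsg.Agent.Lib.TC.D.Fi24a.P566
import Cfsg.Agent.Lib.TC.D.Fi24a.P567
import Cfsg.Agent.Lib.TC.D.Fi24a.P568
import Cfsg.Agent.Lib.TC.D.Fi24a.P569
import Cfsg.Agent.Lib.TC.D.Fi24a.P570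
import Cfsg.Agent.Lib.TC.D.Fi24a.P571
import Cfsg.Agent.Lib.TC.D.Fi24a.P572
import Cfsg.Agent.Lib.TC.D.Fi24a.P573
import Cfsg.Agent.Lib.TC.D.Fi24a.P574
import Cfsg.Agent.Lib.TC.D.Fi24a.P575
import Cfsg.Agent.Lib.TC.D.Fi24a.P576
import Cfsg.Agent.Lib.TC.D.Fi24a.P577
import Cfsg.Agent.Lib.TC.D.Fi24a.P578
import Cfsg.Agent.Lib.TC.D.Fi24a.P579
import Cfsg.Agent.Lib.TC.D.Fi24a.P580
import Cfsg.Agent.Lib.TC.D.Fi24a.P581
import Cfsg.Agent.Lib.TC.D.Fi24a.P582
import Cfsg.Agent.Lib.TC.D.Fi24a.P583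
import Cfsg.Agent.Lib.TC.D.Fi24a.P584
import Cfsg.Agent.Lib.TC.D.Fi24a.P585
import Cfsg.Agent.Lib.TC.D.Fi24a.P586
import Cfsg.Agent.Lib.TC.D.Fi24a.P587
import Cfsg.Agent.Lib.TC.D.Fi24a.P588
import Cfsg.Agent.Lib.TC.D.Fi24a.P589
import Cfsg.Agent.Lib.TC.D.Fi24a.P590
import Cfsg.Agent.Lib.TC.D.Fi24a.P591
import Cfsg.Agent.Lib.TC.D.Fi24a.P592
import Cfsg.Agent.Lib.TC.D.Fi24a.P593
import Cfsg.Agent.Lib.TC.D.Fi24a.P594
import Cfsg.Agent.Lib.TC.D.Fi24a.P595
import Cfsg.Agent.Lib.TC.D.Fi24a.P596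
import Cfsg.Agent.Lib.TC.D.Fi24a.P597
import Cfsg.Agent.Lib.TC.D.Fi24a.P598
import Cfsg.Agent.Lib.TC.D.Fi24a.P599
import Cfsg.Agent.Lib.TC.D.Fi24a.P600
import Cfsg.Agent.Lib.TC.D.Fi24a.P601
import Cfsg.Agent.Lib.TC.D.Fi24a.P602
import Cfsg.Agent.Lib.TC.D.Fi24a.P603
import Cfsg.Agent.Lib.TC.D.Fi24a.P604
import Cfsg.Agent.Lib.TC.D.Fi24a.P605
import Cfsg.Agent.Lib.TC.D.Fi24a.P606
import Cfsg.Agent.Lib.TC.D.Fi24a.P607
import Cfsg.Agent.Lib.TC.D.Fi24a.P608
import Cfsg.Agent.Lib.TC.D.Fi24a.P609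
import Cfsg.Agent.Lib.TC.D.Fi24a.P610
import Cfsg.Agent.Lib.TC.D.Fi24a.P611
import Cfsg.Agent.Lib.TC.D.Fi24a.P612
import Cfsg.Agent.Lib.TC.D.Fi24a.P613
import Cfsg.Agent.Lib.TC.D.Fi24a.P614
import Cfsg.Agent.Lib.TC.D.Fi24a.P615
import Cfsg.Agent.Lib.TC.D.Fi24a.P616
import Cfsg.Agent.Lib.TC.D.Fi24a.P617
import Cfsg.Agent.Lib.TC.D.Fi24a.P618
import Cfsg.Agent.Lib.TC.D.Fi24a.P619
import Cfsg.Agent.Lib.TC.D.Fi24a.P620
import Cfsg.Agent.Lib.TC.D.Fi24a.P621
import Cfsg.Agent.Lib.TC.D.Fi24a.P622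
import Cfsg.Agent.Lib.TC.D.Fi24a.P623
import Cfsg.Agent.Lib.TC.D.Fi24a.P624
import Cfsg.Agent.Lib.TC.D.Fi24a.P625
import Cfsg.Agent.Lib.TC.D.Fi24a.P626
import Cfsg.Agent.Lib.TC.D.Fi24a.P627
import Cfsg.Agent.Lib.TC.D.Fi24a.P628
import Cfsg.Agent.Lib.TC.D.Fi24a.P629
import Cfsg.Agent.Lib.TC.D.Fi24a.P630
import Cfsg.Agent.Lib.TC.D.Fi24a.P631
import Cfsg.Agent.Lib.TC.D.Fi24a.P632
import Cfsg.Agent.Lib.TC.D.Fi24a.P633
import Cfsg.Agent.Lib.TC.D.Fi24a.P634
import Cfsg.Agent.Lib.TC.D.Fi24a.P635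
import Cfsg.Agent.Lib.TC.D.Fi24a.P636
import Cfsg.Agent.Lib.TC.D.Fi24a.P637
import Cfsg.Agent.Lib.TC.D.Fi24a.P638
import Cfsg.Agent.Lib.TC.D.Fi24a.P639
import Cfsg.Agent.Lib.TC.D.Fi24a.P640
import Cfsg.Agent.Lib.TC.D.Fi24a.P641
import Cfsg.Agent.Lib.TC.D.Fi24a.P642
import Cfsg.Agent.Lib.TC.D.Fi24a.P643
import Cfsg.Agent.Lib.TC.D.Fi24a.P644
import Cfsg.Agent.Lib.TC.D.Fi24a.P645
import Cfsg.Agent.Lib.TC.D.Fi24a.P646
import Cfsg.Agent.Lib.TC.D.Fi24a.P647
import Cfsg.Agent.Lib.TC.D.Fi24a.P648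
import Cfsg.Agent.Lib.TC.D.Fi24a.P649
import Cfsg.Agent.Lib.TC.D.Fi24a.P650
import Cfsg.Agent.Lib.TC.D.Fi24a.P651
import Cfsg.Agent.Lib.TC.D.Fi24a.P652
import Cfsg.Agent.Lib.TC.D.Fi24a.P653
import Cfsg.Agent.Lib.TC.D.Fi24a.P654
import Cfsg.Agent.Lib.TC.D.Fi24a.P655
import Cfsg.Agent.Lib.TC.D.Fi24a.P656
import Cfsg.Agent.Lib.TC.D.Fi24a.P657
import Cfsg.Agent.Lib.TC.D.Fi24a.P658
import Cfsg.Agent.Lib.TC.D.Fi24a.P659
import Cfsg.Agent.Lib.TC.D.Fi24a.P660
import Cfsg.Agent.Lib.TC.D.Fi24a.P661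
import Cfsg.Agent.Lib.TC.D.Fi24a.P662
import Cfsg.Agent.Lib.TC.D.Fi24a.P663
import Cfsg.Agent.Lib.TC.D.Fi24a.P664
import Cfsg.Agent.Lib.TC.D.Fi24a.P665
import Cfsg.Agent.Lib.TC.D.Fi24a.P666
import Cfsg.Agent.Lib.TC.D.Fi24a.P667
import Cfsg.Agent.Lib.TC.D.Fi24a.P668
import Cfsg.Agent.Lib.TC.D.Fi24a.P669
import Cfsg.Agent.Lib.TC.D.Fi24a.P670
import Cfsg.Agent.Lib.TC.D.Fi24a.P671
import Cfsg.Agent.Lib.TC.D.Fi24a.P672
import Cfsg.Agent.Lib.TC.D.Fi24a.P673
import Cfsg.Agent.Lib.TC.D.Fi24a.P674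
import Cfsg.Agent.Lib.TC.D.Fi24a.P675
import Cfsg.Agent.Lib.TC.D.Fi24a.P676
import Cfsg.Agent.Lib.TC.D.Fi24a.P677
import Cfsg.Agent.Lib.TC.D.Fi24a.P678
import Cfsg.Agent.Lib.TC.D.Fi24a.P679
import Cfsg.Agent.Lib.TC.D.Fi24a.P680
import Cfsg.Agent.Lib.TC.D.Fi24a.P681
import Cfsg.Agent.Lib.TC.D.Fi24a.P682
import Cfsg.Agent.Lib.TC.D.Fi24a.P683
import Cfsg.Agent.Lib.TC.D.Fi24a.P684
import Cfsg.Agent.Lib.TC.D.Fi24a.P685
import Cfsg.Agent.Lib.TC.D.Fi24a.P686
import Cfsg.Agent.Lib.TC.D.Fi24a.P687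
import Cfsg.Agent.Lib.TC.D.Fi24a.P688
import Cfsg.Agent.Lib.TC.D.Fi24a.P689
import Cfsg.Agent.Lib.TC.D.Fi24a.P690
import Cfsg.Agent.Lib.TC.D.Fi24a.P691
import Cfsg.Agent.Lib.TC.D.Fi24a.P692
import Cfsg.Agent.Lib.TC.D.Fi24a.P693
import Cfsg.Agent.Lib.TC.D.Fi24a.P694
import Cfsg.Agent.Lib.TC.D.Fi24a.P695
import Cfsg.Agent.Lib.TC.D.Fi24a.P696
import Cfsg.Agent.Lib.TC.D.Fi24a.P697
import Cfsg.Agent.Lib.TC.D.Fi24a.P698
import Cfsg.Agent.Lib.TC.D.Fi24a.P699
import Cfsg.Agent.Lib.TC.D.Fi24a.P700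
import Cfsg.Agent.Lib.TC.D.Fi24a.P701
import Cfsg.Agent.Lib.TC.D.Fi24a.P702
import Cfsg.Agent.Lib.TC.D.Fi24a.P703
import Cfsg.Agent.Lib.TC.D.Fi24a.P704
import Cfsg.Agent.Lib.TC.D.Fi24a.P705
import Cfsg.Agent.Lib.TC.D.Fi24a.P706
import Cfsg.Agent.Lib.TC.D.Fi24a.P707
import Cfsg.Agent.Lib.TC.D.Fi24a.P708
import Cfsg.Agent.Lib.TC.D.Fi24a.P709
import Cfsg.Agent.Lib.TC.D.Fi24a.P710
import Cfsg.Agent.Lib.TC.D.Fi24a.P711
import Cfsg.Agent.Lib.TC.D.Fi24a.P712
import Cfsg.Agent.Lib.TC.D.Fi24a.P713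
import Cfsg.Agent.Lib.TC.D.Fi24a.P714
import Cfsg.Agent.Lib.TC.D.Fi24a.P715
import Cfsg.Agent.Lib.TC.D.Fi24a.P716
import Cfsg.Agent.Lib.TC.D.Fi24a.P717
import Cfsg.Agent.Lib.TC.D.Fi24a.P718
import Cfsg.Agent.Lib.TC.D.Fi24a.P719
import Cfsg.Agent.Lib.TC.D.Fi24a.P720
import Cfsg.Agent.Lib.TC.D.Fi24a.P721
import Cfsg.Agent.Lib.TC.D.Fi24a.P722
import Cfsg.Agent.Lib.TC.D.Fi24a.P723
import Cfsg.Agent.Lib.TC.D.Fi24a.P724
import Cfsg.Agent.Lib.TC.D.Fi24a.P725
import Cfsg.Agent.Lib.TC.D.Fi24a.P726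
import Cfsg.Agent.Lib.TC.D.Fi24a.P727
import Cfsg.Agent.Lib.TC.D.Fi24a.P728
import Cfsg.Agent.Lib.TC.D.Fi24a.P729
import Cfsg.Agent.Lib.TC.D.Fi24a.P730
import Cfsg.Agent.Lib.TC.D.Fi24a.P731
import Cfsg.Agent.Lib.TC.D.Fi24a.P732
import Cfsg.Agent.Lib.TC.D.Fi24a.P733
import Cfsg.Agent.Lib.TC.D.Fi24a.P734
import Cfsg.Agent.Lib.TC.D.Fi24a.P735
import Cfsg.Agent.Lib.TC.D.Fi24a.P736
import Cfsg.Agent.Lib.TC.D.Fi24a.P737
import Cfsg.Agent.Lib.TC.D.Fi24a.P738
import Cfsg.Agent.Lib.TC.D.Fi24a.P739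
import Cfsg.Agent.Lib.TC.D.Fi24a.P740
import Cfsg.Agent.Lib.TC.D.Fi24a.P741
import Cfsg.Agent.Lib.TC.D.Fi24a.P742
import Cfsg.Agent.Lib.TC.D.Fi24a.P743
import Cfsg.Agent.Lib.TC.D.Fi24a.P744
import Cfsg.Agent.Lib.TC.D.Fi24a.P745
import Cfsg.Agent.Lib.TC.D.Fi24a.P746
import Cfsg.Agent.Lib.TC.D.Fi24a.P747
import Cfsg.Agent.Lib.TC.D.Fi24a.P748
import Cfsg.Agent.Lib.TC.D.Fi24a.P749
import Cfsg.Agent.Lib.TC.D.Fi24a.P750
import Cfsg.Agent.Lib.TC.D.Fi24a.P751
import Cfsg.Agent.Lib.TC.D.Fi24a.P752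
import Cfsg.Agent.Lib.TC.D.Fi24a.P753
import Cfsg.Agent.Lib.TC.D.Fi24a.P754
import Cfsg.Agent.Lib.TC.D.Fi24a.P755
import Cfsg.Agent.Lib.TC.D.Fi24a.P756
import Cfsg.Agent.Lib.TC.D.Fi24a.P757
import Cfsg.Agent.Lib.TC.D.Fi24a.P758
import Cfsg.Agent.Lib.TC.D.Fi24a.P759
import Cfsg.Agent.Lib.TC.D.Fi24a.P760
import Cfsg.Agent.Lib.TC.D.Fi24a.P761
import Cfsg.Agent.Lib.TC.D.Fi24a.P762
import Cfsg.Agent.Lib.TC.D.Fi24a.P763
import Cfsg.Agent.Lib.TC.D.Fi24a.P764
import Cfsg.Agent.Lib.TC.D.Fi24a.P765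
import Cfsg.Agent.Lib.TC.D.Fi24a.P766
import Cfsg.Agent.Lib.TC.D.Fi24a.P767
import Cfsg.Agent.Lib.TC.D.Fi24a.P768
import Cfsg.Agent.Lib.TC.D.Fi24a.P769
import Cfsg.Agent.Lib.TC.D.Fi24a.P770
import Cfsg.Agent.Lib.TC.D.Fi24a.P771
import Cfsg.Agent.Lib.TC.D.Fi24a.P772
import Cfsg.Agent.Lib.TC.D.Fi24a.P773
import Cfsg.Agent.Lib.TC.D.Fi24a.P774
import Cfsg.Agent.Lib.TC.D.Fi24a.P775
import Cfsg.Agent.Lib.TC.D.Fi24a.P776
import Cfsg.Agent.Lib.TC.D.Fi24a.P777
import Cfsg.Agent.Lib.TC.D.Fi24a.P778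
import Cfsg.Agent.Lib.TC.D.Fi24a.P779
import Cfsg.Agent.Lib.TC.D.Fi24a.P780
import Cfsg.Agent.Lib.TC.D.Fi24a.P781
import Cfsg.Agent.Lib.TC.D.Fi24a.P782
import Cfsg.Agent.Lib.TC.D.Fi24a.P783
import Cfsg.Agent.Lib.TC.D.Fi24a.P784
import Cfsg.Agent.Lib.TC.D.Fi24a.P785
import Cfsg.Agent.Lib.TC.D.Fi24a.P786
import Cfsg.Agent.Lib.TC.D.Fi24a.P787
import Cfsg.Agent.Lib.TC.D.Fi24a.P788
import Cfsg.Agent.Lib.TC.D.Fi24a.P789
import Cfsg.Agent.Lib.TC.D.Fi24a.P790
import Cfsg.Agent.Lib.TC.D.Fi24a.P791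
import Cfsg.Agent.Lib.TC.D.Fi24a.P792
import Cfsg.Agent.Lib.TC.D.Fi24a.P793
import Cfsg.Agent.Lib.TC.D.Fi24a.P794
import Cfsg.Agent.Lib.TC.D.Fi24a.P795
import Cfsg.Agent.Lib.TC.D.Fi24a.P796
import Cfsg.Agent.Lib.TC.D.Fi24a.P797
import Cfsg.Agent.Lib.TC.D.Fi24a.P798
import Cfsg.Agent.Lib.TC.D.Fi24a.P799
import Cfsg.Agent.Lib.TC.D.Fi24a.F0
import Cfsg.Agent.Lib.TC.D.Fi24a.F1
import Cfsg.Agent.Lib.TC.D.Fi24a.F2
import Cfsg.Agent.Lib.TC.D.Fi24a.F3
import Cfsg.Agent.Lib.TC.D.Fi24a.F4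
import Cfsg.Agent.Lib.TC.D.Fi24a.F5
import Cfsg.Agent.Lib.TC.D.Fi24a.F6
import Cfsg.Agent.Lib.TC.D.Fi24a.F7
import Cfsg.Agent.Lib.TC.D.Fi24a.F8
import Cfsg.Agent.Lib.TC.D.Fi24a.F9
import Cfsg.Agent.Lib.TC.D.Fi24a.F10
import Cfsg.Agent.Lib.TC.D.Fi24a.F11
import Cfsg.Agent.Lib.TC.D.Fi24a.F12
import Cfsg.Agent.Lib.TC.D.Fi24a.F13
import Cfsg.Agent.Lib.TC.D.Fi24a.F14
import Cfsg.Agent.Lib.TC.D.Fi24a.F15
import Cfsg.Agent.Lib.TC.D.Fi24a.F16
import Cfsg.Agent.Lib.TC.D.Fi24a.F17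
import Cfsg.Agent.Lib.TC.D.Fi24a.F18
import Cfsg.Agent.Lib.TC.D.Fi24a.F19
import Cfsg.Agent.Lib.TC.D.Fi24a.F20
import Cfsg.Agent.Lib.TC.D.Fi24a.F21
import Cfsg.Agent.Lib.TC.D.Fi24a.F22
import Cfsg.Agent.Lib.TC.D.Fi24a.F23
import Cfsg.Agent.Lib.TC.D.Fi24a.F24
import Cfsg.Agent.Lib.TC.D.Fi24a.F25
import Cfsg.Agent.Lib.TC.D.Fi24a.F26
import Cfsg.Agent.Lib.TC.D.Fi24a.F27
import Cfsg.Agent.Lib.TC.D.Fi24a.F28
import Cfsg.Agent.Lib.TC.D.Fi24a.F29
import Cfsg.Agent.Lib.TC.D.Fi24a.F30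
import Cfsg.Agent.Lib.TC.D.Fi24a.F31
import Cfsg.Agent.Lib.TC.D.Fi24a.F32
import Cfsg.Agent.Lib.TC.D.Fi24a.F33
import Cfsg.Agent.Lib.TC.D.Fi24a.F34
import Cfsg.Agent.Lib.TC.D.Fi24a.F35
import Cfsg.Agent.Lib.TC.D.Fi24a.F36
import Cfsg.Agent.Lib.TC.Split

namespace Cfsg.Agent.Lib.TC.D.Fi24a.Ok

open Cfsg.Agent.Lib.TC.Core Cfsg.Agent.Lib.TC.Enc Cfsg.Agent.Lib.TC.Pres Cfsg.Agent.Lib.TC.Perm Cfsg.Agent.Lib.TC.Main

set_option maxRecDepth 100000

open Cfsg.Agent.Lib.TC.D.Fi24a.Tab Cfsg.Agent.Lib.TC.G.Fi24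

theorem allC0 : cert.chkRange 0 2721 = true := Cfsg.Agent.Lib.TC.D.Fi24a.C0.ok
theorem allC1 : cert.chkRange 0 5554 = true := Cert.chkRange_join (lo := 0) (a := 2721) (b := 2833) _ allC0 Cfsg.Agent.Lib.TC.D.Fi24a.C1.ok
theorem allC2 : cert.chkRange 0 8492 = true := Cert.chkRange_join (lo := 0) (a := 5554) (b := 2938) _ allC1 Cfsg.Agent.Lib.TC.D.Fi24a.C2.ok
theorem allC3 : cert.chkRange 0 11444 = true := Cert.chkRange_join (lo := 0) (a := 8492) (b := 2952) _ allC2 Cfsg.Agent.Lib.TC.D.Fi24a.C3.ok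
theorem allC4 : cert.chkRange 0 14211 = true := Cert.chkRange_join (lo := 0) (a := 11444) (b := 2767) _ allC3 Cfsg.Agent.Lib.TC.D.Fi24a.C4.ok
theorem allC5 : cert.chkRange 0 17025 = true := Cert.chkRange_join (lo := 0) (a := 14211) (b := 2814) _ allC4 Cfsg.Agent.Lib.TC.D.Fi24a.C5.ok
theorem allC6 : cert.chkRange 0 19847 = true := Cert.chkRange_join (lo := 0) (a := 17025) (b := 2822) _ allC5 Cfsg.Agent.Lib.TC.D.Fi24a.C6.ok
theorem allC7 : cert.chkRange 0 22777 = true := Cert.chkRange_join (lo := 0) (a := 19847) (b := 2930) _ allC6 Cfsg.Agent.Lib.TC.D.Fi24a.C7.ok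
theorem allC8 : cert.chkRange 0 25695 = true := Cert.chkRange_join (lo := 0) (a := 22777) (b := 2918) _ allC7 Cfsg.Agent.Lib.TC.D.Fi24a.C8.ok
theorem allC9 : cert.chkRange 0 28477 = true := Cert.chkRange_join (lo := 0) (a := 25695) (b := 2782) _ allC8 Cfsg.Agent.Lib.TC.D.Fi24a.C9.ok
theorem allC10 : cert.chkRange 0 31650 = true := Cert.chkRange_join (lo := 0) (a := 28477) (b := 3173) _ allC9 Cfsg.Agent.Lib.TC.D.Fi24a.C10.ok
theorem allC11 : cert.chkRange 0 34610 = true := Cert.chkRange_join (lo := 0) (a := 31650) (b := 2960) _ allC10 Cfsg.Agent.Lib.TC.D.Fi24a.C11.ok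
theorem allC12 : cert.chkRange 0 37477 = true := Cert.chkRange_join (lo := 0) (a := 34610) (b := 2867) _ allC11 Cfsg.Agent.Lib.TC.D.Fi24a.C12.ok
theorem allC13 : cert.chkRange 0 40622 = true := Cert.chkRange_join (lo := 0) (a := 37477) (b := 3145) _ allC12 Cfsg.Agent.Lib.TC.D.Fi24a.C13.ok
theorem allC14 : cert.chkRange 0 43734 = true := Cert.chkRange_join (lo := 0) (a := 40622) (b := 3112) _ allC13 Cfsg.Agent.Lib.TC.D.Fi24a.C14.ok
theorem allC15 : cert.chkRange 0 46888 = true := Cert.chkRange_join (lo := 0) (a := 43734) (b := 3154) _ allC14 Cfsg.Agent.Lib.TC.D.Fi24a.C15.ok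
theorem allC16 : cert.chkRange 0 49701 = true := Cert.chkRange_join (lo := 0) (a := 46888) (b := 2813) _ allC15 Cfsg.Agent.Lib.TC.D.Fi24a.C16.ok
theorem allC17 : cert.chkRange 0 52750 = true := Cert.chkRange_join (lo := 0) (a := 49701) (b := 3049) _ allC16 Cfsg.Agent.Lib.TC.D.Fi24a.C17.ok
theorem allC18 : cert.chkRange 0 56278 = true := Cert.chkRange_join (lo := 0) (a := 52750) (b := 3528) _ allC17 Cfsg.Agent.Lib.TC.D.Fi24a.C18.ok
theorem allC19 : cert.chkRange 0 59483 = true := Cert.chkRange_join (lo := 0) (a := 56278) (b := 3205) _ allC18 Cfsg.Agent.Lib.TC.D.Fi24a.C19.ok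
theorem allC20 : cert.chkRange 0 62703 = true := Cert.chkRange_join (lo := 0) (a := 59483) (b := 3220) _ allC19 Cfsg.Agent.Lib.TC.D.Fi24a.C20.ok
theorem allC21 : cert.chkRange 0 65761 = true := Cert.chkRange_join (lo := 0) (a := 62703) (b := 3058) _ allC20 Cfsg.Agent.Lib.TC.D.Fi24a.C21.ok
theorem allC22 : cert.chkRange 0 68796 = true := Cert.chkRange_join (lo := 0) (a := 65761) (b := 3035) _ allC21 Cfsg.Agent.Lib.TC.D.Fi24a.C22.ok
theorem allC23 : cert.chkRange 0 71926 = true := Cert.chkRange_join (lo := 0) (a := 68796) (b := 3130) _ allC22 Cfsg.Agent.Lib.TC.D.Fi24a.C23.ok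
theorem allC24 : cert.chkRange 0 75599 = true := Cert.chkRange_join (lo := 0) (a := 71926) (b := 3673) _ allC23 Cfsg.Agent.Lib.TC.D.Fi24a.C24.ok
theorem allC25 : cert.chkRange 0 79255 = true := Cert.chkRange_join (lo := 0) (a := 75599) (b := 3656) _ allC24 Cfsg.Agent.Lib.TC.D.Fi24a.C25.ok
theorem allC26 : cert.chkRange 0 82321 = true := Cert.chkRange_join (lo := 0) (a := 79255) (b := 3066) _ allC25 Cfsg.Agent.Lib.TC.D.Fi24a.C26.ok
theorem allC27 : cert.chkRange 0 85810 = true := Cert.chkRange_join (lo := 0) (a := 82321) (b := 3489) _ allC26 Cfsg.Agent.Lib.TC.D.Fi24a.C27.ok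
theorem allC28 : cert.chkRange 0 88859 = true := Cert.chkRange_join (lo := 0) (a := 85810) (b := 3049) _ allC27 Cfsg.Agent.Lib.TC.D.Fi24a.C28.ok
theorem allC29 : cert.chkRange 0 91744 = true := Cert.chkRange_join (lo := 0) (a := 88859) (b := 2885) _ allC28 Cfsg.Agent.Lib.TC.D.Fi24a.C29.ok
theorem allC30 : cert.chkRange 0 95318 = true := Cert.chkRange_join (lo := 0) (a := 91744) (b := 3574) _ allC29 Cfsg.Agent.Lib.TC.D.Fi24a.C30.ok
theorem allC31 : cert.chkRange 0 98668 = true := Cert.chkRange_join (lo := 0) (a := 95318) (b := 3350) _ allC30 Cfsg.Agent.Lib.TC.D.Fi24a.C31.ok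
theorem allC32 : cert.chkRange 0 102359 = true := Cert.chkRange_join (lo := 0) (a := 98668) (b := 3691) _ allC31 Cfsg.Agent.Lib.TC.D.Fi24a.C32.ok
theorem allC33 : cert.chkRange 0 106087 = true := Cert.chkRange_join (lo := 0) (a := 102359) (b := 3728) _ allC32 Cfsg.Agent.Lib.TC.D.Fi24a.C33.ok
theorem allC34 : cert.chkRange 0 109129 = true := Cert.chkRange_join (lo := 0) (a := 106087) (b := 3042) _ allC33 Cfsg.Agent.Lib.TC.D.Fi24a.C34.ok
theorem allC35 : cert.chkRange 0 112829 = true := Cert.chkRange_join (lo := 0) (a := 109129) (b := 3700) _ allC34 Cfsg.Agent.Lib.TC.D.Fi24a.C35.ok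
theorem allC36 : cert.chkRange 0 116156 = true := Cert.chkRange_join (lo := 0) (a := 112829) (b := 3327) _ allC35 Cfsg.Agent.Lib.TC.D.Fi24a.C36.ok
theorem allC37 : cert.chkRange 0 119132 = true := Cert.chkRange_join (lo := 0) (a := 116156) (b := 2976) _ allC36 Cfsg.Agent.Lib.TC.D.Fi24a.C37.ok
theorem allC38 : cert.chkRange 0 122285 = true := Cert.chkRange_join (lo := 0) (a := 119132) (b := 3153) _ allC37 Cfsg.Agent.Lib.TC.D.Fi24a.C38.ok
theorem allC39 : cert.chkRange 0 125977 = true := Cert.chkRange_join (lo := 0) (a := 122285) (b := 3692) _ allC38 Cfsg.Agent.Lib.TC.D.Fi24a.C39.ok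
theorem allC40 : cert.chkRange 0 129729 = true := Cert.chkRange_join (lo := 0) (a := 125977) (b := 3752) _ allC39 Cfsg.Agent.Lib.TC.D.Fi24a.C40.ok
theorem allC41 : cert.chkRange 0 133643 = true := Cert.chkRange_join (lo := 0) (a := 129729) (b := 3914) _ allC40 Cfsg.Agent.Lib.TC.D.Fi24a.C41.ok
theorem allC42 : cert.chkRange 0 136438 = true := Cert.chkRange_join (lo := 0) (a := 133643) (b := 2795) _ allC41 Cfsg.Agent.Lib.TC.D.Fi24a.C42.ok
theorem allC43 : cert.chkRange 0 139139 = true := Cert.chkRange_join (lo := 0) (a := 136438) (b := 2701) _ allC42 Cfsg.Agent.Lib.TC.D.Fi24a.C43.ok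
theorem allC44 : cert.chkRange 0 141772 = true := Cert.chkRange_join (lo := 0) (a := 139139) (b := 2633) _ allC43 Cfsg.Agent.Lib.TC.D.Fi24a.C44.ok
theorem allC45 : cert.chkRange 0 144435 = true := Cert.chkRange_join (lo := 0) (a := 141772) (b := 2663) _ allC44 Cfsg.Agent.Lib.TC.D.Fi24a.C45.ok
theorem allC46 : cert.chkRange 0 147028 = true := Cert.chkRange_join (lo := 0) (a := 144435) (b := 2593) _ allC45 Cfsg.Agent.Lib.TC.D.Fi24a.C46.ok
theorem allC47 : cert.chkRange 0 149676 = true := Cert.chkRange_join (lo := 0) (a := 147028) (b := 2648) _ allC46 Cfsg.Agent.Lib.TC.D.Fi24a.C47.ok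
theorem allC48 : cert.chkRange 0 152427 = true := Cert.chkRange_join (lo := 0) (a := 149676) (b := 2751) _ allC47 Cfsg.Agent.Lib.TC.D.Fi24a.C48.ok
theorem allC49 : cert.chkRange 0 155159 = true := Cert.chkRange_join (lo := 0) (a := 152427) (b := 2732) _ allC48 Cfsg.Agent.Lib.TC.D.Fi24a.C49.ok
theorem allC50 : cert.chkRange 0 157813 = true := Cert.chkRange_join (lo := 0) (a := 155159) (b := 2654) _ allC49 Cfsg.Agent.Lib.TC.D.Fi24a.C50.ok
theorem allC51 : cert.chkRange 0 160467 = true := Cert.chkRange_join (lo := 0) (a := 157813) (b := 2654) _ allC50 Cfsg.Agent.Lib.TC.D.Fi24a.C51.ok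
theorem allC52 : cert.chkRange 0 163118 = true := Cert.chkRange_join (lo := 0) (a := 160467) (b := 2651) _ allC51 Cfsg.Agent.Lib.TC.D.Fi24a.C52.ok
theorem allC53 : cert.chkRange 0 165700 = true := Cert.chkRange_join (lo := 0) (a := 163118) (b := 2582) _ allC52 Cfsg.Agent.Lib.TC.D.Fi24a.C53.ok
theorem allC54 : cert.chkRange 0 168369 = true := Cert.chkRange_join (lo := 0) (a := 165700) (b := 2669) _ allC53 Cfsg.Agent.Lib.TC.D.Fi24a.C54.ok
theorem allC55 : cert.chkRange 0 171150 = true := Cert.chkRange_join (lo := 0) (a := 168369) (b := 2781) _ allC54 Cfsg.Agent.Lib.TC.D.Fi24a.C55.ok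
theorem allC56 : cert.chkRange 0 173877 = true := Cert.chkRange_join (lo := 0) (a := 171150) (b := 2727) _ allC55 Cfsg.Agent.Lib.TC.D.Fi24a.C56.ok
theorem allC57 : cert.chkRange 0 176550 = true := Cert.chkRange_join (lo := 0) (a := 173877) (b := 2673) _ allC56 Cfsg.Agent.Lib.TC.D.Fi24a.C57.ok
theorem allC58 : cert.chkRange 0 179204 = true := Cert.chkRange_join (lo := 0) (a := 176550) (b := 2654) _ allC57 Cfsg.Agent.Lib.TC.D.Fi24a.C58.ok
theorem allC59 : cert.chkRange 0 181865 = true := Cert.chkRange_join (lo := 0) (a := 179204) (b := 2661) _ allC58 Cfsg.Agent.Lib.TC.D.Fi24a.C59.ok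
theorem allC60 : cert.chkRange 0 184471 = true := Cert.chkRange_join (lo := 0) (a := 181865) (b := 2606) _ allC59 Cfsg.Agent.Lib.TC.D.Fi24a.C60.ok
theorem allC61 : cert.chkRange 0 187098 = true := Cert.chkRange_join (lo := 0) (a := 184471) (b := 2627) _ allC60 Cfsg.Agent.Lib.TC.D.Fi24a.C61.ok
theorem allC62 : cert.chkRange 0 189857 = true := Cert.chkRange_join (lo := 0) (a := 187098) (b := 2759) _ allC61 Cfsg.Agent.Lib.TC.D.Fi24a.C62.ok
theorem allC63 : cert.chkRange 0 192628 = true := Cert.chkRange_join (lo := 0) (a := 189857) (b := 2771) _ allC62 Cfsg.Agent.Lib.TC.D.Fi24a.C63.ok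
theorem allC64 : cert.chkRange 0 195342 = true := Cert.chkRange_join (lo := 0) (a := 192628) (b := 2714) _ allC63 Cfsg.Agent.Lib.TC.D.Fi24a.C64.ok
theorem allC65 : cert.chkRange 0 197989 = true := Cert.chkRange_join (lo := 0) (a := 195342) (b := 2647) _ allC64 Cfsg.Agent.Lib.TC.D.Fi24a.C65.ok
theorem allC66 : cert.chkRange 0 200663 = true := Cert.chkRange_join (lo := 0) (a := 197989) (b := 2674) _ allC65 Cfsg.Agent.Lib.TC.D.Fi24a.C66.ok
theorem allC67 : cert.chkRange 0 203312 = true := Cert.chkRange_join (lo := 0) (a := 200663) (b := 2649) _ allC66 Cfsg.Agent.Lib.TC.D.Fi24a.C67.ok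
theorem allC68 : cert.chkRange 0 205921 = true := Cert.chkRange_join (lo := 0) (a := 203312) (b := 2609) _ allC67 Cfsg.Agent.Lib.TC.D.Fi24a.C68.ok
theorem allC69 : cert.chkRange 0 208554 = true := Cert.chkRange_join (lo := 0) (a := 205921) (b := 2633) _ allC68 Cfsg.Agent.Lib.TC.D.Fi24a.C69.ok
theorem allC70 : cert.chkRange 0 211337 = true := Cert.chkRange_join (lo := 0) (a := 208554) (b := 2783) _ allC69 Cfsg.Agent.Lib.TC.D.Fi24a.C70.ok
theorem allC71 : cert.chkRange 0 214115 = true := Cert.chkRange_join (lo := 0) (a := 211337) (b := 2778) _ allC70 Cfsg.Agent.Lib.TC.D.Fi24a.C71.ok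
theorem allC72 : cert.chkRange 0 216836 = true := Cert.chkRange_join (lo := 0) (a := 214115) (b := 2721) _ allC71 Cfsg.Agent.Lib.TC.D.Fi24a.C72.ok
theorem allC73 : cert.chkRange 0 219499 = true := Cert.chkRange_join (lo := 0) (a := 216836) (b := 2663) _ allC72 Cfsg.Agent.Lib.TC.D.Fi24a.C73.ok
theorem allC74 : cert.chkRange 0 222169 = true := Cert.chkRange_join (lo := 0) (a := 219499) (b := 2670) _ allC73 Cfsg.Agent.Lib.TC.D.Fi24a.C74.ok
theorem allC75 : cert.chkRange 0 224836 = true := Cert.chkRange_join (lo := 0) (a := 222169) (b := 2667) _ allC74 Cfsg.Agent.Lib.TC.D.Fi24a.C75.ok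
theorem allC76 : cert.chkRange 0 227447 = true := Cert.chkRange_join (lo := 0) (a := 224836) (b := 2611) _ allC75 Cfsg.Agent.Lib.TC.D.Fi24a.C76.ok
theorem allC77 : cert.chkRange 0 230015 = true := Cert.chkRange_join (lo := 0) (a := 227447) (b := 2568) _ allC76 Cfsg.Agent.Lib.TC.D.Fi24a.C77.ok
theorem allC78 : cert.chkRange 0 232755 = true := Cert.chkRange_join (lo := 0) (a := 230015) (b := 2740) _ allC77 Cfsg.Agent.Lib.TC.D.Fi24a.C78.ok
theorem allC79 : cert.chkRange 0 235556 = true := Cert.chkRange_join (lo := 0) (a := 232755) (b := 2801) _ allC78 Cfsg.Agent.Lib.TC.D.Fi24a.C79.ok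
theorem allC80 : cert.chkRange 0 238309 = true := Cert.chkRange_join (lo := 0) (a := 235556) (b := 2753) _ allC79 Cfsg.Agent.Lib.TC.D.Fi24a.C80.ok
theorem allC81 : cert.chkRange 0 241027 = true := Cert.chkRange_join (lo := 0) (a := 238309) (b := 2718) _ allC80 Cfsg.Agent.Lib.TC.D.Fi24a.C81.ok
theorem allC82 : cert.chkRange 0 243668 = true := Cert.chkRange_join (lo := 0) (a := 241027) (b := 2641) _ allC81 Cfsg.Agent.Lib.TC.D.Fi24a.C82.ok
theorem allC83 : cert.chkRange 0 246339 = true := Cert.chkRange_join (lo := 0) (a := 243668) (b := 2671) _ allC82 Cfsg.Agent.Lib.TC.D.Fi24a.C83.ok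
theorem allC84 : cert.chkRange 0 248994 = true := Cert.chkRange_join (lo := 0) (a := 246339) (b := 2655) _ allC83 Cfsg.Agent.Lib.TC.D.Fi24a.C84.ok
theorem allC85 : cert.chkRange 0 251598 = true := Cert.chkRange_join (lo := 0) (a := 248994) (b := 2604) _ allC84 Cfsg.Agent.Lib.TC.D.Fi24a.C85.ok
theorem allC86 : cert.chkRange 0 254151 = true := Cert.chkRange_join (lo := 0) (a := 251598) (b := 2553) _ allC85 Cfsg.Agent.Lib.TC.D.Fi24a.C86.ok
theorem allC87 : cert.chkRange 0 256886 = true := Cert.chkRange_join (lo := 0) (a := 254151) (b := 2735) _ allC86 Cfsg.Agent.Lib.TC.D.Fi24a.C87.ok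
theorem allC88 : cert.chkRange 0 259700 = true := Cert.chkRange_join (lo := 0) (a := 256886) (b := 2814) _ allC87 Cfsg.Agent.Lib.TC.D.Fi24a.C88.ok
theorem allC89 : cert.chkRange 0 262448 = true := Cert.chkRange_join (lo := 0) (a := 259700) (b := 2748) _ allC88 Cfsg.Agent.Lib.TC.D.Fi24a.C89.ok
theorem allC90 : cert.chkRange 0 265165 = true := Cert.chkRange_join (lo := 0) (a := 262448) (b := 2717) _ allC89 Cfsg.Agent.Lib.TC.D.Fi24a.C90.ok
theorem allC91 : cert.chkRange 0 267820 = true := Cert.chkRange_join (lo := 0) (a := 265165) (b := 2655) _ allC90 Cfsg.Agent.Lib.TC.D.Fi24a.C91.ok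
theorem allC92 : cert.chkRange 0 270480 = true := Cert.chkRange_join (lo := 0) (a := 267820) (b := 2660) _ allC91 Cfsg.Agent.Lib.TC.D.Fi24a.C92.ok
theorem allC93 : cert.chkRange 0 273130 = true := Cert.chkRange_join (lo := 0) (a := 270480) (b := 2650) _ allC92 Cfsg.Agent.Lib.TC.D.Fi24a.C93.ok
theorem allC94 : cert.chkRange 0 275743 = true := Cert.chkRange_join (lo := 0) (a := 273130) (b := 2613) _ allC93 Cfsg.Agent.Lib.TC.D.Fi24a.C94.ok
theorem allC95 : cert.chkRange 0 278301 = true := Cert.chkRange_join (lo := 0) (a := 275743) (b := 2558) _ allC94 Cfsg.Agent.Lib.TC.D.Fi24a.C95.ok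
theorem allC96 : cert.chkRange 0 280911 = true := Cert.chkRange_join (lo := 0) (a := 278301) (b := 2610) _ allC95 Cfsg.Agent.Lib.TC.D.Fi24a.C96.ok
theorem allC97 : cert.chkRange 0 283712 = true := Cert.chkRange_join (lo := 0) (a := 280911) (b := 2801) _ allC96 Cfsg.Agent.Lib.TC.D.Fi24a.C97.ok
theorem allC98 : cert.chkRange 0 286501 = true := Cert.chkRange_join (lo := 0) (a := 283712) (b := 2789) _ allC97 Cfsg.Agent.Lib.TC.D.Fi24a.C98.ok
theorem allC99 : cert.chkRange 0 289215 = true := Cert.chkRange_join (lo := 0) (a := 286501) (b := 2714) _ allC98 Cfsg.Agent.Lib.TC.D.Fi24a.C99.ok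
theorem allC100 : cert.chkRange 0 291923 = true := Cert.chkRange_join (lo := 0) (a := 289215) (b := 2708) _ allC99 Cfsg.Agent.Lib.TC.D.Fi24a.C100.ok
theorem allC101 : cert.chkRange 0 294539 = true := Cert.chkRange_join (lo := 0) (a := 291923) (b := 2616) _ allC100 Cfsg.Agent.Lib.TC.D.Fi24a.C101.ok
theorem allC102 : cert.chkRange 0 297175 = true := Cert.chkRange_join (lo := 0) (a := 294539) (b := 2636) _ allC101 Cfsg.Agent.Lib.TC.D.Fi24a.C102.ok
theorem allC103 : cert.chkRange 0 299793 = true := Cert.chkRange_join (lo := 0) (a := 297175) (b := 2618) _ allC102 Cfsg.Agent.Lib.TC.D.Fi24a.C103.ok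
theorem allC104 : cert.chkRange 0 302365 = true := Cert.chkRange_join (lo := 0) (a := 299793) (b := 2572) _ allC103 Cfsg.Agent.Lib.TC.D.Fi24a.C104.ok
theorem allC105 : cert.chkRange 0 304900 = true := Cert.chkRange_join (lo := 0) (a := 302365) (b := 2535) _ allC104 Cfsg.Agent.Lib.TC.D.Fi24a.C105.ok
theorem allC106 : cert.chkRange 0 307659 = true := Cert.chkRange_join (lo := 0) (a := 304900) (b := 2759) _ allC105 Cfsg.Agent.Lib.TC.D.Fi24a.C106.ok
theorem allC107 : cert.chkRange 0 310456 = true := Cert.chkRange_join (lo := 0) (a := 307659) (b := 2797) _ allC106 Cfsg.Agent.Lib.TC.D.Fi24a.C107.ok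
theorem allC108 : cert.chkRange 0 313180 = true := Cert.chkRange_join (lo := 0) (a := 310456) (b := 2724) _ allC107 Cfsg.Agent.Lib.TC.D.Fi24a.C108.ok
theorem allC109 : cert.chkRange 0 315877 = true := Cert.chkRange_join (lo := 0) (a := 313180) (b := 2697) _ allC108 Cfsg.Agent.Lib.TC.D.Fi24a.C109.ok
theorem allC110 : cert.chkRange 0 318494 = true := Cert.chkRange_join (lo := 0) (a := 315877) (b := 2617) _ allC109 Cfsg.Agent.Lib.TC.D.Fi24a.C110.ok
theorem allC111 : cert.chkRange 0 321120 = true := Cert.chkRange_join (lo := 0) (a := 318494) (b := 2626) _ allC110 Cfsg.Agent.Lib.TC.D.Fi24a.C111.ok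
theorem allC112 : cert.chkRange 0 323715 = true := Cert.chkRange_join (lo := 0) (a := 321120) (b := 2595) _ allC111 Cfsg.Agent.Lib.TC.D.Fi24a.C112.ok
theorem allC113 : cert.chkRange 0 326240 = true := Cert.chkRange_join (lo := 0) (a := 323715) (b := 2525) _ allC112 Cfsg.Agent.Lib.TC.D.Fi24a.C113.ok
theorem allC114 : cert.chkRange 0 328876 = true := Cert.chkRange_join (lo := 0) (a := 326240) (b := 2636) _ allC113 Cfsg.Agent.Lib.TC.D.Fi24a.C114.ok
theorem allC115 : cert.chkRange 0 331674 = true := Cert.chkRange_join (lo := 0) (a := 328876) (b := 2798) _ allC114 Cfsg.Agent.Lib.TC.D.Fi24a.C115.ok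
theorem allC116 : cert.chkRange 0 334408 = true := Cert.chkRange_join (lo := 0) (a := 331674) (b := 2734) _ allC115 Cfsg.Agent.Lib.TC.D.Fi24a.C116.ok
theorem allC117 : cert.chkRange 0 337094 = true := Cert.chkRange_join (lo := 0) (a := 334408) (b := 2686) _ allC116 Cfsg.Agent.Lib.TC.D.Fi24a.C117.ok
theorem allC118 : cert.chkRange 0 339677 = true := Cert.chkRange_join (lo := 0) (a := 337094) (b := 2583) _ allC117 Cfsg.Agent.Lib.TC.D.Fi24a.C118.ok
theorem allC119 : cert.chkRange 0 342253 = true := Cert.chkRange_join (lo := 0) (a := 339677) (b := 2576) _ allC118 Cfsg.Agent.Lib.TC.D.Fi24a.C119.ok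
theorem allC120 : cert.chkRange 0 344787 = true := Cert.chkRange_join (lo := 0) (a := 342253) (b := 2534) _ allC119 Cfsg.Agent.Lib.TC.D.Fi24a.C120.ok
theorem allC121 : cert.chkRange 0 347531 = true := Cert.chkRange_join (lo := 0) (a := 344787) (b := 2744) _ allC120 Cfsg.Agent.Lib.TC.D.Fi24a.C121.ok
theorem allC122 : cert.chkRange 0 350242 = true := Cert.chkRange_join (lo := 0) (a := 347531) (b := 2711) _ allC121 Cfsg.Agent.Lib.TC.D.Fi24a.C122.ok
theorem allC123 : cert.chkRange 0 352830 = true := Cert.chkRange_join (lo := 0) (a := 350242) (b := 2588) _ allC122 Cfsg.Agent.Lib.TC.D.Fi24a.C123.ok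
theorem allC124 : cert.chkRange 0 355322 = true := Cert.chkRange_join (lo := 0) (a := 352830) (b := 2492) _ allC123 Cfsg.Agent.Lib.TC.D.Fi24a.C124.ok
theorem allC125 : cert.chkRange 0 358048 = true := Cert.chkRange_join (lo := 0) (a := 355322) (b := 2726) _ allC124 Cfsg.Agent.Lib.TC.D.Fi24a.C125.ok
theorem allC126 : cert.chkRange 0 360633 = true := Cert.chkRange_join (lo := 0) (a := 358048) (b := 2585) _ allC125 Cfsg.Agent.Lib.TC.D.Fi24a.C126.ok
theorem allC127 : cert.chkRange 0 363230 = true := Cert.chkRange_join (lo := 0) (a := 360633) (b := 2597) _ allC126 Cfsg.Agent.Lib.TC.D.Fi24a.C127.ok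
theorem allC128 : cert.chkRange 0 365807 = true := Cert.chkRange_join (lo := 0) (a := 363230) (b := 2577) _ allC127 Cfsg.Agent.Lib.TC.D.Fi24a.C128.ok
theorem allC129 : cert.chkRange 0 366461 = true := Cert.chkRange_join (lo := 0) (a := 365807) (b := 654) _ allC128 Cfsg.Agent.Lib.TC.D.Fi24a.C129.ok
theorem allP0 : pt.chkRange rels 0 384 = true := Cfsg.Agent.Lib.TC.D.Fi24a.P0.ok
theorem allP1 : pt.chkRange rels 0 768 = true := PT.chkRange_join (lo := 0) (a := 384) (b := 384) _ allP0 Cfsg.Agent.Lib.TC.D.Fi24a.P1.ok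
theorem allP2 : pt.chkRange rels 0 1152 = true := PT.chkRange_join (lo := 0) (a := 768) (b := 384) _ allP1 Cfsg.Agent.Lib.TC.D.Fi24a.P2.ok
theorem allP3 : pt.chkRange rels 0 1536 = true := PT.chkRange_join (lo := 0) (a := 1152) (b := 384) _ allP2 Cfsg.Agent.Lib.TC.D.Fi24a.P3.ok
theorem allP4 : pt.chkRange rels 0 1920 = true := PT.chkRange_join (lo := 0) (a := 1536) (b := 384) _ allP3 Cfsg.Agent.Lib.TC.D.Fi24a.P4.ok
theorem allP5 : pt.chkRange rels 0 2304 = true := PT.chkRange_join (lo := 0) (a := 1920) (b := 384) _ allP4 Cfsg.Agent.Lib.TC.D.Fi24a.P5.ok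
theorem allP6 : pt.chkRange rels 0 2688 = true := PT.chkRange_join (lo := 0) (a := 2304) (b := 384) _ allP5 Cfsg.Agent.Lib.TC.D.Fi24a.P6.ok
theorem allP7 : pt.chkRange rels 0 3072 = true := PT.chkRange_join (lo := 0) (a := 2688) (b := 384) _ allP6 Cfsg.Agent.Lib.TC.D.Fi24a.P7.ok
theorem allP8 : pt.chkRange rels 0 3456 = true := PT.chkRange_join (lo := 0) (a := 3072) (b := 384) _ allP7 Cfsg.Agent.Lib.TC.D.Fi24a.P8.ok
theorem allP9 : pt.chkRange rels 0 3840 = true := PT.chkRange_join (lo := 0) (a := 3456) (b := 384) _ allP8 Cfsg.Agent.Lib.TC.D.Fi24a.P9.ok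
theorem allP10 : pt.chkRange rels 0 4224 = true := PT.chkRange_join (lo := 0) (a := 3840) (b := 384) _ allP9 Cfsg.Agent.Lib.TC.D.Fi24a.P10.ok
theorem allP11 : pt.chkRange rels 0 4608 = true := PT.chkRange_join (lo := 0) (a := 4224) (b := 384) _ allP10 Cfsg.Agent.Lib.TC.D.Fi24a.P11.ok
theorem allP12 : pt.chkRange rels 0 4992 = true := PT.chkRange_join (lo := 0) (a := 4608) (b := 384) _ allP11 Cfsg.Agent.Lib.TC.D.Fi24a.P12.ok
theorem allP13 : pt.chkRange rels 0 5376 = true := PT.chkRange_join (lo := 0) (a := 4992) (b := 384) _ allP12 Cfsg.Agent.Lib.TC.D.Fi24a.P13.ok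
theorem allP14 : pt.chkRange rels 0 5760 = true := PT.chkRange_join (lo := 0) (a := 5376) (b := 384) _ allP13 Cfsg.Agent.Lib.TC.D.Fi24a.P14.ok
theorem allP15 : pt.chkRange rels 0 6144 = true := PT.chkRange_join (lo := 0) (a := 5760) (b := 384) _ allP14 Cfsg.Agent.Lib.TC.D.Fi24a.P15.ok
theorem allP16 : pt.chkRange rels 0 6528 = true := PT.chkRange_join (lo := 0) (a := 6144) (b := 384) _ allP15 Cfsg.Agent.Lib.TC.D.Fi24a.P16.ok
theorem allP17 : pt.chkRange rels 0 6912 = true := PT.chkRange_join (lo := 0) (a := 6528) (b := 384) _ allP16 Cfsg.Agent.Lib.TC.D.Fi24a.P17.ok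
theorem allP18 : pt.chkRange rels 0 7296 = true := PT.chkRange_join (lo := 0) (a := 6912) (b := 384) _ allP17 Cfsg.Agent.Lib.TC.D.Fi24a.P18.ok
theorem allP19 : pt.chkRange rels 0 7680 = true := PT.chkRange_join (lo := 0) (a := 7296) (b := 384) _ allP18 Cfsg.Agent.Lib.TC.D.Fi24a.P19.ok
theorem allP20 : pt.chkRange rels 0 8064 = true := PT.chkRange_join (lo := 0) (a := 7680) (b := 384) _ allP19 Cfsg.Agent.Lib.TC.D.Fi24a.P20.ok
theorem allP21 : pt.chkRange rels 0 8448 = true := PT.chkRange_join (lo := 0) (a := 8064) (b := 384) _ allP20 Cfsg.Agent.Lib.TC.D.Fi24a.P21.ok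
theorem allP22 : pt.chkRange rels 0 8832 = true := PT.chkRange_join (lo := 0) (a := 8448) (b := 384) _ allP21 Cfsg.Agent.Lib.TC.D.Fi24a.P22.ok
theorem allP23 : pt.chkRange rels 0 9216 = true := PT.chkRange_join (lo := 0) (a := 8832) (b := 384) _ allP22 Cfsg.Agent.Lib.TC.D.Fi24a.P23.ok
theorem allP24 : pt.chkRange rels 0 9600 = true := PT.chkRange_join (lo := 0) (a := 9216) (b := 384) _ allP23 Cfsg.Agent.Lib.TC.D.Fi24a.P24.ok
theorem allP25 : pt.chkRange rels 0 9984 = true := PT.chkRange_join (lo := 0) (a := 9600) (b := 384) _ allP24 Cfsg.Agent.Lib.TC.D.Fi24a.P25.ok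
theorem allP26 : pt.chkRange rels 0 10368 = true := PT.chkRange_join (lo := 0) (a := 9984) (b := 384) _ allP25 Cfsg.Agent.Lib.TC.D.Fi24a.P26.ok
theorem allP27 : pt.chkRange rels 0 10752 = true := PT.chkRange_join (lo := 0) (a := 10368) (b := 384) _ allP26 Cfsg.Agent.Lib.TC.D.Fi24a.P27.ok
theorem allP28 : pt.chkRange rels 0 11136 = true := PT.chkRange_join (lo := 0) (a := 10752) (b := 384) _ allP27 Cfsg.Agent.Lib.TC.D.Fi24a.P28.ok
theorem allP29 : pt.chkRange rels 0 11520 = true := PT.chkRange_join (lo := 0) (a := 11136) (b := 384) _ allP28 Cfsg.Agent.Lib.TC.D.Fi24a.P29.ok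
theorem allP30 : pt.chkRange rels 0 11904 = true := PT.chkRange_join (lo := 0) (a := 11520) (b := 384) _ allP29 Cfsg.Agent.Lib.TC.D.Fi24a.P30.ok
theorem allP31 : pt.chkRange rels 0 12288 = true := PT.chkRange_join (lo := 0) (a := 11904) (b := 384) _ allP30 Cfsg.Agent.Lib.TC.D.Fi24a.P31.ok
theorem allP32 : pt.chkRange rels 0 12672 = true := PT.chkRange_join (lo := 0) (a := 12288) (b := 384) _ allP31 Cfsg.Agent.Lib.TC.D.Fi24a.P32.ok
theorem allP33 : pt.chkRange rels 0 13056 = true := PT.chkRange_join (lo := 0) (a := 12672) (b := 384) _ allP32 Cfsg.Agent.Lib.TC.D.Fi24a.P33.ok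
theorem allP34 : pt.chkRange rels 0 13440 = true := PT.chkRange_join (lo := 0) (a := 13056) (b := 384) _ allP33 Cfsg.Agent.Lib.TC.D.Fi24a.P34.ok
theorem allP35 : pt.chkRange rels 0 13824 = true := PT.chkRange_join (lo := 0) (a := 13440) (b := 384) _ allP34 Cfsg.Agent.Lib.TC.D.Fi24a.P35.ok
theorem allP36 : pt.chkRange rels 0 14208 = true := PT.chkRange_join (lo := 0) (a := 13824) (b := 384) _ allP35 Cfsg.Agent.Lib.TC.D.Fi24a.P36.ok
theorem allP37 : pt.chkRange rels 0 14592 = true := PT.chkRange_join (lo := 0) (a := 14208) (b := 384) _ allP36 Cfsg.Agent.Lib.TC.D.Fi24a.P37.ok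
theorem allP38 : pt.chkRange rels 0 14976 = true := PT.chkRange_join (lo := 0) (a := 14592) (b := 384) _ allP37 Cfsg.Agent.Lib.TC.D.Fi24a.P38.ok
theorem allP39 : pt.chkRange rels 0 15360 = true := PT.chkRange_join (lo := 0) (a := 14976) (b := 384) _ allP38 Cfsg.Agent.Lib.TC.D.Fi24a.P39.ok
theorem allP40 : pt.chkRange rels 0 15744 = true := PT.chkRange_join (lo := 0) (a := 15360) (b := 384) _ allP39 Cfsg.Agent.Lib.TC.D.Fi24a.P40.ok
theorem allP41 : pt.chkRange rels 0 16128 = true := PT.chkRange_join (lo := 0) (a := 15744) (b := 384) _ allP40 Cfsg.Agent.Lib.TC.D.Fi24a.P41.ok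
theorem allP42 : pt.chkRange rels 0 16512 = true := PT.chkRange_join (lo := 0) (a := 16128) (b := 384) _ allP41 Cfsg.Agent.Lib.TC.D.Fi24a.P42.ok
theorem allP43 : pt.chkRange rels 0 16896 = true := PT.chkRange_join (lo := 0) (a := 16512) (b := 384) _ allP42 Cfsg.Agent.Lib.TC.D.Fi24a.P43.ok
theorem allP44 : pt.chkRange rels 0 17280 = true := PT.chkRange_join (lo := 0) (a := 16896) (b := 384) _ allP43 Cfsg.Agent.Lib.TC.D.Fi24a.P44.ok
theorem allP45 : pt.chkRange rels 0 17664 = true := PT.chkRange_join (lo := 0) (a := 17280) (b := 384) _ allP44 Cfsg.Agent.Lib.TC.D.Fi24a.P45.ok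
theorem allP46 : pt.chkRange rels 0 18048 = true := PT.chkRange_join (lo := 0) (a := 17664) (b := 384) _ allP45 Cfsg.Agent.Lib.TC.D.Fi24a.P46.ok
theorem allP47 : pt.chkRange rels 0 18432 = true := PT.chkRange_join (lo := 0) (a := 18048) (b := 384) _ allP46 Cfsg.Agent.Lib.TC.D.Fi24a.P47.ok
theorem allP48 : pt.chkRange rels 0 18816 = true := PT.chkRange_join (lo := 0) (a := 18432) (b := 384) _ allP47 Cfsg.Agent.Lib.TC.D.Fi24a.P48.ok
theorem allP49 : pt.chkRange rels 0 19200 = true := PT.chkRange_join (lo := 0) (a := 18816) (b := 384) _ allP48 Cfsg.Agent.Lib.TC.D.Fi24a.P49.ok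
theorem allP50 : pt.chkRange rels 0 19584 = true := PT.chkRange_join (lo := 0) (a := 19200) (b := 384) _ allP49 Cfsg.Agent.Lib.TC.D.Fi24a.P50.ok
theorem allP51 : pt.chkRange rels 0 19968 = true := PT.chkRange_join (lo := 0) (a := 19584) (b := 384) _ allP50 Cfsg.Agent.Lib.TC.D.Fi24a.P51.ok
theorem allP52 : pt.chkRange rels 0 20352 = true := PT.chkRange_join (lo := 0) (a := 19968) (b := 384) _ allP51 Cfsg.Agent.Lib.TC.D.Fi24a.P52.ok
theorem allP53 : pt.chkRange rels 0 20736 = true := PT.chkRange_join (lo := 0) (a := 20352) (b := 384) _ allP52 Cfsg.Agent.Lib.TC.D.Fi24a.P53.ok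
theorem allP54 : pt.chkRange rels 0 21120 = true := PT.chkRange_join (lo := 0) (a := 20736) (b := 384) _ allP53 Cfsg.Agent.Lib.TC.D.Fi24a.P54.ok
theorem allP55 : pt.chkRange rels 0 21504 = true := PT.chkRange_join (lo := 0) (a := 21120) (b := 384) _ allP54 Cfsg.Agent.Lib.TC.D.Fi24a.P55.ok
theorem allP56 : pt.chkRange rels 0 21888 = true := PT.chkRange_join (lo := 0) (a := 21504) (b := 384) _ allP55 Cfsg.Agent.Lib.TC.D.Fi24a.P56.ok
theorem allP57 : pt.chkRange rels 0 22272 = true := PT.chkRange_join (lo := 0) (a := 21888) (b := 384) _ allP56 Cfsg.Agent.Lib.TC.D.Fi24a.P57.ok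
theorem allP58 : pt.chkRange rels 0 22656 = true := PT.chkRange_join (lo := 0) (a := 22272) (b := 384) _ allP57 Cfsg.Agent.Lib.TC.D.Fi24a.P58.ok
theorem allP59 : pt.chkRange rels 0 23040 = true := PT.chkRange_join (lo := 0) (a := 22656) (b := 384) _ allP58 Cfsg.Agent.Lib.TC.D.Fi24a.P59.ok
theorem allP60 : pt.chkRange rels 0 23424 = true := PT.chkRange_join (lo := 0) (a := 23040) (b := 384) _ allP59 Cfsg.Agent.Lib.TC.D.Fi24a.P60.ok
theorem allP61 : pt.chkRange rels 0 23808 = true := PT.chkRange_join (lo := 0) (a := 23424) (b := 384) _ allP60 Cfsg.Agent.Lib.TC.D.Fi24a.P61.ok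
theorem allP62 : pt.chkRange rels 0 24192 = true := PT.chkRange_join (lo := 0) (a := 23808) (b := 384) _ allP61 Cfsg.Agent.Lib.TC.D.Fi24a.P62.ok
theorem allP63 : pt.chkRange rels 0 24576 = true := PT.chkRange_join (lo := 0) (a := 24192) (b := 384) _ allP62 Cfsg.Agent.Lib.TC.D.Fi24a.P63.ok
theorem allP64 : pt.chkRange rels 0 24960 = true := PT.chkRange_join (lo := 0) (a := 24576) (b := 384) _ allP63 Cfsg.Agent.Lib.TC.D.Fi24a.P64.ok
theorem allP65 : pt.chkRange rels 0 25344 = true := PT.chkRange_join (lo := 0) (a := 24960) (b := 384) _ allP64 Cfsg.Agent.Lib.TC.D.Fi24a.P65.ok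
theorem allP66 : pt.chkRange rels 0 25728 = true := PT.chkRange_join (lo := 0) (a := 25344) (b := 384) _ allP65 Cfsg.Agent.Lib.TC.D.Fi24a.P66.ok
theorem allP67 : pt.chkRange rels 0 26112 = true := PT.chkRange_join (lo := 0) (a := 25728) (b := 384) _ allP66 Cfsg.Agent.Lib.TC.D.Fi24a.P67.ok
theorem allP68 : pt.chkRange rels 0 26496 = true := PT.chkRange_join (lo := 0) (a := 26112) (b := 384) _ allP67 Cfsg.Agent.Lib.TC.D.Fi24a.P68.ok
theorem allP69 : pt.chkRange rels 0 26880 = true := PT.chkRange_join (lo := 0) (a := 26496) (b := 384) _ allP68 Cfsg.Agent.Lib.TC.D.Fi24a.P69.ok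
theorem allP70 : pt.chkRange rels 0 27264 = true := PT.chkRange_join (lo := 0) (a := 26880) (b := 384) _ allP69 Cfsg.Agent.Lib.TC.D.Fi24a.P70.ok
theorem allP71 : pt.chkRange rels 0 27648 = true := PT.chkRange_join (lo := 0) (a := 27264) (b := 384) _ allP70 Cfsg.Agent.Lib.TC.D.Fi24a.P71.ok
theorem allP72 : pt.chkRange rels 0 28032 = true := PT.chkRange_join (lo := 0) (a := 27648) (b := 384) _ allP71 Cfsg.Agent.Lib.TC.D.Fi24a.P72.ok
theorem allP73 : pt.chkRange rels 0 28416 = true := PT.chkRange_join (lo := 0) (a := 28032) (b := 384) _ allP72 Cfsg.Agent.Lib.TC.D.Fi24a.P73.ok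
theorem allP74 : pt.chkRange rels 0 28800 = true := PT.chkRange_join (lo := 0) (a := 28416) (b := 384) _ allP73 Cfsg.Agent.Lib.TC.D.Fi24a.P74.ok
theorem allP75 : pt.chkRange rels 0 29184 = true := PT.chkRange_join (lo := 0) (a := 28800) (b := 384) _ allP74 Cfsg.Agent.Lib.TC.D.Fi24a.P75.ok
theorem allP76 : pt.chkRange rels 0 29568 = true := PT.chkRange_join (lo := 0) (a := 29184) (b := 384) _ allP75 Cfsg.Agent.Lib.TC.D.Fi24a.P76.ok
theorem allP77 : pt.chkRange rels 0 29952 = true := PT.chkRange_join (lo := 0) (a := 29568) (b := 384) _ allP76 Cfsg.Agent.Lib.TC.D.Fi24a.P77.ok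
theorem allP78 : pt.chkRange rels 0 30336 = true := PT.chkRange_join (lo := 0) (a := 29952) (b := 384) _ allP77 Cfsg.Agent.Lib.TC.D.Fi24a.P78.ok
theorem allP79 : pt.chkRange rels 0 30720 = true := PT.chkRange_join (lo := 0) (a := 30336) (b := 384) _ allP78 Cfsg.Agent.Lib.TC.D.Fi24a.P79.ok
theorem allP80 : pt.chkRange rels 0 31104 = true := PT.chkRange_join (lo := 0) (a := 30720) (b := 384) _ allP79 Cfsg.Agent.Lib.TC.D.Fi24a.P80.ok
theorem allP81 : pt.chkRange rels 0 31488 = true := PT.chkRange_join (lo := 0) (a := 31104) (b := 384) _ allP80 Cfsg.Agent.Lib.TC.D.Fi24a.P81.ok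
theorem allP82 : pt.chkRange rels 0 31872 = true := PT.chkRange_join (lo := 0) (a := 31488) (b := 384) _ allP81 Cfsg.Agent.Lib.TC.D.Fi24a.P82.ok
theorem allP83 : pt.chkRange rels 0 32256 = true := PT.chkRange_join (lo := 0) (a := 31872) (b := 384) _ allP82 Cfsg.Agent.Lib.TC.D.Fi24a.P83.ok
theorem allP84 : pt.chkRange rels 0 32640 = true := PT.chkRange_join (lo := 0) (a := 32256) (b := 384) _ allP83 Cfsg.Agent.Lib.TC.D.Fi24a.P84.ok
theorem allP85 : pt.chkRange rels 0 33024 = true := PT.chkRange_join (lo := 0) (a := 32640) (b := 384) _ allP84 Cfsg.Agent.Lib.TC.D.Fi24a.P85.ok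
theorem allP86 : pt.chkRange rels 0 33408 = true := PT.chkRange_join (lo := 0) (a := 33024) (b := 384) _ allP85 Cfsg.Agent.Lib.TC.D.Fi24a.P86.ok
theorem allP87 : pt.chkRange rels 0 33792 = true := PT.chkRange_join (lo := 0) (a := 33408) (b := 384) _ allP86 Cfsg.Agent.Lib.TC.D.Fi24a.P87.ok
theorem allP88 : pt.chkRange rels 0 34176 = true := PT.chkRange_join (lo := 0) (a := 33792) (b := 384) _ allP87 Cfsg.Agent.Lib.TC.D.Fi24a.P88.ok
theorem allP89 : pt.chkRange rels 0 34560 = true := PT.chkRange_join (lo := 0) (a := 34176) (b := 384) _ allP88 Cfsg.Agent.Lib.TC.D.Fi24a.P89.ok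
theorem allP90 : pt.chkRange rels 0 34944 = true := PT.chkRange_join (lo := 0) (a := 34560) (b := 384) _ allP89 Cfsg.Agent.Lib.TC.D.Fi24a.P90.ok
theorem allP91 : pt.chkRange rels 0 35328 = true := PT.chkRange_join (lo := 0) (a := 34944) (b := 384) _ allP90 Cfsg.Agent.Lib.TC.D.Fi24a.P91.ok
theorem allP92 : pt.chkRange rels 0 35712 = true := PT.chkRange_join (lo := 0) (a := 35328) (b := 384) _ allP91 Cfsg.Agent.Lib.TC.D.Fi24a.P92.ok
theorem allP93 : pt.chkRange rels 0 36096 = true := PT.chkRange_join (lo := 0) (a := 35712) (b := 384) _ allP92 Cfsg.Agent.Lib.TC.D.Fi24a.P93.ok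
theorem allP94 : pt.chkRange rels 0 36480 = true := PT.chkRange_join (lo := 0) (a := 36096) (b := 384) _ allP93 Cfsg.Agent.Lib.TC.D.Fi24a.P94.ok
theorem allP95 : pt.chkRange rels 0 36864 = true := PT.chkRange_join (lo := 0) (a := 36480) (b := 384) _ allP94 Cfsg.Agent.Lib.TC.D.Fi24a.P95.ok
theorem allP96 : pt.chkRange rels 0 37248 = true := PT.chkRange_join (lo := 0) (a := 36864) (b := 384) _ allP95 Cfsg.Agent.Lib.TC.D.Fi24a.P96.ok
theorem allP97 : pt.chkRange rels 0 37632 = true := PT.chkRange_join (lo := 0) (a := 37248) (b := 384) _ allP96 Cfsg.Agent.Lib.TC.D.Fi24a.P97.ok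
theorem allP98 : pt.chkRange rels 0 38016 = true := PT.chkRange_join (lo := 0) (a := 37632) (b := 384) _ allP97 Cfsg.Agent.Lib.TC.D.Fi24a.P98.ok
theorem allP99 : pt.chkRange rels 0 38400 = true := PT.chkRange_join (lo := 0) (a := 38016) (b := 384) _ allP98 Cfsg.Agent.Lib.TC.D.Fi24a.P99.ok
theorem allP100 : pt.chkRange rels 0 38784 = true := PT.chkRange_join (lo := 0) (a := 38400) (b := 384) _ allP99 Cfsg.Agent.Lib.TC.D.Fi24a.P100.ok
theorem allP101 : pt.chkRange rels 0 39168 = true := PT.chkRange_join (lo := 0) (a := 38784) (b := 384) _ allP100 Cfsg.Agent.Lib.TC.D.Fi24a.P101.ok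
theorem allP102 : pt.chkRange rels 0 39552 = true := PT.chkRange_join (lo := 0) (a := 39168) (b := 384) _ allP101 Cfsg.Agent.Lib.TC.D.Fi24a.P102.ok
theorem allP103 : pt.chkRange rels 0 39936 = true := PT.chkRange_join (lo := 0) (a := 39552) (b := 384) _ allP102 Cfsg.Agent.Lib.TC.D.Fi24a.P103.ok
theorem allP104 : pt.chkRange rels 0 40320 = true := PT.chkRange_join (lo := 0) (a := 39936) (b := 384) _ allP103 Cfsg.Agent.Lib.TC.D.Fi24a.P104.ok
theorem allP105 : pt.chkRange rels 0 40704 = true := PT.chkRange_join (lo := 0) (a := 40320) (b := 384) _ allP104 Cfsg.Agent.Lib.TC.D.Fi24a.P105.ok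
theorem allP106 : pt.chkRange rels 0 41088 = true := PT.chkRange_join (lo := 0) (a := 40704) (b := 384) _ allP105 Cfsg.Agent.Lib.TC.D.Fi24a.P106.ok
theorem allP107 : pt.chkRange rels 0 41472 = true := PT.chkRange_join (lo := 0) (a := 41088) (b := 384) _ allP106 Cfsg.Agent.Lib.TC.D.Fi24a.P107.ok
theorem allP108 : pt.chkRange rels 0 41856 = true := PT.chkRange_join (lo := 0) (a := 41472) (b := 384) _ allP107 Cfsg.Agent.Lib.TC.D.Fi24a.P108.ok
theorem allP109 : pt.chkRange rels 0 42240 = true := PT.chkRange_join (lo := 0) (a := 41856) (b := 384) _ allP108 Cfsg.Agent.Lib.TC.D.Fi24a.P109.ok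
theorem allP110 : pt.chkRange rels 0 42624 = true := PT.chkRange_join (lo := 0) (a := 42240) (b := 384) _ allP109 Cfsg.Agent.Lib.TC.D.Fi24a.P110.ok
theorem allP111 : pt.chkRange rels 0 43008 = true := PT.chkRange_join (lo := 0) (a := 42624) (b := 384) _ allP110 Cfsg.Agent.Lib.TC.D.Fi24a.P111.ok
theorem allP112 : pt.chkRange rels 0 43392 = true := PT.chkRange_join (lo := 0) (a := 43008) (b := 384) _ allP111 Cfsg.Agent.Lib.TC.D.Fi24a.P112.ok
theorem allP113 : pt.chkRange rels 0 43776 = true := PT.chkRange_join (lo := 0) (a := 43392) (b := 384) _ allP112 Cfsg.Agent.Lib.TC.D.Fi24a.P113.ok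
theorem allP114 : pt.chkRange rels 0 44160 = true := PT.chkRange_join (lo := 0) (a := 43776) (b := 384) _ allP113 Cfsg.Agent.Lib.TC.D.Fi24a.P114.ok
theorem allP115 : pt.chkRange rels 0 44544 = true := PT.chkRange_join (lo := 0) (a := 44160) (b := 384) _ allP114 Cfsg.Agent.Lib.TC.D.Fi24a.P115.ok
theorem allP116 : pt.chkRange rels 0 44928 = true := PT.chkRange_join (lo := 0) (a := 44544) (b := 384) _ allP115 Cfsg.Agent.Lib.TC.D.Fi24a.P116.ok
theorem allP117 : pt.chkRange rels 0 45312 = true := PT.chkRange_join (lo := 0) (a := 44928) (b := 384) _ allP116 Cfsg.Agent.Lib.TC.D.Fi24a.P117.ok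
theorem allP118 : pt.chkRange rels 0 45696 = true := PT.chkRange_join (lo := 0) (a := 45312) (b := 384) _ allP117 Cfsg.Agent.Lib.TC.D.Fi24a.P118.ok
theorem allP119 : pt.chkRange rels 0 46080 = true := PT.chkRange_join (lo := 0) (a := 45696) (b := 384) _ allP118 Cfsg.Agent.Lib.TC.D.Fi24a.P119.ok
theorem allP120 : pt.chkRange rels 0 46464 = true := PT.chkRange_join (lo := 0) (a := 46080) (b := 384) _ allP119 Cfsg.Agent.Lib.TC.D.Fi24a.P120.ok
theorem allP121 : pt.chkRange rels 0 46848 = true := PT.chkRange_join (lo := 0) (a := 46464) (b := 384) _ allP120 Cfsg.Agent.Lib.TC.D.Fi24a.P121.ok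
theorem allP122 : pt.chkRange rels 0 47232 = true := PT.chkRange_join (lo := 0) (a := 46848) (b := 384) _ allP121 Cfsg.Agent.Lib.TC.D.Fi24a.P122.ok
theorem allP123 : pt.chkRange rels 0 47616 = true := PT.chkRange_join (lo := 0) (a := 47232) (b := 384) _ allP122 Cfsg.Agent.Lib.TC.D.Fi24a.P123.ok
theorem allP124 : pt.chkRange rels 0 48000 = true := PT.chkRange_join (lo := 0) (a := 47616) (b := 384) _ allP123 Cfsg.Agent.Lib.TC.D.Fi24a.P124.ok
theorem allP125 : pt.chkRange rels 0 48384 = true := PT.chkRange_join (lo := 0) (a := 48000) (b := 384) _ allP124 Cfsg.Agent.Lib.TC.D.Fi24a.P125.ok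
theorem allP126 : pt.chkRange rels 0 48768 = true := PT.chkRange_join (lo := 0) (a := 48384) (b := 384) _ allP125 Cfsg.Agent.Lib.TC.D.Fi24a.P126.ok
theorem allP127 : pt.chkRange rels 0 49152 = true := PT.chkRange_join (lo := 0) (a := 48768) (b := 384) _ allP126 Cfsg.Agent.Lib.TC.D.Fi24a.P127.ok
theorem allP128 : pt.chkRange rels 0 49536 = true := PT.chkRange_join (lo := 0) (a := 49152) (b := 384) _ allP127 Cfsg.Agent.Lib.TC.D.Fi24a.P128.ok
theorem allP129 : pt.chkRange rels 0 49920 = true := PT.chkRange_join (lo := 0) (a := 49536) (b := 384) _ allP128 Cfsg.Agent.Lib.TC.D.Fi24a.P129.ok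
theorem allP130 : pt.chkRange rels 0 50304 = true := PT.chkRange_join (lo := 0) (a := 49920) (b := 384) _ allP129 Cfsg.Agent.Lib.TC.D.Fi24a.P130.ok
theorem allP131 : pt.chkRange rels 0 50688 = true := PT.chkRange_join (lo := 0) (a := 50304) (b := 384) _ allP130 Cfsg.Agent.Lib.TC.D.Fi24a.P131.ok
theorem allP132 : pt.chkRange rels 0 51072 = true := PT.chkRange_join (lo := 0) (a := 50688) (b := 384) _ allP131 Cfsg.Agent.Lib.TC.D.Fi24a.P132.ok
theorem allP133 : pt.chkRange rels 0 51456 = true := PT.chkRange_join (lo := 0) (a := 51072) (b := 384) _ allP132 Cfsg.Agent.Lib.TC.D.Fi24a.P133.ok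
theorem allP134 : pt.chkRange rels 0 51840 = true := PT.chkRange_join (lo := 0) (a := 51456) (b := 384) _ allP133 Cfsg.Agent.Lib.TC.D.Fi24a.P134.ok
theorem allP135 : pt.chkRange rels 0 52224 = true := PT.chkRange_join (lo := 0) (a := 51840) (b := 384) _ allP134 Cfsg.Agent.Lib.TC.D.Fi24a.P135.ok
theorem allP136 : pt.chkRange rels 0 52608 = true := PT.chkRange_join (lo := 0) (a := 52224) (b := 384) _ allP135 Cfsg.Agent.Lib.TC.D.Fi24a.P136.ok
theorem allP137 : pt.chkRange rels 0 52992 = true := PT.chkRange_join (lo := 0) (a := 52608) (b := 384) _ allP136 Cfsg.Agent.Lib.TC.D.Fi24a.P137.ok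
theorem allP138 : pt.chkRange rels 0 53376 = true := PT.chkRange_join (lo := 0) (a := 52992) (b := 384) _ allP137 Cfsg.Agent.Lib.TC.D.Fi24a.P138.ok
theorem allP139 : pt.chkRange rels 0 53760 = true := PT.chkRange_join (lo := 0) (a := 53376) (b := 384) _ allP138 Cfsg.Agent.Lib.TC.D.Fi24a.P139.ok
theorem allP140 : pt.chkRange rels 0 54144 = true := PT.chkRange_join (lo := 0) (a := 53760) (b := 384) _ allP139 Cfsg.Agent.Lib.TC.D.Fi24a.P140.ok
theorem allP141 : pt.chkRange rels 0 54528 = true := PT.chkRange_join (lo := 0) (a := 54144) (b := 384) _ allP140 Cfsg.Agent.Lib.TC.D.Fi24a.P141.ok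
theorem allP142 : pt.chkRange rels 0 54912 = true := PT.chkRange_join (lo := 0) (a := 54528) (b := 384) _ allP141 Cfsg.Agent.Lib.TC.D.Fi24a.P142.ok
theorem allP143 : pt.chkRange rels 0 55296 = true := PT.chkRange_join (lo := 0) (a := 54912) (b := 384) _ allP142 Cfsg.Agent.Lib.TC.D.Fi24a.P143.ok
theorem allP144 : pt.chkRange rels 0 55680 = true := PT.chkRange_join (lo := 0) (a := 55296) (b := 384) _ allP143 Cfsg.Agent.Lib.TC.D.Fi24a.P144.ok
theorem allP145 : pt.chkRange rels 0 56064 = true := PT.chkRange_join (lo := 0) (a := 55680) (b := 384) _ allP144 Cfsg.Agent.Lib.TC.D.Fi24a.P145.ok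
theorem allP146 : pt.chkRange rels 0 56448 = true := PT.chkRange_join (lo := 0) (a := 56064) (b := 384) _ allP145 Cfsg.Agent.Lib.TC.D.Fi24a.P146.ok
theorem allP147 : pt.chkRange rels 0 56832 = true := PT.chkRange_join (lo := 0) (a := 56448) (b := 384) _ allP146 Cfsg.Agent.Lib.TC.D.Fi24a.P147.ok
theorem allP148 : pt.chkRange rels 0 57216 = true := PT.chkRange_join (lo := 0) (a := 56832) (b := 384) _ allP147 Cfsg.Agent.Lib.TC.D.Fi24a.P148.ok
theorem allP149 : pt.chkRange rels 0 57600 = true := PT.chkRange_join (lo := 0) (a := 57216) (b := 384) _ allP148 Cfsg.Agent.Lib.TC.D.Fi24a.P149.ok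
theorem allP150 : pt.chkRange rels 0 57984 = true := PT.chkRange_join (lo := 0) (a := 57600) (b := 384) _ allP149 Cfsg.Agent.Lib.TC.D.Fi24a.P150.ok
theorem allP151 : pt.chkRange rels 0 58368 = true := PT.chkRange_join (lo := 0) (a := 57984) (b := 384) _ allP150 Cfsg.Agent.Lib.TC.D.Fi24a.P151.ok
theorem allP152 : pt.chkRange rels 0 58752 = true := PT.chkRange_join (lo := 0) (a := 58368) (b := 384) _ allP151 Cfsg.Agent.Lib.TC.D.Fi24a.P152.ok
theorem allP153 : pt.chkRange rels 0 59136 = true := PT.chkRange_join (lo := 0) (a := 58752) (b := 384) _ allP152 Cfsg.Agent.Lib.TC.D.Fi24a.P153.ok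
theorem allP154 : pt.chkRange rels 0 59520 = true := PT.chkRange_join (lo := 0) (a := 59136) (b := 384) _ allP153 Cfsg.Agent.Lib.TC.D.Fi24a.P154.ok
theorem allP155 : pt.chkRange rels 0 59904 = true := PT.chkRange_join (lo := 0) (a := 59520) (b := 384) _ allP154 Cfsg.Agent.Lib.TC.D.Fi24a.P155.ok
theorem allP156 : pt.chkRange rels 0 60288 = true := PT.chkRange_join (lo := 0) (a := 59904) (b := 384) _ allP155 Cfsg.Agent.Lib.TC.D.Fi24a.P156.ok
theorem allP157 : pt.chkRange rels 0 60672 = true := PT.chkRange_join (lo := 0) (a := 60288) (b := 384) _ allP156 Cfsg.Agent.Lib.TC.D.Fi24a.P157.ok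
theorem allP158 : pt.chkRange rels 0 61056 = true := PT.chkRange_join (lo := 0) (a := 60672) (b := 384) _ allP157 Cfsg.Agent.Lib.TC.D.Fi24a.P158.ok
theorem allP159 : pt.chkRange rels 0 61440 = true := PT.chkRange_join (lo := 0) (a := 61056) (b := 384) _ allP158 Cfsg.Agent.Lib.TC.D.Fi24a.P159.ok
theorem allP160 : pt.chkRange rels 0 61824 = true := PT.chkRange_join (lo := 0) (a := 61440) (b := 384) _ allP159 Cfsg.Agent.Lib.TC.D.Fi24a.P160.ok
theorem allP161 : pt.chkRange rels 0 62208 = true := PT.chkRange_join (lo := 0) (a := 61824) (b := 384) _ allP160 Cfsg.Agent.Lib.TC.D.Fi24a.P161.ok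
theorem allP162 : pt.chkRange rels 0 62592 = true := PT.chkRange_join (lo := 0) (a := 62208) (b := 384) _ allP161 Cfsg.Agent.Lib.TC.D.Fi24a.P162.ok
theorem allP163 : pt.chkRange rels 0 62976 = true := PT.chkRange_join (lo := 0) (a := 62592) (b := 384) _ allP162 Cfsg.Agent.Lib.TC.D.Fi24a.P163.ok
theorem allP164 : pt.chkRange rels 0 63360 = true := PT.chkRange_join (lo := 0) (a := 62976) (b := 384) _ allP163 Cfsg.Agent.Lib.TC.D.Fi24a.P164.ok
theorem allP165 : pt.chkRange rels 0 63744 = true := PT.chkRange_join (lo := 0) (a := 63360) (b := 384) _ allP164 Cfsg.Agent.Lib.TC.D.Fi24a.P165.ok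
theorem allP166 : pt.chkRange rels 0 64128 = true := PT.chkRange_join (lo := 0) (a := 63744) (b := 384) _ allP165 Cfsg.Agent.Lib.TC.D.Fi24a.P166.ok
theorem allP167 : pt.chkRange rels 0 64512 = true := PT.chkRange_join (lo := 0) (a := 64128) (b := 384) _ allP166 Cfsg.Agent.Lib.TC.D.Fi24a.P167.ok
theorem allP168 : pt.chkRange rels 0 64896 = true := PT.chkRange_join (lo := 0) (a := 64512) (b := 384) _ allP167 Cfsg.Agent.Lib.TC.D.Fi24a.P168.ok
theorem allP169 : pt.chkRange rels 0 65280 = true := PT.chkRange_join (lo := 0) (a := 64896) (b := 384) _ allP168 Cfsg.Agent.Lib.TC.D.Fi24a.P169.ok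
theorem allP170 : pt.chkRange rels 0 65664 = true := PT.chkRange_join (lo := 0) (a := 65280) (b := 384) _ allP169 Cfsg.Agent.Lib.TC.D.Fi24a.P170.ok
theorem allP171 : pt.chkRange rels 0 66048 = true := PT.chkRange_join (lo := 0) (a := 65664) (b := 384) _ allP170 Cfsg.Agent.Lib.TC.D.Fi24a.P171.ok
theorem allP172 : pt.chkRange rels 0 66432 = true := PT.chkRange_join (lo := 0) (a := 66048) (b := 384) _ allP171 Cfsg.Agent.Lib.TC.D.Fi24a.P172.ok
theorem allP173 : pt.chkRange rels 0 66816 = true := PT.chkRange_join (lo := 0) (a := 66432) (b := 384) _ allP172 Cfsg.Agent.Lib.TC.D.Fi24a.P173.ok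
theorem allP174 : pt.chkRange rels 0 67200 = true := PT.chkRange_join (lo := 0) (a := 66816) (b := 384) _ allP173 Cfsg.Agent.Lib.TC.D.Fi24a.P174.ok
theorem allP175 : pt.chkRange rels 0 67584 = true := PT.chkRange_join (lo := 0) (a := 67200) (b := 384) _ allP174 Cfsg.Agent.Lib.TC.D.Fi24a.P175.ok
theorem allP176 : pt.chkRange rels 0 67968 = true := PT.chkRange_join (lo := 0) (a := 67584) (b := 384) _ allP175 Cfsg.Agent.Lib.TC.D.Fi24a.P176.ok
theorem allP177 : pt.chkRange rels 0 68352 = true := PT.chkRange_join (lo := 0) (a := 67968) (b := 384) _ allP176 Cfsg.Agent.Lib.TC.D.Fi24a.P177.ok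
theorem allP178 : pt.chkRange rels 0 68736 = true := PT.chkRange_join (lo := 0) (a := 68352) (b := 384) _ allP177 Cfsg.Agent.Lib.TC.D.Fi24a.P178.ok
theorem allP179 : pt.chkRange rels 0 69120 = true := PT.chkRange_join (lo := 0) (a := 68736) (b := 384) _ allP178 Cfsg.Agent.Lib.TC.D.Fi24a.P179.ok
theorem allP180 : pt.chkRange rels 0 69504 = true := PT.chkRange_join (lo := 0) (a := 69120) (b := 384) _ allP179 Cfsg.Agent.Lib.TC.D.Fi24a.P180.ok
theorem allP181 : pt.chkRange rels 0 69888 = true := PT.chkRange_join (lo := 0) (a := 69504) (b := 384) _ allP180 Cfsg.Agent.Lib.TC.D.Fi24a.P181.ok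
theorem allP182 : pt.chkRange rels 0 70272 = true := PT.chkRange_join (lo := 0) (a := 69888) (b := 384) _ allP181 Cfsg.Agent.Lib.TC.D.Fi24a.P182.ok
theorem allP183 : pt.chkRange rels 0 70656 = true := PT.chkRange_join (lo := 0) (a := 70272) (b := 384) _ allP182 Cfsg.Agent.Lib.TC.D.Fi24a.P183.ok
theorem allP184 : pt.chkRange rels 0 71040 = true := PT.chkRange_join (lo := 0) (a := 70656) (b := 384) _ allP183 Cfsg.Agent.Lib.TC.D.Fi24a.P184.ok
theorem allP185 : pt.chkRange rels 0 71424 = true := PT.chkRange_join (lo := 0) (a := 71040) (b := 384) _ allP184 Cfsg.Agent.Lib.TC.D.Fi24a.P185.ok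
theorem allP186 : pt.chkRange rels 0 71808 = true := PT.chkRange_join (lo := 0) (a := 71424) (b := 384) _ allP185 Cfsg.Agent.Lib.TC.D.Fi24a.P186.ok
theorem allP187 : pt.chkRange rels 0 72192 = true := PT.chkRange_join (lo := 0) (a := 71808) (b := 384) _ allP186 Cfsg.Agent.Lib.TC.D.Fi24a.P187.ok
theorem allP188 : pt.chkRange rels 0 72576 = true := PT.chkRange_join (lo := 0) (a := 72192) (b := 384) _ allP187 Cfsg.Agent.Lib.TC.D.Fi24a.P188.ok
theorem allP189 : pt.chkRange rels 0 72960 = true := PT.chkRange_join (lo := 0) (a := 72576) (b := 384) _ allP188 Cfsg.Agent.Lib.TC.D.Fi24a.P189.ok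
theorem allP190 : pt.chkRange rels 0 73344 = true := PT.chkRange_join (lo := 0) (a := 72960) (b := 384) _ allP189 Cfsg.Agent.Lib.TC.D.Fi24a.P190.ok
theorem allP191 : pt.chkRange rels 0 73728 = true := PT.chkRange_join (lo := 0) (a := 73344) (b := 384) _ allP190 Cfsg.Agent.Lib.TC.D.Fi24a.P191.ok
theorem allP192 : pt.chkRange rels 0 74112 = true := PT.chkRange_join (lo := 0) (a := 73728) (b := 384) _ allP191 Cfsg.Agent.Lib.TC.D.Fi24a.P192.ok
theorem allP193 : pt.chkRange rels 0 74496 = true := PT.chkRange_join (lo := 0) (a := 74112) (b := 384) _ allP192 Cfsg.Agent.Lib.TC.D.Fi24a.P193.ok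
theorem allP194 : pt.chkRange rels 0 74880 = true := PT.chkRange_join (lo := 0) (a := 74496) (b := 384) _ allP193 Cfsg.Agent.Lib.TC.D.Fi24a.P194.ok
theorem allP195 : pt.chkRange rels 0 75264 = true := PT.chkRange_join (lo := 0) (a := 74880) (b := 384) _ allP194 Cfsg.Agent.Lib.TC.D.Fi24a.P195.ok
theorem allP196 : pt.chkRange rels 0 75648 = true := PT.chkRange_join (lo := 0) (a := 75264) (b := 384) _ allP195 Cfsg.Agent.Lib.TC.D.Fi24a.P196.ok
theorem allP197 : pt.chkRange rels 0 76032 = true := PT.chkRange_join (lo := 0) (a := 75648) (b := 384) _ allP196 Cfsg.Agent.Lib.TC.D.Fi24a.P197.ok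
theorem allP198 : pt.chkRange rels 0 76416 = true := PT.chkRange_join (lo := 0) (a := 76032) (b := 384) _ allP197 Cfsg.Agent.Lib.TC.D.Fi24a.P198.ok
theorem allP199 : pt.chkRange rels 0 76800 = true := PT.chkRange_join (lo := 0) (a := 76416) (b := 384) _ allP198 Cfsg.Agent.Lib.TC.D.Fi24a.P199.ok
theorem allP200 : pt.chkRange rels 0 77184 = true := PT.chkRange_join (lo := 0) (a := 76800) (b := 384) _ allP199 Cfsg.Agent.Lib.TC.D.Fi24a.P200.ok
theorem allP201 : pt.chkRange rels 0 77568 = true := PT.chkRange_join (lo := 0) (a := 77184) (b := 384) _ allP200 Cfsg.Agent.Lib.TC.D.Fi24a.P201.ok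
theorem allP202 : pt.chkRange rels 0 77952 = true := PT.chkRange_join (lo := 0) (a := 77568) (b := 384) _ allP201 Cfsg.Agent.Lib.TC.D.Fi24a.P202.ok
theorem allP203 : pt.chkRange rels 0 78336 = true := PT.chkRange_join (lo := 0) (a := 77952) (b := 384) _ allP202 Cfsg.Agent.Lib.TC.D.Fi24a.P203.ok
theorem allP204 : pt.chkRange rels 0 78720 = true := PT.chkRange_join (lo := 0) (a := 78336) (b := 384) _ allP203 Cfsg.Agent.Lib.TC.D.Fi24a.P204.ok
theorem allP205 : pt.chkRange rels 0 79104 = true := PT.chkRange_join (lo := 0) (a := 78720) (b := 384) _ allP204 Cfsg.Agent.Lib.TC.D.Fi24a.P205.ok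
theorem allP206 : pt.chkRange rels 0 79488 = true := PT.chkRange_join (lo := 0) (a := 79104) (b := 384) _ allP205 Cfsg.Agent.Lib.TC.D.Fi24a.P206.ok
theorem allP207 : pt.chkRange rels 0 79872 = true := PT.chkRange_join (lo := 0) (a := 79488) (b := 384) _ allP206 Cfsg.Agent.Lib.TC.D.Fi24a.P207.ok
theorem allP208 : pt.chkRange rels 0 80256 = true := PT.chkRange_join (lo := 0) (a := 79872) (b := 384) _ allP207 Cfsg.Agent.Lib.TC.D.Fi24a.P208.ok
theorem allP209 : pt.chkRange rels 0 80640 = true := PT.chkRange_join (lo := 0) (a := 80256) (b := 384) _ allP208 Cfsg.Agent.Lib.TC.D.Fi24a.P209.ok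
theorem allP210 : pt.chkRange rels 0 81024 = true := PT.chkRange_join (lo := 0) (a := 80640) (b := 384) _ allP209 Cfsg.Agent.Lib.TC.D.Fi24a.P210.ok
theorem allP211 : pt.chkRange rels 0 81408 = true := PT.chkRange_join (lo := 0) (a := 81024) (b := 384) _ allP210 Cfsg.Agent.Lib.TC.D.Fi24a.P211.ok
theorem allP212 : pt.chkRange rels 0 81792 = true := PT.chkRange_join (lo := 0) (a := 81408) (b := 384) _ allP211 Cfsg.Agent.Lib.TC.D.Fi24a.P212.ok
theorem allP213 : pt.chkRange rels 0 82176 = true := PT.chkRange_join (lo := 0) (a := 81792) (b := 384) _ allP212 Cfsg.Agent.Lib.TC.D.Fi24a.P213.ok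
theorem allP214 : pt.chkRange rels 0 82560 = true := PT.chkRange_join (lo := 0) (a := 82176) (b := 384) _ allP213 Cfsg.Agent.Lib.TC.D.Fi24a.P214.ok
theorem allP215 : pt.chkRange rels 0 82944 = true := PT.chkRange_join (lo := 0) (a := 82560) (b := 384) _ allP214 Cfsg.Agent.Lib.TC.D.Fi24a.P215.ok
theorem allP216 : pt.chkRange rels 0 83328 = true := PT.chkRange_join (lo := 0) (a := 82944) (b := 384) _ allP215 Cfsg.Agent.Lib.TC.D.Fi24a.P216.ok
theorem allP217 : pt.chkRange rels 0 83712 = true := PT.chkRange_join (lo := 0) (a := 83328) (b := 384) _ allP216 Cfsg.Agent.Lib.TC.D.Fi24a.P217.ok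
theorem allP218 : pt.chkRange rels 0 84096 = true := PT.chkRange_join (lo := 0) (a := 83712) (b := 384) _ allP217 Cfsg.Agent.Lib.TC.D.Fi24a.P218.ok
theorem allP219 : pt.chkRange rels 0 84480 = true := PT.chkRange_join (lo := 0) (a := 84096) (b := 384) _ allP218 Cfsg.Agent.Lib.TC.D.Fi24a.P219.ok
theorem allP220 : pt.chkRange rels 0 84864 = true := PT.chkRange_join (lo := 0) (a := 84480) (b := 384) _ allP219 Cfsg.Agent.Lib.TC.D.Fi24a.P220.ok
theorem allP221 : pt.chkRange rels 0 85248 = true := PT.chkRange_join (lo := 0) (a := 84864) (b := 384) _ allP220 Cfsg.Agent.Lib.TC.D.Fi24a.P221.ok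
theorem allP222 : pt.chkRange rels 0 85632 = true := PT.chkRange_join (lo := 0) (a := 85248) (b := 384) _ allP221 Cfsg.Agent.Lib.TC.D.Fi24a.P222.ok
theorem allP223 : pt.chkRange rels 0 86016 = true := PT.chkRange_join (lo := 0) (a := 85632) (b := 384) _ allP222 Cfsg.Agent.Lib.TC.D.Fi24a.P223.ok
theorem allP224 : pt.chkRange rels 0 86400 = true := PT.chkRange_join (lo := 0) (a := 86016) (b := 384) _ allP223 Cfsg.Agent.Lib.TC.D.Fi24a.P224.ok
theorem allP225 : pt.chkRange rels 0 86784 = true := PT.chkRange_join (lo := 0) (a := 86400) (b := 384) _ allP224 Cfsg.Agent.Lib.TC.D.Fi24a.P225.ok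
theorem allP226 : pt.chkRange rels 0 87168 = true := PT.chkRange_join (lo := 0) (a := 86784) (b := 384) _ allP225 Cfsg.Agent.Lib.TC.D.Fi24a.P226.ok
theorem allP227 : pt.chkRange rels 0 87552 = true := PT.chkRange_join (lo := 0) (a := 87168) (b := 384) _ allP226 Cfsg.Agent.Lib.TC.D.Fi24a.P227.ok
theorem allP228 : pt.chkRange rels 0 87936 = true := PT.chkRange_join (lo := 0) (a := 87552) (b := 384) _ allP227 Cfsg.Agent.Lib.TC.D.Fi24a.P228.ok
theorem allP229 : pt.chkRange rels 0 88320 = true := PT.chkRange_join (lo := 0) (a := 87936) (b := 384) _ allP228 Cfsg.Agent.Lib.TC.D.Fi24a.P229.ok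
theorem allP230 : pt.chkRange rels 0 88704 = true := PT.chkRange_join (lo := 0) (a := 88320) (b := 384) _ allP229 Cfsg.Agent.Lib.TC.D.Fi24a.P230.ok
theorem allP231 : pt.chkRange rels 0 89088 = true := PT.chkRange_join (lo := 0) (a := 88704) (b := 384) _ allP230 Cfsg.Agent.Lib.TC.D.Fi24a.P231.ok
theorem allP232 : pt.chkRange rels 0 89472 = true := PT.chkRange_join (lo := 0) (a := 89088) (b := 384) _ allP231 Cfsg.Agent.Lib.TC.D.Fi24a.P232.ok
theorem allP233 : pt.chkRange rels 0 89856 = true := PT.chkRange_join (lo := 0) (a := 89472) (b := 384) _ allP232 Cfsg.Agent.Lib.TC.D.Fi24a.P233.ok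
theorem allP234 : pt.chkRange rels 0 90240 = true := PT.chkRange_join (lo := 0) (a := 89856) (b := 384) _ allP233 Cfsg.Agent.Lib.TC.D.Fi24a.P234.ok
theorem allP235 : pt.chkRange rels 0 90624 = true := PT.chkRange_join (lo := 0) (a := 90240) (b := 384) _ allP234 Cfsg.Agent.Lib.TC.D.Fi24a.P235.ok
theorem allP236 : pt.chkRange rels 0 91008 = true := PT.chkRange_join (lo := 0) (a := 90624) (b := 384) _ allP235 Cfsg.Agent.Lib.TC.D.Fi24a.P236.ok
theorem allP237 : pt.chkRange rels 0 91392 = true := PT.chkRange_join (lo := 0) (a := 91008) (b := 384) _ allP236 Cfsg.Agent.Lib.TC.D.Fi24a.P237.ok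
theorem allP238 : pt.chkRange rels 0 91776 = true := PT.chkRange_join (lo := 0) (a := 91392) (b := 384) _ allP237 Cfsg.Agent.Lib.TC.D.Fi24a.P238.ok
theorem allP239 : pt.chkRange rels 0 92160 = true := PT.chkRange_join (lo := 0) (a := 91776) (b := 384) _ allP238 Cfsg.Agent.Lib.TC.D.Fi24a.P239.ok
theorem allP240 : pt.chkRange rels 0 92544 = true := PT.chkRange_join (lo := 0) (a := 92160) (b := 384) _ allP239 Cfsg.Agent.Lib.TC.D.Fi24a.P240.ok
theorem allP241 : pt.chkRange rels 0 92928 = true := PT.chkRange_join (lo := 0) (a := 92544) (b := 384) _ allP240 Cfsg.Agent.Lib.TC.D.Fi24a.P241.ok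
theorem allP242 : pt.chkRange rels 0 93312 = true := PT.chkRange_join (lo := 0) (a := 92928) (b := 384) _ allP241 Cfsg.Agent.Lib.TC.D.Fi24a.P242.ok
theorem allP243 : pt.chkRange rels 0 93696 = true := PT.chkRange_join (lo := 0) (a := 93312) (b := 384) _ allP242 Cfsg.Agent.Lib.TC.D.Fi24a.P243.ok
theorem allP244 : pt.chkRange rels 0 94080 = true := PT.chkRange_join (lo := 0) (a := 93696) (b := 384) _ allP243 Cfsg.Agent.Lib.TC.D.Fi24a.P244.ok
theorem allP245 : pt.chkRange rels 0 94464 = true := PT.chkRange_join (lo := 0) (a := 94080) (b := 384) _ allP244 Cfsg.Agent.Lib.TC.D.Fi24a.P245.ok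
theorem allP246 : pt.chkRange rels 0 94848 = true := PT.chkRange_join (lo := 0) (a := 94464) (b := 384) _ allP245 Cfsg.Agent.Lib.TC.D.Fi24a.P246.ok
theorem allP247 : pt.chkRange rels 0 95232 = true := PT.chkRange_join (lo := 0) (a := 94848) (b := 384) _ allP246 Cfsg.Agent.Lib.TC.D.Fi24a.P247.ok
theorem allP248 : pt.chkRange rels 0 95616 = true := PT.chkRange_join (lo := 0) (a := 95232) (b := 384) _ allP247 Cfsg.Agent.Lib.TC.D.Fi24a.P248.ok
theorem allP249 : pt.chkRange rels 0 96000 = true := PT.chkRange_join (lo := 0) (a := 95616) (b := 384) _ allP248 Cfsg.Agent.Lib.TC.D.Fi24a.P249.ok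
theorem allP250 : pt.chkRange rels 0 96384 = true := PT.chkRange_join (lo := 0) (a := 96000) (b := 384) _ allP249 Cfsg.Agent.Lib.TC.D.Fi24a.P250.ok
theorem allP251 : pt.chkRange rels 0 96768 = true := PT.chkRange_join (lo := 0) (a := 96384) (b := 384) _ allP250 Cfsg.Agent.Lib.TC.D.Fi24a.P251.ok
theorem allP252 : pt.chkRange rels 0 97152 = true := PT.chkRange_join (lo := 0) (a := 96768) (b := 384) _ allP251 Cfsg.Agent.Lib.TC.D.Fi24a.P252.ok
theorem allP253 : pt.chkRange rels 0 97536 = true := PT.chkRange_join (lo := 0) (a := 97152) (b := 384) _ allP252 Cfsg.Agent.Lib.TC.D.Fi24a.P253.ok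
theorem allP254 : pt.chkRange rels 0 97920 = true := PT.chkRange_join (lo := 0) (a := 97536) (b := 384) _ allP253 Cfsg.Agent.Lib.TC.D.Fi24a.P254.ok
theorem allP255 : pt.chkRange rels 0 98304 = true := PT.chkRange_join (lo := 0) (a := 97920) (b := 384) _ allP254 Cfsg.Agent.Lib.TC.D.Fi24a.P255.ok
theorem allP256 : pt.chkRange rels 0 98688 = true := PT.chkRange_join (lo := 0) (a := 98304) (b := 384) _ allP255 Cfsg.Agent.Lib.TC.D.Fi24a.P256.ok
theorem allP257 : pt.chkRange rels 0 99072 = true := PT.chkRange_join (lo := 0) (a := 98688) (b := 384) _ allP256 Cfsg.Agent.Lib.TC.D.Fi24a.P257.ok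
theorem allP258 : pt.chkRange rels 0 99456 = true := PT.chkRange_join (lo := 0) (a := 99072) (b := 384) _ allP257 Cfsg.Agent.Lib.TC.D.Fi24a.P258.ok
theorem allP259 : pt.chkRange rels 0 99840 = true := PT.chkRange_join (lo := 0) (a := 99456) (b := 384) _ allP258 Cfsg.Agent.Lib.TC.D.Fi24a.P259.ok
theorem allP260 : pt.chkRange rels 0 100224 = true := PT.chkRange_join (lo := 0) (a := 99840) (b := 384) _ allP259 Cfsg.Agent.Lib.TC.D.Fi24a.P260.ok
theorem allP261 : pt.chkRange rels 0 100608 = true := PT.chkRange_join (lo := 0) (a := 100224) (b := 384) _ allP260 Cfsg.Agent.Lib.TC.D.Fi24a.P261.ok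
theorem allP262 : pt.chkRange rels 0 100992 = true := PT.chkRange_join (lo := 0) (a := 100608) (b := 384) _ allP261 Cfsg.Agent.Lib.TC.D.Fi24a.P262.ok
theorem allP263 : pt.chkRange rels 0 101376 = true := PT.chkRange_join (lo := 0) (a := 100992) (b := 384) _ allP262 Cfsg.Agent.Lib.TC.D.Fi24a.P263.ok
theorem allP264 : pt.chkRange rels 0 101760 = true := PT.chkRange_join (lo := 0) (a := 101376) (b := 384) _ allP263 Cfsg.Agent.Lib.TC.D.Fi24a.P264.ok
theorem allP265 : pt.chkRange rels 0 102144 = true := PT.chkRange_join (lo := 0) (a := 101760) (b := 384) _ allP264 Cfsg.Agent.Lib.TC.D.Fi24a.P265.ok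
theorem allP266 : pt.chkRange rels 0 102528 = true := PT.chkRange_join (lo := 0) (a := 102144) (b := 384) _ allP265 Cfsg.Agent.Lib.TC.D.Fi24a.P266.ok
theorem allP267 : pt.chkRange rels 0 102912 = true := PT.chkRange_join (lo := 0) (a := 102528) (b := 384) _ allP266 Cfsg.Agent.Lib.TC.D.Fi24a.P267.ok
theorem allP268 : pt.chkRange rels 0 103296 = true := PT.chkRange_join (lo := 0) (a := 102912) (b := 384) _ allP267 Cfsg.Agent.Lib.TC.D.Fi24a.P268.ok
theorem allP269 : pt.chkRange rels 0 103680 = true := PT.chkRange_join (lo := 0) (a := 103296) (b := 384) _ allP268 Cfsg.Agent.Lib.TC.D.Fi24a.P269.ok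
theorem allP270 : pt.chkRange rels 0 104064 = true := PT.chkRange_join (lo := 0) (a := 103680) (b := 384) _ allP269 Cfsg.Agent.Lib.TC.D.Fi24a.P270.ok
theorem allP271 : pt.chkRange rels 0 104448 = true := PT.chkRange_join (lo := 0) (a := 104064) (b := 384) _ allP270 Cfsg.Agent.Lib.TC.D.Fi24a.P271.ok
theorem allP272 : pt.chkRange rels 0 104832 = true := PT.chkRange_join (lo := 0) (a := 104448) (b := 384) _ allP271 Cfsg.Agent.Lib.TC.D.Fi24a.P272.ok
theorem allP273 : pt.chkRange rels 0 105216 = true := PT.chkRange_join (lo := 0) (a := 104832) (b := 384) _ allP272 Cfsg.Agent.Lib.TC.D.Fi24a.P273.ok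
theorem allP274 : pt.chkRange rels 0 105600 = true := PT.chkRange_join (lo := 0) (a := 105216) (b := 384) _ allP273 Cfsg.Agent.Lib.TC.D.Fi24a.P274.ok
theorem allP275 : pt.chkRange rels 0 105984 = true := PT.chkRange_join (lo := 0) (a := 105600) (b := 384) _ allP274 Cfsg.Agent.Lib.TC.D.Fi24a.P275.ok
theorem allP276 : pt.chkRange rels 0 106368 = true := PT.chkRange_join (lo := 0) (a := 105984) (b := 384) _ allP275 Cfsg.Agent.Lib.TC.D.Fi24a.P276.ok
theorem allP277 : pt.chkRange rels 0 106752 = true := PT.chkRange_join (lo := 0) (a := 106368) (b := 384) _ allP276 Cfsg.Agent.Lib.TC.D.Fi24a.P277.ok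
theorem allP278 : pt.chkRange rels 0 107136 = true := PT.chkRange_join (lo := 0) (a := 106752) (b := 384) _ allP277 Cfsg.Agent.Lib.TC.D.Fi24a.P278.ok
theorem allP279 : pt.chkRange rels 0 107520 = true := PT.chkRange_join (lo := 0) (a := 107136) (b := 384) _ allP278 Cfsg.Agent.Lib.TC.D.Fi24a.P279.ok
theorem allP280 : pt.chkRange rels 0 107904 = true := PT.chkRange_join (lo := 0) (a := 107520) (b := 384) _ allP279 Cfsg.Agent.Lib.TC.D.Fi24a.P280.ok
theorem allP281 : pt.chkRange rels 0 108288 = true := PT.chkRange_join (lo := 0) (a := 107904) (b := 384) _ allP280 Cfsg.Agent.Lib.TC.D.Fi24a.P281.ok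
theorem allP282 : pt.chkRange rels 0 108672 = true := PT.chkRange_join (lo := 0) (a := 108288) (b := 384) _ allP281 Cfsg.Agent.Lib.TC.D.Fi24a.P282.ok
theorem allP283 : pt.chkRange rels 0 109056 = true := PT.chkRange_join (lo := 0) (a := 108672) (b := 384) _ allP282 Cfsg.Agent.Lib.TC.D.Fi24a.P283.ok
theorem allP284 : pt.chkRange rels 0 109440 = true := PT.chkRange_join (lo := 0) (a := 109056) (b := 384) _ allP283 Cfsg.Agent.Lib.TC.D.Fi24a.P284.ok
theorem allP285 : pt.chkRange rels 0 109824 = true := PT.chkRange_join (lo := 0) (a := 109440) (b := 384) _ allP284 Cfsg.Agent.Lib.TC.D.Fi24a.P285.ok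
theorem allP286 : pt.chkRange rels 0 110208 = true := PT.chkRange_join (lo := 0) (a := 109824) (b := 384) _ allP285 Cfsg.Agent.Lib.TC.D.Fi24a.P286.ok
theorem allP287 : pt.chkRange rels 0 110592 = true := PT.chkRange_join (lo := 0) (a := 110208) (b := 384) _ allP286 Cfsg.Agent.Lib.TC.D.Fi24a.P287.ok
theorem allP288 : pt.chkRange rels 0 110976 = true := PT.chkRange_join (lo := 0) (a := 110592) (b := 384) _ allP287 Cfsg.Agent.Lib.TC.D.Fi24a.P288.ok
theorem allP289 : pt.chkRange rels 0 111360 = true := PT.chkRange_join (lo := 0) (a := 110976) (b := 384) _ allP288 Cfsg.Agent.Lib.TC.D.Fi24a.P289.ok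
theorem allP290 : pt.chkRange rels 0 111744 = true := PT.chkRange_join (lo := 0) (a := 111360) (b := 384) _ allP289 Cfsg.Agent.Lib.TC.D.Fi24a.P290.ok
theorem allP291 : pt.chkRange rels 0 112128 = true := PT.chkRange_join (lo := 0) (a := 111744) (b := 384) _ allP290 Cfsg.Agent.Lib.TC.D.Fi24a.P291.ok
theorem allP292 : pt.chkRange rels 0 112512 = true := PT.chkRange_join (lo := 0) (a := 112128) (b := 384) _ allP291 Cfsg.Agent.Lib.TC.D.Fi24a.P292.ok
theorem allP293 : pt.chkRange rels 0 112896 = true := PT.chkRange_join (lo := 0) (a := 112512) (b := 384) _ allP292 Cfsg.Agent.Lib.TC.D.Fi24a.P293.ok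
theorem allP294 : pt.chkRange rels 0 113280 = true := PT.chkRange_join (lo := 0) (a := 112896) (b := 384) _ allP293 Cfsg.Agent.Lib.TC.D.Fi24a.P294.ok
theorem allP295 : pt.chkRange rels 0 113664 = true := PT.chkRange_join (lo := 0) (a := 113280) (b := 384) _ allP294 Cfsg.Agent.Lib.TC.D.Fi24a.P295.ok
theorem allP296 : pt.chkRange rels 0 114048 = true := PT.chkRange_join (lo := 0) (a := 113664) (b := 384) _ allP295 Cfsg.Agent.Lib.TC.D.Fi24a.P296.ok
theorem allP297 : pt.chkRange rels 0 114432 = true := PT.chkRange_join (lo := 0) (a := 114048) (b := 384) _ allP296 Cfsg.Agent.Lib.TC.D.Fi24a.P297.ok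
theorem allP298 : pt.chkRange rels 0 114816 = true := PT.chkRange_join (lo := 0) (a := 114432) (b := 384) _ allP297 Cfsg.Agent.Lib.TC.D.Fi24a.P298.ok
theorem allP299 : pt.chkRange rels 0 115200 = true := PT.chkRange_join (lo := 0) (a := 114816) (b := 384) _ allP298 Cfsg.Agent.Lib.TC.D.Fi24a.P299.ok
theorem allP300 : pt.chkRange rels 0 115584 = true := PT.chkRange_join (lo := 0) (a := 115200) (b := 384) _ allP299 Cfsg.Agent.Lib.TC.D.Fi24a.P300.ok
theorem allP301 : pt.chkRange rels 0 115968 = true := PT.chkRange_join (lo := 0) (a := 115584) (b := 384) _ allP300 Cfsg.Agent.Lib.TC.D.Fi24a.P301.ok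
theorem allP302 : pt.chkRange rels 0 116352 = true := PT.chkRange_join (lo := 0) (a := 115968) (b := 384) _ allP301 Cfsg.Agent.Lib.TC.D.Fi24a.P302.ok
theorem allP303 : pt.chkRange rels 0 116736 = true := PT.chkRange_join (lo := 0) (a := 116352) (b := 384) _ allP302 Cfsg.Agent.Lib.TC.D.Fi24a.P303.ok
theorem allP304 : pt.chkRange rels 0 117120 = true := PT.chkRange_join (lo := 0) (a := 116736) (b := 384) _ allP303 Cfsg.Agent.Lib.TC.D.Fi24a.P304.ok
theorem allP305 : pt.chkRange rels 0 117504 = true := PT.chkRange_join (lo := 0) (a := 117120) (b := 384) _ allP304 Cfsg.Agent.Lib.TC.D.Fi24a.P305.ok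
theorem allP306 : pt.chkRange rels 0 117888 = true := PT.chkRange_join (lo := 0) (a := 117504) (b := 384) _ allP305 Cfsg.Agent.Lib.TC.D.Fi24a.P306.ok
theorem allP307 : pt.chkRange rels 0 118272 = true := PT.chkRange_join (lo := 0) (a := 117888) (b := 384) _ allP306 Cfsg.Agent.Lib.TC.D.Fi24a.P307.ok
theorem allP308 : pt.chkRange rels 0 118656 = true := PT.chkRange_join (lo := 0) (a := 118272) (b := 384) _ allP307 Cfsg.Agent.Lib.TC.D.Fi24a.P308.ok
theorem allP309 : pt.chkRange rels 0 119040 = true := PT.chkRange_join (lo := 0) (a := 118656) (b := 384) _ allP308 Cfsg.Agent.Lib.TC.D.Fi24a.P309.ok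
theorem allP310 : pt.chkRange rels 0 119424 = true := PT.chkRange_join (lo := 0) (a := 119040) (b := 384) _ allP309 Cfsg.Agent.Lib.TC.D.Fi24a.P310.ok
theorem allP311 : pt.chkRange rels 0 119808 = true := PT.chkRange_join (lo := 0) (a := 119424) (b := 384) _ allP310 Cfsg.Agent.Lib.TC.D.Fi24a.P311.ok
theorem allP312 : pt.chkRange rels 0 120192 = true := PT.chkRange_join (lo := 0) (a := 119808) (b := 384) _ allP311 Cfsg.Agent.Lib.TC.D.Fi24a.P312.ok
theorem allP313 : pt.chkRange rels 0 120576 = true := PT.chkRange_join (lo := 0) (a := 120192) (b := 384) _ allP312 Cfsg.Agent.Lib.TC.D.Fi24a.P313.ok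
theorem allP314 : pt.chkRange rels 0 120960 = true := PT.chkRange_join (lo := 0) (a := 120576) (b := 384) _ allP313 Cfsg.Agent.Lib.TC.D.Fi24a.P314.ok
theorem allP315 : pt.chkRange rels 0 121344 = true := PT.chkRange_join (lo := 0) (a := 120960) (b := 384) _ allP314 Cfsg.Agent.Lib.TC.D.Fi24a.P315.ok
theorem allP316 : pt.chkRange rels 0 121728 = true := PT.chkRange_join (lo := 0) (a := 121344) (b := 384) _ allP315 Cfsg.Agent.Lib.TC.D.Fi24a.P316.ok
theorem allP317 : pt.chkRange rels 0 122112 = true := PT.chkRange_join (lo := 0) (a := 121728) (b := 384) _ allP316 Cfsg.Agent.Lib.TC.D.Fi24a.P317.ok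
theorem allP318 : pt.chkRange rels 0 122496 = true := PT.chkRange_join (lo := 0) (a := 122112) (b := 384) _ allP317 Cfsg.Agent.Lib.TC.D.Fi24a.P318.ok
theorem allP319 : pt.chkRange rels 0 122880 = true := PT.chkRange_join (lo := 0) (a := 122496) (b := 384) _ allP318 Cfsg.Agent.Lib.TC.D.Fi24a.P319.ok
theorem allP320 : pt.chkRange rels 0 123264 = true := PT.chkRange_join (lo := 0) (a := 122880) (b := 384) _ allP319 Cfsg.Agent.Lib.TC.D.Fi24a.P320.ok
theorem allP321 : pt.chkRange rels 0 123648 = true := PT.chkRange_join (lo := 0) (a := 123264) (b := 384) _ allP320 Cfsg.Agent.Lib.TC.D.Fi24a.P321.ok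
theorem allP322 : pt.chkRange rels 0 124032 = true := PT.chkRange_join (lo := 0) (a := 123648) (b := 384) _ allP321 Cfsg.Agent.Lib.TC.D.Fi24a.P322.ok
theorem allP323 : pt.chkRange rels 0 124416 = true := PT.chkRange_join (lo := 0) (a := 124032) (b := 384) _ allP322 Cfsg.Agent.Lib.TC.D.Fi24a.P323.ok
theorem allP324 : pt.chkRange rels 0 124800 = true := PT.chkRange_join (lo := 0) (a := 124416) (b := 384) _ allP323 Cfsg.Agent.Lib.TC.D.Fi24a.P324.ok
theorem allP325 : pt.chkRange rels 0 125184 = true := PT.chkRange_join (lo := 0) (a := 124800) (b := 384) _ allP324 Cfsg.Agent.Lib.TC.D.Fi24a.P325.ok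
theorem allP326 : pt.chkRange rels 0 125568 = true := PT.chkRange_join (lo := 0) (a := 125184) (b := 384) _ allP325 Cfsg.Agent.Lib.TC.D.Fi24a.P326.ok
theorem allP327 : pt.chkRange rels 0 125952 = true := PT.chkRange_join (lo := 0) (a := 125568) (b := 384) _ allP326 Cfsg.Agent.Lib.TC.D.Fi24a.P327.ok
theorem allP328 : pt.chkRange rels 0 126336 = true := PT.chkRange_join (lo := 0) (a := 125952) (b := 384) _ allP327 Cfsg.Agent.Lib.TC.D.Fi24a.P328.ok
theorem allP329 : pt.chkRange rels 0 126720 = true := PT.chkRange_join (lo := 0) (a := 126336) (b := 384) _ allP328 Cfsg.Agent.Lib.TC.D.Fi24a.P329.ok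
theorem allP330 : pt.chkRange rels 0 127104 = true := PT.chkRange_join (lo := 0) (a := 126720) (b := 384) _ allP329 Cfsg.Agent.Lib.TC.D.Fi24a.P330.ok
theorem allP331 : pt.chkRange rels 0 127488 = true := PT.chkRange_join (lo := 0) (a := 127104) (b := 384) _ allP330 Cfsg.Agent.Lib.TC.D.Fi24a.P331.ok
theorem allP332 : pt.chkRange rels 0 127872 = true := PT.chkRange_join (lo := 0) (a := 127488) (b := 384) _ allP331 Cfsg.Agent.Lib.TC.D.Fi24a.P332.ok
theorem allP333 : pt.chkRange rels 0 128256 = true := PT.chkRange_join (lo := 0) (a := 127872) (b := 384) _ allP332 Cfsg.Agent.Lib.TC.D.Fi24a.P333.ok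
theorem allP334 : pt.chkRange rels 0 128640 = true := PT.chkRange_join (lo := 0) (a := 128256) (b := 384) _ allP333 Cfsg.Agent.Lib.TC.D.Fi24a.P334.ok
theorem allP335 : pt.chkRange rels 0 129024 = true := PT.chkRange_join (lo := 0) (a := 128640) (b := 384) _ allP334 Cfsg.Agent.Lib.TC.D.Fi24a.P335.ok
theorem allP336 : pt.chkRange rels 0 129408 = true := PT.chkRange_join (lo := 0) (a := 129024) (b := 384) _ allP335 Cfsg.Agent.Lib.TC.D.Fi24a.P336.ok
theorem allP337 : pt.chkRange rels 0 129792 = true := PT.chkRange_join (lo := 0) (a := 129408) (b := 384) _ allP336 Cfsg.Agent.Lib.TC.D.Fi24a.P337.ok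
theorem allP338 : pt.chkRange rels 0 130176 = true := PT.chkRange_join (lo := 0) (a := 129792) (b := 384) _ allP337 Cfsg.Agent.Lib.TC.D.Fi24a.P338.ok
theorem allP339 : pt.chkRange rels 0 130560 = true := PT.chkRange_join (lo := 0) (a := 130176) (b := 384) _ allP338 Cfsg.Agent.Lib.TC.D.Fi24a.P339.ok
theorem allP340 : pt.chkRange rels 0 130944 = true := PT.chkRange_join (lo := 0) (a := 130560) (b := 384) _ allP339 Cfsg.Agent.Lib.TC.D.Fi24a.P340.ok
theorem allP341 : pt.chkRange rels 0 131328 = true := PT.chkRange_join (lo := 0) (a := 130944) (b := 384) _ allP340 Cfsg.Agent.Lib.TC.D.Fi24a.P341.ok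
theorem allP342 : pt.chkRange rels 0 131712 = true := PT.chkRange_join (lo := 0) (a := 131328) (b := 384) _ allP341 Cfsg.Agent.Lib.TC.D.Fi24a.P342.ok
theorem allP343 : pt.chkRange rels 0 132096 = true := PT.chkRange_join (lo := 0) (a := 131712) (b := 384) _ allP342 Cfsg.Agent.Lib.TC.D.Fi24a.P343.ok
theorem allP344 : pt.chkRange rels 0 132480 = true := PT.chkRange_join (lo := 0) (a := 132096) (b := 384) _ allP343 Cfsg.Agent.Lib.TC.D.Fi24a.P344.ok
theorem allP345 : pt.chkRange rels 0 132864 = true := PT.chkRange_join (lo := 0) (a := 132480) (b := 384) _ allP344 Cfsg.Agent.Lib.TC.D.Fi24a.P345.ok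
theorem allP346 : pt.chkRange rels 0 133248 = true := PT.chkRange_join (lo := 0) (a := 132864) (b := 384) _ allP345 Cfsg.Agent.Lib.TC.D.Fi24a.P346.ok
theorem allP347 : pt.chkRange rels 0 133632 = true := PT.chkRange_join (lo := 0) (a := 133248) (b := 384) _ allP346 Cfsg.Agent.Lib.TC.D.Fi24a.P347.ok
theorem allP348 : pt.chkRange rels 0 134016 = true := PT.chkRange_join (lo := 0) (a := 133632) (b := 384) _ allP347 Cfsg.Agent.Lib.TC.D.Fi24a.P348.ok
theorem allP349 : pt.chkRange rels 0 134400 = true := PT.chkRange_join (lo := 0) (a := 134016) (b := 384) _ allP348 Cfsg.Agent.Lib.TC.D.Fi24a.P349.ok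
theorem allP350 : pt.chkRange rels 0 134784 = true := PT.chkRange_join (lo := 0) (a := 134400) (b := 384) _ allP349 Cfsg.Agent.Lib.TC.D.Fi24a.P350.ok
theorem allP351 : pt.chkRange rels 0 135168 = true := PT.chkRange_join (lo := 0) (a := 134784) (b := 384) _ allP350 Cfsg.Agent.Lib.TC.D.Fi24a.P351.ok
theorem allP352 : pt.chkRange rels 0 135552 = true := PT.chkRange_join (lo := 0) (a := 135168) (b := 384) _ allP351 Cfsg.Agent.Lib.TC.D.Fi24a.P352.ok
theorem allP353 : pt.chkRange rels 0 135936 = true := PT.chkRange_join (lo := 0) (a := 135552) (b := 384) _ allP352 Cfsg.Agent.Lib.TC.D.Fi24a.P353.ok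
theorem allP354 : pt.chkRange rels 0 136320 = true := PT.chkRange_join (lo := 0) (a := 135936) (b := 384) _ allP353 Cfsg.Agent.Lib.TC.D.Fi24a.P354.ok
theorem allP355 : pt.chkRange rels 0 136704 = true := PT.chkRange_join (lo := 0) (a := 136320) (b := 384) _ allP354 Cfsg.Agent.Lib.TC.D.Fi24a.P355.ok
theorem allP356 : pt.chkRange rels 0 137088 = true := PT.chkRange_join (lo := 0) (a := 136704) (b := 384) _ allP355 Cfsg.Agent.Lib.TC.D.Fi24a.P356.ok
theorem allP357 : pt.chkRange rels 0 137472 = true := PT.chkRange_join (lo := 0) (a := 137088) (b := 384) _ allP356 Cfsg.Agent.Lib.TC.D.Fi24a.P357.ok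
theorem allP358 : pt.chkRange rels 0 137856 = true := PT.chkRange_join (lo := 0) (a := 137472) (b := 384) _ allP357 Cfsg.Agent.Lib.TC.D.Fi24a.P358.ok
theorem allP359 : pt.chkRange rels 0 138240 = true := PT.chkRange_join (lo := 0) (a := 137856) (b := 384) _ allP358 Cfsg.Agent.Lib.TC.D.Fi24a.P359.ok
theorem allP360 : pt.chkRange rels 0 138624 = true := PT.chkRange_join (lo := 0) (a := 138240) (b := 384) _ allP359 Cfsg.Agent.Lib.TC.D.Fi24a.P360.ok
theorem allP361 : pt.chkRange rels 0 139008 = true := PT.chkRange_join (lo := 0) (a := 138624) (b := 384) _ allP360 Cfsg.Agent.Lib.TC.D.Fi24a.P361.ok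
theorem allP362 : pt.chkRange rels 0 139392 = true := PT.chkRange_join (lo := 0) (a := 139008) (b := 384) _ allP361 Cfsg.Agent.Lib.TC.D.Fi24a.P362.ok
theorem allP363 : pt.chkRange rels 0 139776 = true := PT.chkRange_join (lo := 0) (a := 139392) (b := 384) _ allP362 Cfsg.Agent.Lib.TC.D.Fi24a.P363.ok
theorem allP364 : pt.chkRange rels 0 140160 = true := PT.chkRange_join (lo := 0) (a := 139776) (b := 384) _ allP363 Cfsg.Agent.Lib.TC.D.Fi24a.P364.ok
theorem allP365 : pt.chkRange rels 0 140544 = true := PT.chkRange_join (lo := 0) (a := 140160) (b := 384) _ allP364 Cfsg.Agent.Lib.TC.D.Fi24a.P365.ok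
theorem allP366 : pt.chkRange rels 0 140928 = true := PT.chkRange_join (lo := 0) (a := 140544) (b := 384) _ allP365 Cfsg.Agent.Lib.TC.D.Fi24a.P366.ok
theorem allP367 : pt.chkRange rels 0 141312 = true := PT.chkRange_join (lo := 0) (a := 140928) (b := 384) _ allP366 Cfsg.Agent.Lib.TC.D.Fi24a.P367.ok
theorem allP368 : pt.chkRange rels 0 141696 = true := PT.chkRange_join (lo := 0) (a := 141312) (b := 384) _ allP367 Cfsg.Agent.Lib.TC.D.Fi24a.P368.ok
theorem allP369 : pt.chkRange rels 0 142080 = true := PT.chkRange_join (lo := 0) (a := 141696) (b := 384) _ allP368 Cfsg.Agent.Lib.TC.D.Fi24a.P369.ok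
theorem allP370 : pt.chkRange rels 0 142464 = true := PT.chkRange_join (lo := 0) (a := 142080) (b := 384) _ allP369 Cfsg.Agent.Lib.TC.D.Fi24a.P370.ok
theorem allP371 : pt.chkRange rels 0 142848 = true := PT.chkRange_join (lo := 0) (a := 142464) (b := 384) _ allP370 Cfsg.Agent.Lib.TC.D.Fi24a.P371.ok
theorem allP372 : pt.chkRange rels 0 143232 = true := PT.chkRange_join (lo := 0) (a := 142848) (b := 384) _ allP371 Cfsg.Agent.Lib.TC.D.Fi24a.P372.ok
theorem allP373 : pt.chkRange rels 0 143616 = true := PT.chkRange_join (lo := 0) (a := 143232) (b := 384) _ allP372 Cfsg.Agent.Lib.TC.D.Fi24a.P373.ok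
theorem allP374 : pt.chkRange rels 0 144000 = true := PT.chkRange_join (lo := 0) (a := 143616) (b := 384) _ allP373 Cfsg.Agent.Lib.TC.D.Fi24a.P374.ok
theorem allP375 : pt.chkRange rels 0 144384 = true := PT.chkRange_join (lo := 0) (a := 144000) (b := 384) _ allP374 Cfsg.Agent.Lib.TC.D.Fi24a.P375.ok
theorem allP376 : pt.chkRange rels 0 144768 = true := PT.chkRange_join (lo := 0) (a := 144384) (b := 384) _ allP375 Cfsg.Agent.Lib.TC.D.Fi24a.P376.ok
theorem allP377 : pt.chkRange rels 0 145152 = true := PT.chkRange_join (lo := 0) (a := 144768) (b := 384) _ allP376 Cfsg.Agent.Lib.TC.D.Fi24a.P377.ok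
theorem allP378 : pt.chkRange rels 0 145536 = true := PT.chkRange_join (lo := 0) (a := 145152) (b := 384) _ allP377 Cfsg.Agent.Lib.TC.D.Fi24a.P378.ok
theorem allP379 : pt.chkRange rels 0 145920 = true := PT.chkRange_join (lo := 0) (a := 145536) (b := 384) _ allP378 Cfsg.Agent.Lib.TC.D.Fi24a.P379.ok
theorem allP380 : pt.chkRange rels 0 146304 = true := PT.chkRange_join (lo := 0) (a := 145920) (b := 384) _ allP379 Cfsg.Agent.Lib.TC.D.Fi24a.P380.ok
theorem allP381 : pt.chkRange rels 0 146688 = true := PT.chkRange_join (lo := 0) (a := 146304) (b := 384) _ allP380 Cfsg.Agent.Lib.TC.D.Fi24a.P381.ok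
theorem allP382 : pt.chkRange rels 0 147072 = true := PT.chkRange_join (lo := 0) (a := 146688) (b := 384) _ allP381 Cfsg.Agent.Lib.TC.D.Fi24a.P382.ok
theorem allP383 : pt.chkRange rels 0 147456 = true := PT.chkRange_join (lo := 0) (a := 147072) (b := 384) _ allP382 Cfsg.Agent.Lib.TC.D.Fi24a.P383.ok
theorem allP384 : pt.chkRange rels 0 147840 = true := PT.chkRange_join (lo := 0) (a := 147456) (b := 384) _ allP383 Cfsg.Agent.Lib.TC.D.Fi24a.P384.ok
theorem allP385 : pt.chkRange rels 0 148224 = true := PT.chkRange_join (lo := 0) (a := 147840) (b := 384) _ allP384 Cfsg.Agent.Lib.TC.D.Fi24a.P385.ok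
theorem allP386 : pt.chkRange rels 0 148608 = true := PT.chkRange_join (lo := 0) (a := 148224) (b := 384) _ allP385 Cfsg.Agent.Lib.TC.D.Fi24a.P386.ok
theorem allP387 : pt.chkRange rels 0 148992 = true := PT.chkRange_join (lo := 0) (a := 148608) (b := 384) _ allP386 Cfsg.Agent.Lib.TC.D.Fi24a.P387.ok
theorem allP388 : pt.chkRange rels 0 149376 = true := PT.chkRange_join (lo := 0) (a := 148992) (b := 384) _ allP387 Cfsg.Agent.Lib.TC.D.Fi24a.P388.ok
theorem allP389 : pt.chkRange rels 0 149760 = true := PT.chkRange_join (lo := 0) (a := 149376) (b := 384) _ allP388 Cfsg.Agent.Lib.TC.D.Fi24a.P389.ok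
theorem allP390 : pt.chkRange rels 0 150144 = true := PT.chkRange_join (lo := 0) (a := 149760) (b := 384) _ allP389 Cfsg.Agent.Lib.TC.D.Fi24a.P390.ok
theorem allP391 : pt.chkRange rels 0 150528 = true := PT.chkRange_join (lo := 0) (a := 150144) (b := 384) _ allP390 Cfsg.Agent.Lib.TC.D.Fi24a.P391.ok
theorem allP392 : pt.chkRange rels 0 150912 = true := PT.chkRange_join (lo := 0) (a := 150528) (b := 384) _ allP391 Cfsg.Agent.Lib.TC.D.Fi24a.P392.ok
theorem allP393 : pt.chkRange rels 0 151296 = true := PT.chkRange_join (lo := 0) (a := 150912) (b := 384) _ allP392 Cfsg.Agent.Lib.TC.D.Fi24a.P393.ok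
theorem allP394 : pt.chkRange rels 0 151680 = true := PT.chkRange_join (lo := 0) (a := 151296) (b := 384) _ allP393 Cfsg.Agent.Lib.TC.D.Fi24a.P394.ok
theorem allP395 : pt.chkRange rels 0 152064 = true := PT.chkRange_join (lo := 0) (a := 151680) (b := 384) _ allP394 Cfsg.Agent.Lib.TC.D.Fi24a.P395.ok
theorem allP396 : pt.chkRange rels 0 152448 = true := PT.chkRange_join (lo := 0) (a := 152064) (b := 384) _ allP395 Cfsg.Agent.Lib.TC.D.Fi24a.P396.ok
theorem allP397 : pt.chkRange rels 0 152832 = true := PT.chkRange_join (lo := 0) (a := 152448) (b := 384) _ allP396 Cfsg.Agent.Lib.TC.D.Fi24a.P397.ok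
theorem allP398 : pt.chkRange rels 0 153216 = true := PT.chkRange_join (lo := 0) (a := 152832) (b := 384) _ allP397 Cfsg.Agent.Lib.TC.D.Fi24a.P398.ok
theorem allP399 : pt.chkRange rels 0 153600 = true := PT.chkRange_join (lo := 0) (a := 153216) (b := 384) _ allP398 Cfsg.Agent.Lib.TC.D.Fi24a.P399.ok
theorem allP400 : pt.chkRange rels 0 153984 = true := PT.chkRange_join (lo := 0) (a := 153600) (b := 384) _ allP399 Cfsg.Agent.Lib.TC.D.Fi24a.P400.ok
theorem allP401 : pt.chkRange rels 0 154368 = true := PT.chkRange_join (lo := 0) (a := 153984) (b := 384) _ allP400 Cfsg.Agent.Lib.TC.D.Fi24a.P401.ok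
theorem allP402 : pt.chkRange rels 0 154752 = true := PT.chkRange_join (lo := 0) (a := 154368) (b := 384) _ allP401 Cfsg.Agent.Lib.TC.D.Fi24a.P402.ok
theorem allP403 : pt.chkRange rels 0 155136 = true := PT.chkRange_join (lo := 0) (a := 154752) (b := 384) _ allP402 Cfsg.Agent.Lib.TC.D.Fi24a.P403.ok
theorem allP404 : pt.chkRange rels 0 155520 = true := PT.chkRange_join (lo := 0) (a := 155136) (b := 384) _ allP403 Cfsg.Agent.Lib.TC.D.Fi24a.P404.ok
theorem allP405 : pt.chkRange rels 0 155904 = true := PT.chkRange_join (lo := 0) (a := 155520) (b := 384) _ allP404 Cfsg.Agent.Lib.TC.D.Fi24a.P405.ok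
theorem allP406 : pt.chkRange rels 0 156288 = true := PT.chkRange_join (lo := 0) (a := 155904) (b := 384) _ allP405 Cfsg.Agent.Lib.TC.D.Fi24a.P406.ok
theorem allP407 : pt.chkRange rels 0 156672 = true := PT.chkRange_join (lo := 0) (a := 156288) (b := 384) _ allP406 Cfsg.Agent.Lib.TC.D.Fi24a.P407.ok
theorem allP408 : pt.chkRange rels 0 157056 = true := PT.chkRange_join (lo := 0) (a := 156672) (b := 384) _ allP407 Cfsg.Agent.Lib.TC.D.Fi24a.P408.ok
theorem allP409 : pt.chkRange rels 0 157440 = true := PT.chkRange_join (lo := 0) (a := 157056) (b := 384) _ allP408 Cfsg.Agent.Lib.TC.D.Fi24a.P409.ok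
theorem allP410 : pt.chkRange rels 0 157824 = true := PT.chkRange_join (lo := 0) (a := 157440) (b := 384) _ allP409 Cfsg.Agent.Lib.TC.D.Fi24a.P410.ok
theorem allP411 : pt.chkRange rels 0 158208 = true := PT.chkRange_join (lo := 0) (a := 157824) (b := 384) _ allP410 Cfsg.Agent.Lib.TC.D.Fi24a.P411.ok
theorem allP412 : pt.chkRange rels 0 158592 = true := PT.chkRange_join (lo := 0) (a := 158208) (b := 384) _ allP411 Cfsg.Agent.Lib.TC.D.Fi24a.P412.ok
theorem allP413 : pt.chkRange rels 0 158976 = true := PT.chkRange_join (lo := 0) (a := 158592) (b := 384) _ allP412 Cfsg.Agent.Lib.TC.D.Fi24a.P413.ok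
theorem allP414 : pt.chkRange rels 0 159360 = true := PT.chkRange_join (lo := 0) (a := 158976) (b := 384) _ allP413 Cfsg.Agent.Lib.TC.D.Fi24a.P414.ok
theorem allP415 : pt.chkRange rels 0 159744 = true := PT.chkRange_join (lo := 0) (a := 159360) (b := 384) _ allP414 Cfsg.Agent.Lib.TC.D.Fi24a.P415.ok
theorem allP416 : pt.chkRange rels 0 160128 = true := PT.chkRange_join (lo := 0) (a := 159744) (b := 384) _ allP415 Cfsg.Agent.Lib.TC.D.Fi24a.P416.ok
theorem allP417 : pt.chkRange rels 0 160512 = true := PT.chkRange_join (lo := 0) (a := 160128) (b := 384) _ allP416 Cfsg.Agent.Lib.TC.D.Fi24a.P417.ok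
theorem allP418 : pt.chkRange rels 0 160896 = true := PT.chkRange_join (lo := 0) (a := 160512) (b := 384) _ allP417 Cfsg.Agent.Lib.TC.D.Fi24a.P418.ok
theorem allP419 : pt.chkRange rels 0 161280 = true := PT.chkRange_join (lo := 0) (a := 160896) (b := 384) _ allP418 Cfsg.Agent.Lib.TC.D.Fi24a.P419.ok
theorem allP420 : pt.chkRange rels 0 161664 = true := PT.chkRange_join (lo := 0) (a := 161280) (b := 384) _ allP419 Cfsg.Agent.Lib.TC.D.Fi24a.P420.ok
theorem allP421 : pt.chkRange rels 0 162048 = true := PT.chkRange_join (lo := 0) (a := 161664) (b := 384) _ allP420 Cfsg.Agent.Lib.TC.D.Fi24a.P421.ok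
theorem allP422 : pt.chkRange rels 0 162432 = true := PT.chkRange_join (lo := 0) (a := 162048) (b := 384) _ allP421 Cfsg.Agent.Lib.TC.D.Fi24a.P422.ok
theorem allP423 : pt.chkRange rels 0 162816 = true := PT.chkRange_join (lo := 0) (a := 162432) (b := 384) _ allP422 Cfsg.Agent.Lib.TC.D.Fi24a.P423.ok
theorem allP424 : pt.chkRange rels 0 163200 = true := PT.chkRange_join (lo := 0) (a := 162816) (b := 384) _ allP423 Cfsg.Agent.Lib.TC.D.Fi24a.P424.ok
theorem allP425 : pt.chkRange rels 0 163584 = true := PT.chkRange_join (lo := 0) (a := 163200) (b := 384) _ allP424 Cfsg.Agent.Lib.TC.D.Fi24a.P425.ok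
theorem allP426 : pt.chkRange rels 0 163968 = true := PT.chkRange_join (lo := 0) (a := 163584) (b := 384) _ allP425 Cfsg.Agent.Lib.TC.D.Fi24a.P426.ok
theorem allP427 : pt.chkRange rels 0 164352 = true := PT.chkRange_join (lo := 0) (a := 163968) (b := 384) _ allP426 Cfsg.Agent.Lib.TC.D.Fi24a.P427.ok
theorem allP428 : pt.chkRange rels 0 164736 = true := PT.chkRange_join (lo := 0) (a := 164352) (b := 384) _ allP427 Cfsg.Agent.Lib.TC.D.Fi24a.P428.ok
theorem allP429 : pt.chkRange rels 0 165120 = true := PT.chkRange_join (lo := 0) (a := 164736) (b := 384) _ allP428 Cfsg.Agent.Lib.TC.D.Fi24a.P429.ok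
theorem allP430 : pt.chkRange rels 0 165504 = true := PT.chkRange_join (lo := 0) (a := 165120) (b := 384) _ allP429 Cfsg.Agent.Lib.TC.D.Fi24a.P430.ok
theorem allP431 : pt.chkRange rels 0 165888 = true := PT.chkRange_join (lo := 0) (a := 165504) (b := 384) _ allP430 Cfsg.Agent.Lib.TC.D.Fi24a.P431.ok
theorem allP432 : pt.chkRange rels 0 166272 = true := PT.chkRange_join (lo := 0) (a := 165888) (b := 384) _ allP431 Cfsg.Agent.Lib.TC.D.Fi24a.P432.ok
theorem allP433 : pt.chkRange rels 0 166656 = true := PT.chkRange_join (lo := 0) (a := 166272) (b := 384) _ allP432 Cfsg.Agent.Lib.TC.D.Fi24a.P433.ok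
theorem allP434 : pt.chkRange rels 0 167040 = true := PT.chkRange_join (lo := 0) (a := 166656) (b := 384) _ allP433 Cfsg.Agent.Lib.TC.D.Fi24a.P434.ok
theorem allP435 : pt.chkRange rels 0 167424 = true := PT.chkRange_join (lo := 0) (a := 167040) (b := 384) _ allP434 Cfsg.Agent.Lib.TC.D.Fi24a.P435.ok
theorem allP436 : pt.chkRange rels 0 167808 = true := PT.chkRange_join (lo := 0) (a := 167424) (b := 384) _ allP435 Cfsg.Agent.Lib.TC.D.Fi24a.P436.ok
theorem allP437 : pt.chkRange rels 0 168192 = true := PT.chkRange_join (lo := 0) (a := 167808) (b := 384) _ allP436 Cfsg.Agent.Lib.TC.D.Fi24a.P437.ok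
theorem allP438 : pt.chkRange rels 0 168576 = true := PT.chkRange_join (lo := 0) (a := 168192) (b := 384) _ allP437 Cfsg.Agent.Lib.TC.D.Fi24a.P438.ok
theorem allP439 : pt.chkRange rels 0 168960 = true := PT.chkRange_join (lo := 0) (a := 168576) (b := 384) _ allP438 Cfsg.Agent.Lib.TC.D.Fi24a.P439.ok
theorem allP440 : pt.chkRange rels 0 169344 = true := PT.chkRange_join (lo := 0) (a := 168960) (b := 384) _ allP439 Cfsg.Agent.Lib.TC.D.Fi24a.P440.ok
theorem allP441 : pt.chkRange rels 0 169728 = true := PT.chkRange_join (lo := 0) (a := 169344) (b := 384) _ allP440 Cfsg.Agent.Lib.TC.D.Fi24a.P441.ok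
theorem allP442 : pt.chkRange rels 0 170112 = true := PT.chkRange_join (lo := 0) (a := 169728) (b := 384) _ allP441 Cfsg.Agent.Lib.TC.D.Fi24a.P442.ok
theorem allP443 : pt.chkRange rels 0 170496 = true := PT.chkRange_join (lo := 0) (a := 170112) (b := 384) _ allP442 Cfsg.Agent.Lib.TC.D.Fi24a.P443.ok
theorem allP444 : pt.chkRange rels 0 170880 = true := PT.chkRange_join (lo := 0) (a := 170496) (b := 384) _ allP443 Cfsg.Agent.Lib.TC.D.Fi24a.P444.ok
theorem allP445 : pt.chkRange rels 0 171264 = true := PT.chkRange_join (lo := 0) (a := 170880) (b := 384) _ allP444 Cfsg.Agent.Lib.TC.D.Fi24a.P445.ok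
theorem allP446 : pt.chkRange rels 0 171648 = true := PT.chkRange_join (lo := 0) (a := 171264) (b := 384) _ allP445 Cfsg.Agent.Lib.TC.D.Fi24a.P446.ok
theorem allP447 : pt.chkRange rels 0 172032 = true := PT.chkRange_join (lo := 0) (a := 171648) (b := 384) _ allP446 Cfsg.Agent.Lib.TC.D.Fi24a.P447.ok
theorem allP448 : pt.chkRange rels 0 172416 = true := PT.chkRange_join (lo := 0) (a := 172032) (b := 384) _ allP447 Cfsg.Agent.Lib.TC.D.Fi24a.P448.ok
theorem allP449 : pt.chkRange rels 0 172800 = true := PT.chkRange_join (lo := 0) (a := 172416) (b := 384) _ allP448 Cfsg.Agent.Lib.TC.D.Fi24a.P449.ok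
theorem allP450 : pt.chkRange rels 0 173184 = true := PT.chkRange_join (lo := 0) (a := 172800) (b := 384) _ allP449 Cfsg.Agent.Lib.TC.D.Fi24a.P450.ok
theorem allP451 : pt.chkRange rels 0 173568 = true := PT.chkRange_join (lo := 0) (a := 173184) (b := 384) _ allP450 Cfsg.Agent.Lib.TC.D.Fi24a.P451.ok
theorem allP452 : pt.chkRange rels 0 173952 = true := PT.chkRange_join (lo := 0) (a := 173568) (b := 384) _ allP451 Cfsg.Agent.Lib.TC.D.Fi24a.P452.ok
theorem allP453 : pt.chkRange rels 0 174336 = true := PT.chkRange_join (lo := 0) (a := 173952) (b := 384) _ allP452 Cfsg.Agent.Lib.TC.D.Fi24a.P453.ok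
theorem allP454 : pt.chkRange rels 0 174720 = true := PT.chkRange_join (lo := 0) (a := 174336) (b := 384) _ allP453 Cfsg.Agent.Lib.TC.D.Fi24a.P454.ok
theorem allP455 : pt.chkRange rels 0 175104 = true := PT.chkRange_join (lo := 0) (a := 174720) (b := 384) _ allP454 Cfsg.Agent.Lib.TC.D.Fi24a.P455.ok
theorem allP456 : pt.chkRange rels 0 175488 = true := PT.chkRange_join (lo := 0) (a := 175104) (b := 384) _ allP455 Cfsg.Agent.Lib.TC.D.Fi24a.P456.ok
theorem allP457 : pt.chkRange rels 0 175872 = true := PT.chkRange_join (lo := 0) (a := 175488) (b := 384) _ allP456 Cfsg.Agent.Lib.TC.D.Fi24a.P457.ok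
theorem allP458 : pt.chkRange rels 0 176256 = true := PT.chkRange_join (lo := 0) (a := 175872) (b := 384) _ allP457 Cfsg.Agent.Lib.TC.D.Fi24a.P458.ok
theorem allP459 : pt.chkRange rels 0 176640 = true := PT.chkRange_join (lo := 0) (a := 176256) (b := 384) _ allP458 Cfsg.Agent.Lib.TC.D.Fi24a.P459.ok
theorem allP460 : pt.chkRange rels 0 177024 = true := PT.chkRange_join (lo := 0) (a := 176640) (b := 384) _ allP459 Cfsg.Agent.Lib.TC.D.Fi24a.P460.ok
theorem allP461 : pt.chkRange rels 0 177408 = true := PT.chkRange_join (lo := 0) (a := 177024) (b := 384) _ allP460 Cfsg.Agent.Lib.TC.D.Fi24a.P461.ok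
theorem allP462 : pt.chkRange rels 0 177792 = true := PT.chkRange_join (lo := 0) (a := 177408) (b := 384) _ allP461 Cfsg.Agent.Lib.TC.D.Fi24a.P462.ok
theorem allP463 : pt.chkRange rels 0 178176 = true := PT.chkRange_join (lo := 0) (a := 177792) (b := 384) _ allP462 Cfsg.Agent.Lib.TC.D.Fi24a.P463.ok
theorem allP464 : pt.chkRange rels 0 178560 = true := PT.chkRange_join (lo := 0) (a := 178176) (b := 384) _ allP463 Cfsg.Agent.Lib.TC.D.Fi24a.P464.ok
theorem allP465 : pt.chkRange rels 0 178944 = true := PT.chkRange_join (lo := 0) (a := 178560) (b := 384) _ allP464 Cfsg.Agent.Lib.TC.D.Fi24a.P465.ok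
theorem allP466 : pt.chkRange rels 0 179328 = true := PT.chkRange_join (lo := 0) (a := 178944) (b := 384) _ allP465 Cfsg.Agent.Lib.TC.D.Fi24a.P466.ok
theorem allP467 : pt.chkRange rels 0 179712 = true := PT.chkRange_join (lo := 0) (a := 179328) (b := 384) _ allP466 Cfsg.Agent.Lib.TC.D.Fi24a.P467.ok
theorem allP468 : pt.chkRange rels 0 180096 = true := PT.chkRange_join (lo := 0) (a := 179712) (b := 384) _ allP467 Cfsg.Agent.Lib.TC.D.Fi24a.P468.ok
theorem allP469 : pt.chkRange rels 0 180480 = true := PT.chkRange_join (lo := 0) (a := 180096) (b := 384) _ allP468 Cfsg.Agent.Lib.TC.D.Fi24a.P469.ok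
theorem allP470 : pt.chkRange rels 0 180864 = true := PT.chkRange_join (lo := 0) (a := 180480) (b := 384) _ allP469 Cfsg.Agent.Lib.TC.D.Fi24a.P470.ok
theorem allP471 : pt.chkRange rels 0 181248 = true := PT.chkRange_join (lo := 0) (a := 180864) (b := 384) _ allP470 Cfsg.Agent.Lib.TC.D.Fi24a.P471.ok
theorem allP472 : pt.chkRange rels 0 181632 = true := PT.chkRange_join (lo := 0) (a := 181248) (b := 384) _ allP471 Cfsg.Agent.Lib.TC.D.Fi24a.P472.ok
theorem allP473 : pt.chkRange rels 0 182016 = true := PT.chkRange_join (lo := 0) (a := 181632) (b := 384) _ allP472 Cfsg.Agent.Lib.TC.D.Fi24a.P473.ok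
theorem allP474 : pt.chkRange rels 0 182400 = true := PT.chkRange_join (lo := 0) (a := 182016) (b := 384) _ allP473 Cfsg.Agent.Lib.TC.D.Fi24a.P474.ok
theorem allP475 : pt.chkRange rels 0 182784 = true := PT.chkRange_join (lo := 0) (a := 182400) (b := 384) _ allP474 Cfsg.Agent.Lib.TC.D.Fi24a.P475.ok
theorem allP476 : pt.chkRange rels 0 183168 = true := PT.chkRange_join (lo := 0) (a := 182784) (b := 384) _ allP475 Cfsg.Agent.Lib.TC.D.Fi24a.P476.ok
theorem allP477 : pt.chkRange rels 0 183552 = true := PT.chkRange_join (lo := 0) (a := 183168) (b := 384) _ allP476 Cfsg.Agent.Lib.TC.D.Fi24a.P477.ok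
theorem allP478 : pt.chkRange rels 0 183936 = true := PT.chkRange_join (lo := 0) (a := 183552) (b := 384) _ allP477 Cfsg.Agent.Lib.TC.D.Fi24a.P478.ok
theorem allP479 : pt.chkRange rels 0 184320 = true := PT.chkRange_join (lo := 0) (a := 183936) (b := 384) _ allP478 Cfsg.Agent.Lib.TC.D.Fi24a.P479.ok
theorem allP480 : pt.chkRange rels 0 184704 = true := PT.chkRange_join (lo := 0) (a := 184320) (b := 384) _ allP479 Cfsg.Agent.Lib.TC.D.Fi24a.P480.ok
theorem allP481 : pt.chkRange rels 0 185088 = true := PT.chkRange_join (lo := 0) (a := 184704) (b := 384) _ allP480 Cfsg.Agent.Lib.TC.D.Fi24a.P481.ok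
theorem allP482 : pt.chkRange rels 0 185472 = true := PT.chkRange_join (lo := 0) (a := 185088) (b := 384) _ allP481 Cfsg.Agent.Lib.TC.D.Fi24a.P482.ok
theorem allP483 : pt.chkRange rels 0 185856 = true := PT.chkRange_join (lo := 0) (a := 185472) (b := 384) _ allP482 Cfsg.Agent.Lib.TC.D.Fi24a.P483.ok
theorem allP484 : pt.chkRange rels 0 186240 = true := PT.chkRange_join (lo := 0) (a := 185856) (b := 384) _ allP483 Cfsg.Agent.Lib.TC.D.Fi24a.P484.ok
theorem allP485 : pt.chkRange rels 0 186624 = true := PT.chkRange_join (lo := 0) (a := 186240) (b := 384) _ allP484 Cfsg.Agent.Lib.TC.D.Fi24a.P485.ok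
theorem allP486 : pt.chkRange rels 0 187008 = true := PT.chkRange_join (lo := 0) (a := 186624) (b := 384) _ allP485 Cfsg.Agent.Lib.TC.D.Fi24a.P486.ok
theorem allP487 : pt.chkRange rels 0 187392 = true := PT.chkRange_join (lo := 0) (a := 187008) (b := 384) _ allP486 Cfsg.Agent.Lib.TC.D.Fi24a.P487.ok
theorem allP488 : pt.chkRange rels 0 187776 = true := PT.chkRange_join (lo := 0) (a := 187392) (b := 384) _ allP487 Cfsg.Agent.Lib.TC.D.Fi24a.P488.ok
theorem allP489 : pt.chkRange rels 0 188160 = true := PT.chkRange_join (lo := 0) (a := 187776) (b := 384) _ allP488 Cfsg.Agent.Lib.TC.D.Fi24a.P489.ok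
theorem allP490 : pt.chkRange rels 0 188544 = true := PT.chkRange_join (lo := 0) (a := 188160) (b := 384) _ allP489 Cfsg.Agent.Lib.TC.D.Fi24a.P490.ok
theorem allP491 : pt.chkRange rels 0 188928 = true := PT.chkRange_join (lo := 0) (a := 188544) (b := 384) _ allP490 Cfsg.Agent.Lib.TC.D.Fi24a.P491.ok
theorem allP492 : pt.chkRange rels 0 189312 = true := PT.chkRange_join (lo := 0) (a := 188928) (b := 384) _ allP491 Cfsg.Agent.Lib.TC.D.Fi24a.P492.ok
theorem allP493 : pt.chkRange rels 0 189696 = true := PT.chkRange_join (lo := 0) (a := 189312) (b := 384) _ allP492 Cfsg.Agent.Lib.TC.D.Fi24a.P493.ok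
theorem allP494 : pt.chkRange rels 0 190080 = true := PT.chkRange_join (lo := 0) (a := 189696) (b := 384) _ allP493 Cfsg.Agent.Lib.TC.D.Fi24a.P494.ok
theorem allP495 : pt.chkRange rels 0 190464 = true := PT.chkRange_join (lo := 0) (a := 190080) (b := 384) _ allP494 Cfsg.Agent.Lib.TC.D.Fi24a.P495.ok
theorem allP496 : pt.chkRange rels 0 190848 = true := PT.chkRange_join (lo := 0) (a := 190464) (b := 384) _ allP495 Cfsg.Agent.Lib.TC.D.Fi24a.P496.ok
theorem allP497 : pt.chkRange rels 0 191232 = true := PT.chkRange_join (lo := 0) (a := 190848) (b := 384) _ allP496 Cfsg.Agent.Lib.TC.D.Fi24a.P497.ok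
theorem allP498 : pt.chkRange rels 0 191616 = true := PT.chkRange_join (lo := 0) (a := 191232) (b := 384) _ allP497 Cfsg.Agent.Lib.TC.D.Fi24a.P498.ok
theorem allP499 : pt.chkRange rels 0 192000 = true := PT.chkRange_join (lo := 0) (a := 191616) (b := 384) _ allP498 Cfsg.Agent.Lib.TC.D.Fi24a.P499.ok
theorem allP500 : pt.chkRange rels 0 192384 = true := PT.chkRange_join (lo := 0) (a := 192000) (b := 384) _ allP499 Cfsg.Agent.Lib.TC.D.Fi24a.P500.ok
theorem allP501 : pt.chkRange rels 0 192768 = true := PT.chkRange_join (lo := 0) (a := 192384) (b := 384) _ allP500 Cfsg.Agent.Lib.TC.D.Fi24a.P501.ok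
theorem allP502 : pt.chkRange rels 0 193152 = true := PT.chkRange_join (lo := 0) (a := 192768) (b := 384) _ allP501 Cfsg.Agent.Lib.TC.D.Fi24a.P502.ok
theorem allP503 : pt.chkRange rels 0 193536 = true := PT.chkRange_join (lo := 0) (a := 193152) (b := 384) _ allP502 Cfsg.Agent.Lib.TC.D.Fi24a.P503.ok
theorem allP504 : pt.chkRange rels 0 193920 = true := PT.chkRange_join (lo := 0) (a := 193536) (b := 384) _ allP503 Cfsg.Agent.Lib.TC.D.Fi24a.P504.ok
theorem allP505 : pt.chkRange rels 0 194304 = true := PT.chkRange_join (lo := 0) (a := 193920) (b := 384) _ allP504 Cfsg.Agent.Lib.TC.D.Fi24a.P505.ok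
theorem allP506 : pt.chkRange rels 0 194688 = true := PT.chkRange_join (lo := 0) (a := 194304) (b := 384) _ allP505 Cfsg.Agent.Lib.TC.D.Fi24a.P506.ok
theorem allP507 : pt.chkRange rels 0 195072 = true := PT.chkRange_join (lo := 0) (a := 194688) (b := 384) _ allP506 Cfsg.Agent.Lib.TC.D.Fi24a.P507.ok
theorem allP508 : pt.chkRange rels 0 195456 = true := PT.chkRange_join (lo := 0) (a := 195072) (b := 384) _ allP507 Cfsg.Agent.Lib.TC.D.Fi24a.P508.ok
theorem allP509 : pt.chkRange rels 0 195840 = true := PT.chkRange_join (lo := 0) (a := 195456) (b := 384) _ allP508 Cfsg.Agent.Lib.TC.D.Fi24a.P509.ok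
theorem allP510 : pt.chkRange rels 0 196224 = true := PT.chkRange_join (lo := 0) (a := 195840) (b := 384) _ allP509 Cfsg.Agent.Lib.TC.D.Fi24a.P510.ok
theorem allP511 : pt.chkRange rels 0 196608 = true := PT.chkRange_join (lo := 0) (a := 196224) (b := 384) _ allP510 Cfsg.Agent.Lib.TC.D.Fi24a.P511.ok
theorem allP512 : pt.chkRange rels 0 196992 = true := PT.chkRange_join (lo := 0) (a := 196608) (b := 384) _ allP511 Cfsg.Agent.Lib.TC.D.Fi24a.P512.ok
theorem allP513 : pt.chkRange rels 0 197376 = true := PT.chkRange_join (lo := 0) (a := 196992) (b := 384) _ allP512 Cfsg.Agent.Lib.TC.D.Fi24a.P513.ok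
theorem allP514 : pt.chkRange rels 0 197760 = true := PT.chkRange_join (lo := 0) (a := 197376) (b := 384) _ allP513 Cfsg.Agent.Lib.TC.D.Fi24a.P514.ok
theorem allP515 : pt.chkRange rels 0 198144 = true := PT.chkRange_join (lo := 0) (a := 197760) (b := 384) _ allP514 Cfsg.Agent.Lib.TC.D.Fi24a.P515.ok
theorem allP516 : pt.chkRange rels 0 198528 = true := PT.chkRange_join (lo := 0) (a := 198144) (b := 384) _ allP515 Cfsg.Agent.Lib.TC.D.Fi24a.P516.ok
theorem allP517 : pt.chkRange rels 0 198912 = true := PT.chkRange_join (lo := 0) (a := 198528) (b := 384) _ allP516 Cfsg.Agent.Lib.TC.D.Fi24a.P517.ok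
theorem allP518 : pt.chkRange rels 0 199296 = true := PT.chkRange_join (lo := 0) (a := 198912) (b := 384) _ allP517 Cfsg.Agent.Lib.TC.D.Fi24a.P518.ok
theorem allP519 : pt.chkRange rels 0 199680 = true := PT.chkRange_join (lo := 0) (a := 199296) (b := 384) _ allP518 Cfsg.Agent.Lib.TC.D.Fi24a.P519.ok
theorem allP520 : pt.chkRange rels 0 200064 = true := PT.chkRange_join (lo := 0) (a := 199680) (b := 384) _ allP519 Cfsg.Agent.Lib.TC.D.Fi24a.P520.ok
theorem allP521 : pt.chkRange rels 0 200448 = true := PT.chkRange_join (lo := 0) (a := 200064) (b := 384) _ allP520 Cfsg.Agent.Lib.TC.D.Fi24a.P521.ok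
theorem allP522 : pt.chkRange rels 0 200832 = true := PT.chkRange_join (lo := 0) (a := 200448) (b := 384) _ allP521 Cfsg.Agent.Lib.TC.D.Fi24a.P522.ok
theorem allP523 : pt.chkRange rels 0 201216 = true := PT.chkRange_join (lo := 0) (a := 200832) (b := 384) _ allP522 Cfsg.Agent.Lib.TC.D.Fi24a.P523.ok
theorem allP524 : pt.chkRange rels 0 201600 = true := PT.chkRange_join (lo := 0) (a := 201216) (b := 384) _ allP523 Cfsg.Agent.Lib.TC.D.Fi24a.P524.ok
theorem allP525 : pt.chkRange rels 0 201984 = true := PT.chkRange_join (lo := 0) (a := 201600) (b := 384) _ allP524 Cfsg.Agent.Lib.TC.D.Fi24a.P525.ok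
theorem allP526 : pt.chkRange rels 0 202368 = true := PT.chkRange_join (lo := 0) (a := 201984) (b := 384) _ allP525 Cfsg.Agent.Lib.TC.D.Fi24a.P526.ok
theorem allP527 : pt.chkRange rels 0 202752 = true := PT.chkRange_join (lo := 0) (a := 202368) (b := 384) _ allP526 Cfsg.Agent.Lib.TC.D.Fi24a.P527.ok
theorem allP528 : pt.chkRange rels 0 203136 = true := PT.chkRange_join (lo := 0) (a := 202752) (b := 384) _ allP527 Cfsg.Agent.Lib.TC.D.Fi24a.P528.ok
theorem allP529 : pt.chkRange rels 0 203520 = true := PT.chkRange_join (lo := 0) (a := 203136) (b := 384) _ allP528 Cfsg.Agent.Lib.TC.D.Fi24a.P529.ok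
theorem allP530 : pt.chkRange rels 0 203904 = true := PT.chkRange_join (lo := 0) (a := 203520) (b := 384) _ allP529 Cfsg.Agent.Lib.TC.D.Fi24a.P530.ok
theorem allP531 : pt.chkRange rels 0 204288 = true := PT.chkRange_join (lo := 0) (a := 203904) (b := 384) _ allP530 Cfsg.Agent.Lib.TC.D.Fi24a.P531.ok
theorem allP532 : pt.chkRange rels 0 204672 = true := PT.chkRange_join (lo := 0) (a := 204288) (b := 384) _ allP531 Cfsg.Agent.Lib.TC.D.Fi24a.P532.ok
theorem allP533 : pt.chkRange rels 0 205056 = true := PT.chkRange_join (lo := 0) (a := 204672) (b := 384) _ allP532 Cfsg.Agent.Lib.TC.D.Fi24a.P533.ok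
theorem allP534 : pt.chkRange rels 0 205440 = true := PT.chkRange_join (lo := 0) (a := 205056) (b := 384) _ allP533 Cfsg.Agent.Lib.TC.D.Fi24a.P534.ok
theorem allP535 : pt.chkRange rels 0 205824 = true := PT.chkRange_join (lo := 0) (a := 205440) (b := 384) _ allP534 Cfsg.Agent.Lib.TC.D.Fi24a.P535.ok
theorem allP536 : pt.chkRange rels 0 206208 = true := PT.chkRange_join (lo := 0) (a := 205824) (b := 384) _ allP535 Cfsg.Agent.Lib.TC.D.Fi24a.P536.ok
theorem allP537 : pt.chkRange rels 0 206592 = true := PT.chkRange_join (lo := 0) (a := 206208) (b := 384) _ allP536 Cfsg.Agent.Lib.TC.D.Fi24a.P537.ok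
theorem allP538 : pt.chkRange rels 0 206976 = true := PT.chkRange_join (lo := 0) (a := 206592) (b := 384) _ allP537 Cfsg.Agent.Lib.TC.D.Fi24a.P538.ok
theorem allP539 : pt.chkRange rels 0 207360 = true := PT.chkRange_join (lo := 0) (a := 206976) (b := 384) _ allP538 Cfsg.Agent.Lib.TC.D.Fi24a.P539.ok
theorem allP540 : pt.chkRange rels 0 207744 = true := PT.chkRange_join (lo := 0) (a := 207360) (b := 384) _ allP539 Cfsg.Agent.Lib.TC.D.Fi24a.P540.ok
theorem allP541 : pt.chkRange rels 0 208128 = true := PT.chkRange_join (lo := 0) (a := 207744) (b := 384) _ allP540 Cfsg.Agent.Lib.TC.D.Fi24a.P541.ok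
theorem allP542 : pt.chkRange rels 0 208512 = true := PT.chkRange_join (lo := 0) (a := 208128) (b := 384) _ allP541 Cfsg.Agent.Lib.TC.D.Fi24a.P542.ok
theorem allP543 : pt.chkRange rels 0 208896 = true := PT.chkRange_join (lo := 0) (a := 208512) (b := 384) _ allP542 Cfsg.Agent.Lib.TC.D.Fi24a.P543.ok
theorem allP544 : pt.chkRange rels 0 209280 = true := PT.chkRange_join (lo := 0) (a := 208896) (b := 384) _ allP543 Cfsg.Agent.Lib.TC.D.Fi24a.P544.ok
theorem allP545 : pt.chkRange rels 0 209664 = true := PT.chkRange_join (lo := 0) (a := 209280) (b := 384) _ allP544 Cfsg.Agent.Lib.TC.D.Fi24a.P545.ok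
theorem allP546 : pt.chkRange rels 0 210048 = true := PT.chkRange_join (lo := 0) (a := 209664) (b := 384) _ allP545 Cfsg.Agent.Lib.TC.D.Fi24a.P546.ok
theorem allP547 : pt.chkRange rels 0 210432 = true := PT.chkRange_join (lo := 0) (a := 210048) (b := 384) _ allP546 Cfsg.Agent.Lib.TC.D.Fi24a.P547.ok
theorem allP548 : pt.chkRange rels 0 210816 = true := PT.chkRange_join (lo := 0) (a := 210432) (b := 384) _ allP547 Cfsg.Agent.Lib.TC.D.Fi24a.P548.ok
theorem allP549 : pt.chkRange rels 0 211200 = true := PT.chkRange_join (lo := 0) (a := 210816) (b := 384) _ allP548 Cfsg.Agent.Lib.TC.D.Fi24a.P549.ok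
theorem allP550 : pt.chkRange rels 0 211584 = true := PT.chkRange_join (lo := 0) (a := 211200) (b := 384) _ allP549 Cfsg.Agent.Lib.TC.D.Fi24a.P550.ok
theorem allP551 : pt.chkRange rels 0 211968 = true := PT.chkRange_join (lo := 0) (a := 211584) (b := 384) _ allP550 Cfsg.Agent.Lib.TC.D.Fi24a.P551.ok
theorem allP552 : pt.chkRange rels 0 212352 = true := PT.chkRange_join (lo := 0) (a := 211968) (b := 384) _ allP551 Cfsg.Agent.Lib.TC.D.Fi24a.P552.ok
theorem allP553 : pt.chkRange rels 0 212736 = true := PT.chkRange_join (lo := 0) (a := 212352) (b := 384) _ allP552 Cfsg.Agent.Lib.TC.D.Fi24a.P553.ok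
theorem allP554 : pt.chkRange rels 0 213120 = true := PT.chkRange_join (lo := 0) (a := 212736) (b := 384) _ allP553 Cfsg.Agent.Lib.TC.D.Fi24a.P554.ok
theorem allP555 : pt.chkRange rels 0 213504 = true := PT.chkRange_join (lo := 0) (a := 213120) (b := 384) _ allP554 Cfsg.Agent.Lib.TC.D.Fi24a.P555.ok
theorem allP556 : pt.chkRange rels 0 213888 = true := PT.chkRange_join (lo := 0) (a := 213504) (b := 384) _ allP555 Cfsg.Agent.Lib.TC.D.Fi24a.P556.ok
theorem allP557 : pt.chkRange rels 0 214272 = true := PT.chkRange_join (lo := 0) (a := 213888) (b := 384) _ allP556 Cfsg.Agent.Lib.TC.D.Fi24a.P557.ok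
theorem allP558 : pt.chkRange rels 0 214656 = true := PT.chkRange_join (lo := 0) (a := 214272) (b := 384) _ allP557 Cfsg.Agent.Lib.TC.D.Fi24a.P558.ok
theorem allP559 : pt.chkRange rels 0 215040 = true := PT.chkRange_join (lo := 0) (a := 214656) (b := 384) _ allP558 Cfsg.Agent.Lib.TC.D.Fi24a.P559.ok
theorem allP560 : pt.chkRange rels 0 215424 = true := PT.chkRange_join (lo := 0) (a := 215040) (b := 384) _ allP559 Cfsg.Agent.Lib.TC.D.Fi24a.P560.ok
theorem allP561 : pt.chkRange rels 0 215808 = true := PT.chkRange_join (lo := 0) (a := 215424) (b := 384) _ allP560 Cfsg.Agent.Lib.TC.D.Fi24a.P561.ok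
theorem allP562 : pt.chkRange rels 0 216192 = true := PT.chkRange_join (lo := 0) (a := 215808) (b := 384) _ allP561 Cfsg.Agent.Lib.TC.D.Fi24a.P562.ok
theorem allP563 : pt.chkRange rels 0 216576 = true := PT.chkRange_join (lo := 0) (a := 216192) (b := 384) _ allP562 Cfsg.Agent.Lib.TC.D.Fi24a.P563.ok
theorem allP564 : pt.chkRange rels 0 216960 = true := PT.chkRange_join (lo := 0) (a := 216576) (b := 384) _ allP563 Cfsg.Agent.Lib.TC.D.Fi24a.P564.ok
theorem allP565 : pt.chkRange rels 0 217344 = true := PT.chkRange_join (lo := 0) (a := 216960) (b := 384) _ allP564 Cfsg.Agent.Lib.TC.D.Fi24a.P565.ok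
theorem allP566 : pt.chkRange rels 0 217728 = true := PT.chkRange_join (lo := 0) (a := 217344) (b := 384) _ allP565 Cfsg.Agent.Lib.TC.D.Fi24a.P566.ok
theorem allP567 : pt.chkRange rels 0 218112 = true := PT.chkRange_join (lo := 0) (a := 217728) (b := 384) _ allP566 Cfsg.Agent.Lib.TC.D.Fi24a.P567.ok
theorem allP568 : pt.chkRange rels 0 218496 = true := PT.chkRange_join (lo := 0) (a := 218112) (b := 384) _ allP567 Cfsg.Agent.Lib.TC.D.Fi24a.P568.ok
theorem allP569 : pt.chkRange rels 0 218880 = true := PT.chkRange_join (lo := 0) (a := 218496) (b := 384) _ allP568 Cfsg.Agent.Lib.TC.D.Fi24a.P569.ok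
theorem allP570 : pt.chkRange rels 0 219264 = true := PT.chkRange_join (lo := 0) (a := 218880) (b := 384) _ allP569 Cfsg.Agent.Lib.TC.D.Fi24a.P570.ok
theorem allP571 : pt.chkRange rels 0 219648 = true := PT.chkRange_join (lo := 0) (a := 219264) (b := 384) _ allP570 Cfsg.Agent.Lib.TC.D.Fi24a.P571.ok
theorem allP572 : pt.chkRange rels 0 220032 = true := PT.chkRange_join (lo := 0) (a := 219648) (b := 384) _ allP571 Cfsg.Agent.Lib.TC.D.Fi24a.P572.ok
theorem allP573 : pt.chkRange rels 0 220416 = true := PT.chkRange_join (lo := 0) (a := 220032) (b := 384) _ allP572 Cfsg.Agent.Lib.TC.D.Fi24a.P573.ok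
theorem allP574 : pt.chkRange rels 0 220800 = true := PT.chkRange_join (lo := 0) (a := 220416) (b := 384) _ allP573 Cfsg.Agent.Lib.TC.D.Fi24a.P574.ok
theorem allP575 : pt.chkRange rels 0 221184 = true := PT.chkRange_join (lo := 0) (a := 220800) (b := 384) _ allP574 Cfsg.Agent.Lib.TC.D.Fi24a.P575.ok
theorem allP576 : pt.chkRange rels 0 221568 = true := PT.chkRange_join (lo := 0) (a := 221184) (b := 384) _ allP575 Cfsg.Agent.Lib.TC.D.Fi24a.P576.ok
theorem allP577 : pt.chkRange rels 0 221952 = true := PT.chkRange_join (lo := 0) (a := 221568) (b := 384) _ allP576 Cfsg.Agent.Lib.TC.D.Fi24a.P577.ok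
theorem allP578 : pt.chkRange rels 0 222336 = true := PT.chkRange_join (lo := 0) (a := 221952) (b := 384) _ allP577 Cfsg.Agent.Lib.TC.D.Fi24a.P578.ok
theorem allP579 : pt.chkRange rels 0 222720 = true := PT.chkRange_join (lo := 0) (a := 222336) (b := 384) _ allP578 Cfsg.Agent.Lib.TC.D.Fi24a.P579.ok
theorem allP580 : pt.chkRange rels 0 223104 = true := PT.chkRange_join (lo := 0) (a := 222720) (b := 384) _ allP579 Cfsg.Agent.Lib.TC.D.Fi24a.P580.ok
theorem allP581 : pt.chkRange rels 0 223488 = true := PT.chkRange_join (lo := 0) (a := 223104) (b := 384) _ allP580 Cfsg.Agent.Lib.TC.D.Fi24a.P581.ok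
theorem allP582 : pt.chkRange rels 0 223872 = true := PT.chkRange_join (lo := 0) (a := 223488) (b := 384) _ allP581 Cfsg.Agent.Lib.TC.D.Fi24a.P582.ok
theorem allP583 : pt.chkRange rels 0 224256 = true := PT.chkRange_join (lo := 0) (a := 223872) (b := 384) _ allP582 Cfsg.Agent.Lib.TC.D.Fi24a.P583.ok
theorem allP584 : pt.chkRange rels 0 224640 = true := PT.chkRange_join (lo := 0) (a := 224256) (b := 384) _ allP583 Cfsg.Agent.Lib.TC.D.Fi24a.P584.ok
theorem allP585 : pt.chkRange rels 0 225024 = true := PT.chkRange_join (lo := 0) (a := 224640) (b := 384) _ allP584 Cfsg.Agent.Lib.TC.D.Fi24a.P585.ok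
theorem allP586 : pt.chkRange rels 0 225408 = true := PT.chkRange_join (lo := 0) (a := 225024) (b := 384) _ allP585 Cfsg.Agent.Lib.TC.D.Fi24a.P586.ok
theorem allP587 : pt.chkRange rels 0 225792 = true := PT.chkRange_join (lo := 0) (a := 225408) (b := 384) _ allP586 Cfsg.Agent.Lib.TC.D.Fi24a.P587.ok
theorem allP588 : pt.chkRange rels 0 226176 = true := PT.chkRange_join (lo := 0) (a := 225792) (b := 384) _ allP587 Cfsg.Agent.Lib.TC.D.Fi24a.P588.ok
theorem allP589 : pt.chkRange rels 0 226560 = true := PT.chkRange_join (lo := 0) (a := 226176) (b := 384) _ allP588 Cfsg.Agent.Lib.TC.D.Fi24a.P589.ok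
theorem allP590 : pt.chkRange rels 0 226944 = true := PT.chkRange_join (lo := 0) (a := 226560) (b := 384) _ allP589 Cfsg.Agent.Lib.TC.D.Fi24a.P590.ok
theorem allP591 : pt.chkRange rels 0 227328 = true := PT.chkRange_join (lo := 0) (a := 226944) (b := 384) _ allP590 Cfsg.Agent.Lib.TC.D.Fi24a.P591.ok
theorem allP592 : pt.chkRange rels 0 227712 = true := PT.chkRange_join (lo := 0) (a := 227328) (b := 384) _ allP591 Cfsg.Agent.Lib.TC.D.Fi24a.P592.ok
theorem allP593 : pt.chkRange rels 0 228096 = true := PT.chkRange_join (lo := 0) (a := 227712) (b := 384) _ allP592 Cfsg.Agent.Lib.TC.D.Fi24a.P593.ok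
theorem allP594 : pt.chkRange rels 0 228480 = true := PT.chkRange_join (lo := 0) (a := 228096) (b := 384) _ allP593 Cfsg.Agent.Lib.TC.D.Fi24a.P594.ok
theorem allP595 : pt.chkRange rels 0 228864 = true := PT.chkRange_join (lo := 0) (a := 228480) (b := 384) _ allP594 Cfsg.Agent.Lib.TC.D.Fi24a.P595.ok
theorem allP596 : pt.chkRange rels 0 229248 = true := PT.chkRange_join (lo := 0) (a := 228864) (b := 384) _ allP595 Cfsg.Agent.Lib.TC.D.Fi24a.P596.ok
theorem allP597 : pt.chkRange rels 0 229632 = true := PT.chkRange_join (lo := 0) (a := 229248) (b := 384) _ allP596 Cfsg.Agent.Lib.TC.D.Fi24a.P597.ok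
theorem allP598 : pt.chkRange rels 0 230016 = true := PT.chkRange_join (lo := 0) (a := 229632) (b := 384) _ allP597 Cfsg.Agent.Lib.TC.D.Fi24a.P598.ok
theorem allP599 : pt.chkRange rels 0 230400 = true := PT.chkRange_join (lo := 0) (a := 230016) (b := 384) _ allP598 Cfsg.Agent.Lib.TC.D.Fi24a.P599.ok
theorem allP600 : pt.chkRange rels 0 230784 = true := PT.chkRange_join (lo := 0) (a := 230400) (b := 384) _ allP599 Cfsg.Agent.Lib.TC.D.Fi24a.P600.ok
theorem allP601 : pt.chkRange rels 0 231168 = true := PT.chkRange_join (lo := 0) (a := 230784) (b := 384) _ allP600 Cfsg.Agent.Lib.TC.D.Fi24a.P601.ok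
theorem allP602 : pt.chkRange rels 0 231552 = true := PT.chkRange_join (lo := 0) (a := 231168) (b := 384) _ allP601 Cfsg.Agent.Lib.TC.D.Fi24a.P602.ok
theorem allP603 : pt.chkRange rels 0 231936 = true := PT.chkRange_join (lo := 0) (a := 231552) (b := 384) _ allP602 Cfsg.Agent.Lib.TC.D.Fi24a.P603.ok
theorem allP604 : pt.chkRange rels 0 232320 = true := PT.chkRange_join (lo := 0) (a := 231936) (b := 384) _ allP603 Cfsg.Agent.Lib.TC.D.Fi24a.P604.ok
theorem allP605 : pt.chkRange rels 0 232704 = true := PT.chkRange_join (lo := 0) (a := 232320) (b := 384) _ allP604 Cfsg.Agent.Lib.TC.D.Fi24a.P605.ok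
theorem allP606 : pt.chkRange rels 0 233088 = true := PT.chkRange_join (lo := 0) (a := 232704) (b := 384) _ allP605 Cfsg.Agent.Lib.TC.D.Fi24a.P606.ok
theorem allP607 : pt.chkRange rels 0 233472 = true := PT.chkRange_join (lo := 0) (a := 233088) (b := 384) _ allP606 Cfsg.Agent.Lib.TC.D.Fi24a.P607.ok
theorem allP608 : pt.chkRange rels 0 233856 = true := PT.chkRange_join (lo := 0) (a := 233472) (b := 384) _ allP607 Cfsg.Agent.Lib.TC.D.Fi24a.P608.ok
theorem allP609 : pt.chkRange rels 0 234240 = true := PT.chkRange_join (lo := 0) (a := 233856) (b := 384) _ allP608 Cfsg.Agent.Lib.TC.D.Fi24a.P609.ok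
theorem allP610 : pt.chkRange rels 0 234624 = true := PT.chkRange_join (lo := 0) (a := 234240) (b := 384) _ allP609 Cfsg.Agent.Lib.TC.D.Fi24a.P610.ok
theorem allP611 : pt.chkRange rels 0 235008 = true := PT.chkRange_join (lo := 0) (a := 234624) (b := 384) _ allP610 Cfsg.Agent.Lib.TC.D.Fi24a.P611.ok
theorem allP612 : pt.chkRange rels 0 235392 = true := PT.chkRange_join (lo := 0) (a := 235008) (b := 384) _ allP611 Cfsg.Agent.Lib.TC.D.Fi24a.P612.ok
theorem allP613 : pt.chkRange rels 0 235776 = true := PT.chkRange_join (lo := 0) (a := 235392) (b := 384) _ allP612 Cfsg.Agent.Lib.TC.D.Fi24a.P613.ok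
theorem allP614 : pt.chkRange rels 0 236160 = true := PT.chkRange_join (lo := 0) (a := 235776) (b := 384) _ allP613 Cfsg.Agent.Lib.TC.D.Fi24a.P614.ok
theorem allP615 : pt.chkRange rels 0 236544 = true := PT.chkRange_join (lo := 0) (a := 236160) (b := 384) _ allP614 Cfsg.Agent.Lib.TC.D.Fi24a.P615.ok
theorem allP616 : pt.chkRange rels 0 236928 = true := PT.chkRange_join (lo := 0) (a := 236544) (b := 384) _ allP615 Cfsg.Agent.Lib.TC.D.Fi24a.P616.ok
theorem allP617 : pt.chkRange rels 0 237312 = true := PT.chkRange_join (lo := 0) (a := 236928) (b := 384) _ allP616 Cfsg.Agent.Lib.TC.D.Fi24a.P617.ok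
theorem allP618 : pt.chkRange rels 0 237696 = true := PT.chkRange_join (lo := 0) (a := 237312) (b := 384) _ allP617 Cfsg.Agent.Lib.TC.D.Fi24a.P618.ok
theorem allP619 : pt.chkRange rels 0 238080 = true := PT.chkRange_join (lo := 0) (a := 237696) (b := 384) _ allP618 Cfsg.Agent.Lib.TC.D.Fi24a.P619.ok
theorem allP620 : pt.chkRange rels 0 238464 = true := PT.chkRange_join (lo := 0) (a := 238080) (b := 384) _ allP619 Cfsg.Agent.Lib.TC.D.Fi24a.P620.ok
theorem allP621 : pt.chkRange rels 0 238848 = true := PT.chkRange_join (lo := 0) (a := 238464) (b := 384) _ allP620 Cfsg.Agent.Lib.TC.D.Fi24a.P621.ok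
theorem allP622 : pt.chkRange rels 0 239232 = true := PT.chkRange_join (lo := 0) (a := 238848) (b := 384) _ allP621 Cfsg.Agent.Lib.TC.D.Fi24a.P622.ok
theorem allP623 : pt.chkRange rels 0 239616 = true := PT.chkRange_join (lo := 0) (a := 239232) (b := 384) _ allP622 Cfsg.Agent.Lib.TC.D.Fi24a.P623.ok
theorem allP624 : pt.chkRange rels 0 240000 = true := PT.chkRange_join (lo := 0) (a := 239616) (b := 384) _ allP623 Cfsg.Agent.Lib.TC.D.Fi24a.P624.ok
theorem allP625 : pt.chkRange rels 0 240384 = true := PT.chkRange_join (lo := 0) (a := 240000) (b := 384) _ allP624 Cfsg.Agent.Lib.TC.D.Fi24a.P625.ok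
theorem allP626 : pt.chkRange rels 0 240768 = true := PT.chkRange_join (lo := 0) (a := 240384) (b := 384) _ allP625 Cfsg.Agent.Lib.TC.D.Fi24a.P626.ok
theorem allP627 : pt.chkRange rels 0 241152 = true := PT.chkRange_join (lo := 0) (a := 240768) (b := 384) _ allP626 Cfsg.Agent.Lib.TC.D.Fi24a.P627.ok
theorem allP628 : pt.chkRange rels 0 241536 = true := PT.chkRange_join (lo := 0) (a := 241152) (b := 384) _ allP627 Cfsg.Agent.Lib.TC.D.Fi24a.P628.ok
theorem allP629 : pt.chkRange rels 0 241920 = true := PT.chkRange_join (lo := 0) (a := 241536) (b := 384) _ allP628 Cfsg.Agent.Lib.TC.D.Fi24a.P629.ok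
theorem allP630 : pt.chkRange rels 0 242304 = true := PT.chkRange_join (lo := 0) (a := 241920) (b := 384) _ allP629 Cfsg.Agent.Lib.TC.D.Fi24a.P630.ok
theorem allP631 : pt.chkRange rels 0 242688 = true := PT.chkRange_join (lo := 0) (a := 242304) (b := 384) _ allP630 Cfsg.Agent.Lib.TC.D.Fi24a.P631.ok
theorem allP632 : pt.chkRange rels 0 243072 = true := PT.chkRange_join (lo := 0) (a := 242688) (b := 384) _ allP631 Cfsg.Agent.Lib.TC.D.Fi24a.P632.ok
theorem allP633 : pt.chkRange rels 0 243456 = true := PT.chkRange_join (lo := 0) (a := 243072) (b := 384) _ allP632 Cfsg.Agent.Lib.TC.D.Fi24a.P633.ok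
theorem allP634 : pt.chkRange rels 0 243840 = true := PT.chkRange_join (lo := 0) (a := 243456) (b := 384) _ allP633 Cfsg.Agent.Lib.TC.D.Fi24a.P634.ok
theorem allP635 : pt.chkRange rels 0 244224 = true := PT.chkRange_join (lo := 0) (a := 243840) (b := 384) _ allP634 Cfsg.Agent.Lib.TC.D.Fi24a.P635.ok
theorem allP636 : pt.chkRange rels 0 244608 = true := PT.chkRange_join (lo := 0) (a := 244224) (b := 384) _ allP635 Cfsg.Agent.Lib.TC.D.Fi24a.P636.ok
theorem allP637 : pt.chkRange rels 0 244992 = true := PT.chkRange_join (lo := 0) (a := 244608) (b := 384) _ allP636 Cfsg.Agent.Lib.TC.D.Fi24a.P637.ok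
theorem allP638 : pt.chkRange rels 0 245376 = true := PT.chkRange_join (lo := 0) (a := 244992) (b := 384) _ allP637 Cfsg.Agent.Lib.TC.D.Fi24a.P638.ok
theorem allP639 : pt.chkRange rels 0 245760 = true := PT.chkRange_join (lo := 0) (a := 245376) (b := 384) _ allP638 Cfsg.Agent.Lib.TC.D.Fi24a.P639.ok
theorem allP640 : pt.chkRange rels 0 246144 = true := PT.chkRange_join (lo := 0) (a := 245760) (b := 384) _ allP639 Cfsg.Agent.Lib.TC.D.Fi24a.P640.ok
theorem allP641 : pt.chkRange rels 0 246528 = true := PT.chkRange_join (lo := 0) (a := 246144) (b := 384) _ allP640 Cfsg.Agent.Lib.TC.D.Fi24a.P641.ok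
theorem allP642 : pt.chkRange rels 0 246912 = true := PT.chkRange_join (lo := 0) (a := 246528) (b := 384) _ allP641 Cfsg.Agent.Lib.TC.D.Fi24a.P642.ok
theorem allP643 : pt.chkRange rels 0 247296 = true := PT.chkRange_join (lo := 0) (a := 246912) (b := 384) _ allP642 Cfsg.Agent.Lib.TC.D.Fi24a.P643.ok
theorem allP644 : pt.chkRange rels 0 247680 = true := PT.chkRange_join (lo := 0) (a := 247296) (b := 384) _ allP643 Cfsg.Agent.Lib.TC.D.Fi24a.P644.ok
theorem allP645 : pt.chkRange rels 0 248064 = true := PT.chkRange_join (lo := 0) (a := 247680) (b := 384) _ allP644 Cfsg.Agent.Lib.TC.D.Fi24a.P645.ok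
theorem allP646 : pt.chkRange rels 0 248448 = true := PT.chkRange_join (lo := 0) (a := 248064) (b := 384) _ allP645 Cfsg.Agent.Lib.TC.D.Fi24a.P646.ok
theorem allP647 : pt.chkRange rels 0 248832 = true := PT.chkRange_join (lo := 0) (a := 248448) (b := 384) _ allP646 Cfsg.Agent.Lib.TC.D.Fi24a.P647.ok
theorem allP648 : pt.chkRange rels 0 249216 = true := PT.chkRange_join (lo := 0) (a := 248832) (b := 384) _ allP647 Cfsg.Agent.Lib.TC.D.Fi24a.P648.ok
theorem allP649 : pt.chkRange rels 0 249600 = true := PT.chkRange_join (lo := 0) (a := 249216) (b := 384) _ allP648 Cfsg.Agent.Lib.TC.D.Fi24a.P649.ok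
theorem allP650 : pt.chkRange rels 0 249984 = true := PT.chkRange_join (lo := 0) (a := 249600) (b := 384) _ allP649 Cfsg.Agent.Lib.TC.D.Fi24a.P650.ok
theorem allP651 : pt.chkRange rels 0 250368 = true := PT.chkRange_join (lo := 0) (a := 249984) (b := 384) _ allP650 Cfsg.Agent.Lib.TC.D.Fi24a.P651.ok
theorem allP652 : pt.chkRange rels 0 250752 = true := PT.chkRange_join (lo := 0) (a := 250368) (b := 384) _ allP651 Cfsg.Agent.Lib.TC.D.Fi24a.P652.ok
theorem allP653 : pt.chkRange rels 0 251136 = true := PT.chkRange_join (lo := 0) (a := 250752) (b := 384) _ allP652 Cfsg.Agent.Lib.TC.D.Fi24a.P653.ok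
theorem allP654 : pt.chkRange rels 0 251520 = true := PT.chkRange_join (lo := 0) (a := 251136) (b := 384) _ allP653 Cfsg.Agent.Lib.TC.D.Fi24a.P654.ok
theorem allP655 : pt.chkRange rels 0 251904 = true := PT.chkRange_join (lo := 0) (a := 251520) (b := 384) _ allP654 Cfsg.Agent.Lib.TC.D.Fi24a.P655.ok
theorem allP656 : pt.chkRange rels 0 252288 = true := PT.chkRange_join (lo := 0) (a := 251904) (b := 384) _ allP655 Cfsg.Agent.Lib.TC.D.Fi24a.P656.ok
theorem allP657 : pt.chkRange rels 0 252672 = true := PT.chkRange_join (lo := 0) (a := 252288) (b := 384) _ allP656 Cfsg.Agent.Lib.TC.D.Fi24a.P657.ok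
theorem allP658 : pt.chkRange rels 0 253056 = true := PT.chkRange_join (lo := 0) (a := 252672) (b := 384) _ allP657 Cfsg.Agent.Lib.TC.D.Fi24a.P658.ok
theorem allP659 : pt.chkRange rels 0 253440 = true := PT.chkRange_join (lo := 0) (a := 253056) (b := 384) _ allP658 Cfsg.Agent.Lib.TC.D.Fi24a.P659.ok
theorem allP660 : pt.chkRange rels 0 253824 = true := PT.chkRange_join (lo := 0) (a := 253440) (b := 384) _ allP659 Cfsg.Agent.Lib.TC.D.Fi24a.P660.ok
theorem allP661 : pt.chkRange rels 0 254208 = true := PT.chkRange_join (lo := 0) (a := 253824) (b := 384) _ allP660 Cfsg.Agent.Lib.TC.D.Fi24a.P661.ok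
theorem allP662 : pt.chkRange rels 0 254592 = true := PT.chkRange_join (lo := 0) (a := 254208) (b := 384) _ allP661 Cfsg.Agent.Lib.TC.D.Fi24a.P662.ok
theorem allP663 : pt.chkRange rels 0 254976 = true := PT.chkRange_join (lo := 0) (a := 254592) (b := 384) _ allP662 Cfsg.Agent.Lib.TC.D.Fi24a.P663.ok
theorem allP664 : pt.chkRange rels 0 255360 = true := PT.chkRange_join (lo := 0) (a := 254976) (b := 384) _ allP663 Cfsg.Agent.Lib.TC.D.Fi24a.P664.ok
theorem allP665 : pt.chkRange rels 0 255744 = true := PT.chkRange_join (lo := 0) (a := 255360) (b := 384) _ allP664 Cfsg.Agent.Lib.TC.D.Fi24a.P665.ok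
theorem allP666 : pt.chkRange rels 0 256128 = true := PT.chkRange_join (lo := 0) (a := 255744) (b := 384) _ allP665 Cfsg.Agent.Lib.TC.D.Fi24a.P666.ok
theorem allP667 : pt.chkRange rels 0 256512 = true := PT.chkRange_join (lo := 0) (a := 256128) (b := 384) _ allP666 Cfsg.Agent.Lib.TC.D.Fi24a.P667.ok
theorem allP668 : pt.chkRange rels 0 256896 = true := PT.chkRange_join (lo := 0) (a := 256512) (b := 384) _ allP667 Cfsg.Agent.Lib.TC.D.Fi24a.P668.ok
theorem allP669 : pt.chkRange rels 0 257280 = true := PT.chkRange_join (lo := 0) (a := 256896) (b := 384) _ allP668 Cfsg.Agent.Lib.TC.D.Fi24a.P669.ok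
theorem allP670 : pt.chkRange rels 0 257664 = true := PT.chkRange_join (lo := 0) (a := 257280) (b := 384) _ allP669 Cfsg.Agent.Lib.TC.D.Fi24a.P670.ok
theorem allP671 : pt.chkRange rels 0 258048 = true := PT.chkRange_join (lo := 0) (a := 257664) (b := 384) _ allP670 Cfsg.Agent.Lib.TC.D.Fi24a.P671.ok
theorem allP672 : pt.chkRange rels 0 258432 = true := PT.chkRange_join (lo := 0) (a := 258048) (b := 384) _ allP671 Cfsg.Agent.Lib.TC.D.Fi24a.P672.ok
theorem allP673 : pt.chkRange rels 0 258816 = true := PT.chkRange_join (lo := 0) (a := 258432) (b := 384) _ allP672 Cfsg.Agent.Lib.TC.D.Fi24a.P673.ok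
theorem allP674 : pt.chkRange rels 0 259200 = true := PT.chkRange_join (lo := 0) (a := 258816) (b := 384) _ allP673 Cfsg.Agent.Lib.TC.D.Fi24a.P674.ok
theorem allP675 : pt.chkRange rels 0 259584 = true := PT.chkRange_join (lo := 0) (a := 259200) (b := 384) _ allP674 Cfsg.Agent.Lib.TC.D.Fi24a.P675.ok
theorem allP676 : pt.chkRange rels 0 259968 = true := PT.chkRange_join (lo := 0) (a := 259584) (b := 384) _ allP675 Cfsg.Agent.Lib.TC.D.Fi24a.P676.ok
theorem allP677 : pt.chkRange rels 0 260352 = true := PT.chkRange_join (lo := 0) (a := 259968) (b := 384) _ allP676 Cfsg.Agent.Lib.TC.D.Fi24a.P677.ok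
theorem allP678 : pt.chkRange rels 0 260736 = true := PT.chkRange_join (lo := 0) (a := 260352) (b := 384) _ allP677 Cfsg.Agent.Lib.TC.D.Fi24a.P678.ok
theorem allP679 : pt.chkRange rels 0 261120 = true := PT.chkRange_join (lo := 0) (a := 260736) (b := 384) _ allP678 Cfsg.Agent.Lib.TC.D.Fi24a.P679.ok
theorem allP680 : pt.chkRange rels 0 261504 = true := PT.chkRange_join (lo := 0) (a := 261120) (b := 384) _ allP679 Cfsg.Agent.Lib.TC.D.Fi24a.P680.ok
theorem allP681 : pt.chkRange rels 0 261888 = true := PT.chkRange_join (lo := 0) (a := 261504) (b := 384) _ allP680 Cfsg.Agent.Lib.TC.D.Fi24a.P681.ok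
theorem allP682 : pt.chkRange rels 0 262272 = true := PT.chkRange_join (lo := 0) (a := 261888) (b := 384) _ allP681 Cfsg.Agent.Lib.TC.D.Fi24a.P682.ok
theorem allP683 : pt.chkRange rels 0 262656 = true := PT.chkRange_join (lo := 0) (a := 262272) (b := 384) _ allP682 Cfsg.Agent.Lib.TC.D.Fi24a.P683.ok
theorem allP684 : pt.chkRange rels 0 263040 = true := PT.chkRange_join (lo := 0) (a := 262656) (b := 384) _ allP683 Cfsg.Agent.Lib.TC.D.Fi24a.P684.ok
theorem allP685 : pt.chkRange rels 0 263424 = true := PT.chkRange_join (lo := 0) (a := 263040) (b := 384) _ allP684 Cfsg.Agent.Lib.TC.D.Fi24a.P685.ok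
theorem allP686 : pt.chkRange rels 0 263808 = true := PT.chkRange_join (lo := 0) (a := 263424) (b := 384) _ allP685 Cfsg.Agent.Lib.TC.D.Fi24a.P686.ok
theorem allP687 : pt.chkRange rels 0 264192 = true := PT.chkRange_join (lo := 0) (a := 263808) (b := 384) _ allP686 Cfsg.Agent.Lib.TC.D.Fi24a.P687.ok
theorem allP688 : pt.chkRange rels 0 264576 = true := PT.chkRange_join (lo := 0) (a := 264192) (b := 384) _ allP687 Cfsg.Agent.Lib.TC.D.Fi24a.P688.ok
theorem allP689 : pt.chkRange rels 0 264960 = true := PT.chkRange_join (lo := 0) (a := 264576) (b := 384) _ allP688 Cfsg.Agent.Lib.TC.D.Fi24a.P689.ok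
theorem allP690 : pt.chkRange rels 0 265344 = true := PT.chkRange_join (lo := 0) (a := 264960) (b := 384) _ allP689 Cfsg.Agent.Lib.TC.D.Fi24a.P690.ok
theorem allP691 : pt.chkRange rels 0 265728 = true := PT.chkRange_join (lo := 0) (a := 265344) (b := 384) _ allP690 Cfsg.Agent.Lib.TC.D.Fi24a.P691.ok
theorem allP692 : pt.chkRange rels 0 266112 = true := PT.chkRange_join (lo := 0) (a := 265728) (b := 384) _ allP691 Cfsg.Agent.Lib.TC.D.Fi24a.P692.ok
theorem allP693 : pt.chkRange rels 0 266496 = true := PT.chkRange_join (lo := 0) (a := 266112) (b := 384) _ allP692 Cfsg.Agent.Lib.TC.D.Fi24a.P693.ok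
theorem allP694 : pt.chkRange rels 0 266880 = true := PT.chkRange_join (lo := 0) (a := 266496) (b := 384) _ allP693 Cfsg.Agent.Lib.TC.D.Fi24a.P694.ok
theorem allP695 : pt.chkRange rels 0 267264 = true := PT.chkRange_join (lo := 0) (a := 266880) (b := 384) _ allP694 Cfsg.Agent.Lib.TC.D.Fi24a.P695.ok
theorem allP696 : pt.chkRange rels 0 267648 = true := PT.chkRange_join (lo := 0) (a := 267264) (b := 384) _ allP695 Cfsg.Agent.Lib.TC.D.Fi24a.P696.ok
theorem allP697 : pt.chkRange rels 0 268032 = true := PT.chkRange_join (lo := 0) (a := 267648) (b := 384) _ allP696 Cfsg.Agent.Lib.TC.D.Fi24a.P697.ok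
theorem allP698 : pt.chkRange rels 0 268416 = true := PT.chkRange_join (lo := 0) (a := 268032) (b := 384) _ allP697 Cfsg.Agent.Lib.TC.D.Fi24a.P698.ok
theorem allP699 : pt.chkRange rels 0 268800 = true := PT.chkRange_join (lo := 0) (a := 268416) (b := 384) _ allP698 Cfsg.Agent.Lib.TC.D.Fi24a.P699.ok
theorem allP700 : pt.chkRange rels 0 269184 = true := PT.chkRange_join (lo := 0) (a := 268800) (b := 384) _ allP699 Cfsg.Agent.Lib.TC.D.Fi24a.P700.ok
theorem allP701 : pt.chkRange rels 0 269568 = true := PT.chkRange_join (lo := 0) (a := 269184) (b := 384) _ allP700 Cfsg.Agent.Lib.TC.D.Fi24a.P701.ok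
theorem allP702 : pt.chkRange rels 0 269952 = true := PT.chkRange_join (lo := 0) (a := 269568) (b := 384) _ allP701 Cfsg.Agent.Lib.TC.D.Fi24a.P702.ok
theorem allP703 : pt.chkRange rels 0 270336 = true := PT.chkRange_join (lo := 0) (a := 269952) (b := 384) _ allP702 Cfsg.Agent.Lib.TC.D.Fi24a.P703.ok
theorem allP704 : pt.chkRange rels 0 270720 = true := PT.chkRange_join (lo := 0) (a := 270336) (b := 384) _ allP703 Cfsg.Agent.Lib.TC.D.Fi24a.P704.ok
theorem allP705 : pt.chkRange rels 0 271104 = true := PT.chkRange_join (lo := 0) (a := 270720) (b := 384) _ allP704 Cfsg.Agent.Lib.TC.D.Fi24a.P705.ok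
theorem allP706 : pt.chkRange rels 0 271488 = true := PT.chkRange_join (lo := 0) (a := 271104) (b := 384) _ allP705 Cfsg.Agent.Lib.TC.D.Fi24a.P706.ok
theorem allP707 : pt.chkRange rels 0 271872 = true := PT.chkRange_join (lo := 0) (a := 271488) (b := 384) _ allP706 Cfsg.Agent.Lib.TC.D.Fi24a.P707.ok
theorem allP708 : pt.chkRange rels 0 272256 = true := PT.chkRange_join (lo := 0) (a := 271872) (b := 384) _ allP707 Cfsg.Agent.Lib.TC.D.Fi24a.P708.ok
theorem allP709 : pt.chkRange rels 0 272640 = true := PT.chkRange_join (lo := 0) (a := 272256) (b := 384) _ allP708 Cfsg.Agent.Lib.TC.D.Fi24a.P709.ok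
theorem allP710 : pt.chkRange rels 0 273024 = true := PT.chkRange_join (lo := 0) (a := 272640) (b := 384) _ allP709 Cfsg.Agent.Lib.TC.D.Fi24a.P710.ok
theorem allP711 : pt.chkRange rels 0 273408 = true := PT.chkRange_join (lo := 0) (a := 273024) (b := 384) _ allP710 Cfsg.Agent.Lib.TC.D.Fi24a.P711.ok
theorem allP712 : pt.chkRange rels 0 273792 = true := PT.chkRange_join (lo := 0) (a := 273408) (b := 384) _ allP711 Cfsg.Agent.Lib.TC.D.Fi24a.P712.ok
theorem allP713 : pt.chkRange rels 0 274176 = true := PT.chkRange_join (lo := 0) (a := 273792) (b := 384) _ allP712 Cfsg.Agent.Lib.TC.D.Fi24a.P713.ok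
theorem allP714 : pt.chkRange rels 0 274560 = true := PT.chkRange_join (lo := 0) (a := 274176) (b := 384) _ allP713 Cfsg.Agent.Lib.TC.D.Fi24a.P714.ok
theorem allP715 : pt.chkRange rels 0 274944 = true := PT.chkRange_join (lo := 0) (a := 274560) (b := 384) _ allP714 Cfsg.Agent.Lib.TC.D.Fi24a.P715.ok
theorem allP716 : pt.chkRange rels 0 275328 = true := PT.chkRange_join (lo := 0) (a := 274944) (b := 384) _ allP715 Cfsg.Agent.Lib.TC.D.Fi24a.P716.ok
theorem allP717 : pt.chkRange rels 0 275712 = true := PT.chkRange_join (lo := 0) (a := 275328) (b := 384) _ allP716 Cfsg.Agent.Lib.TC.D.Fi24a.P717.ok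
theorem allP718 : pt.chkRange rels 0 276096 = true := PT.chkRange_join (lo := 0) (a := 275712) (b := 384) _ allP717 Cfsg.Agent.Lib.TC.D.Fi24a.P718.ok
theorem allP719 : pt.chkRange rels 0 276480 = true := PT.chkRange_join (lo := 0) (a := 276096) (b := 384) _ allP718 Cfsg.Agent.Lib.TC.D.Fi24a.P719.ok
theorem allP720 : pt.chkRange rels 0 276864 = true := PT.chkRange_join (lo := 0) (a := 276480) (b := 384) _ allP719 Cfsg.Agent.Lib.TC.D.Fi24a.P720.ok
theorem allP721 : pt.chkRange rels 0 277248 = true := PT.chkRange_join (lo := 0) (a := 276864) (b := 384) _ allP720 Cfsg.Agent.Lib.TC.D.Fi24a.P721.ok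
theorem allP722 : pt.chkRange rels 0 277632 = true := PT.chkRange_join (lo := 0) (a := 277248) (b := 384) _ allP721 Cfsg.Agent.Lib.TC.D.Fi24a.P722.ok
theorem allP723 : pt.chkRange rels 0 278016 = true := PT.chkRange_join (lo := 0) (a := 277632) (b := 384) _ allP722 Cfsg.Agent.Lib.TC.D.Fi24a.P723.ok
theorem allP724 : pt.chkRange rels 0 278400 = true := PT.chkRange_join (lo := 0) (a := 278016) (b := 384) _ allP723 Cfsg.Agent.Lib.TC.D.Fi24a.P724.ok
theorem allP725 : pt.chkRange rels 0 278784 = true := PT.chkRange_join (lo := 0) (a := 278400) (b := 384) _ allP724 Cfsg.Agent.Lib.TC.D.Fi24a.P725.ok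
theorem allP726 : pt.chkRange rels 0 279168 = true := PT.chkRange_join (lo := 0) (a := 278784) (b := 384) _ allP725 Cfsg.Agent.Lib.TC.D.Fi24a.P726.ok
theorem allP727 : pt.chkRange rels 0 279552 = true := PT.chkRange_join (lo := 0) (a := 279168) (b := 384) _ allP726 Cfsg.Agent.Lib.TC.D.Fi24a.P727.ok
theorem allP728 : pt.chkRange rels 0 279936 = true := PT.chkRange_join (lo := 0) (a := 279552) (b := 384) _ allP727 Cfsg.Agent.Lib.TC.D.Fi24a.P728.ok
theorem allP729 : pt.chkRange rels 0 280320 = true := PT.chkRange_join (lo := 0) (a := 279936) (b := 384) _ allP728 Cfsg.Agent.Lib.TC.D.Fi24a.P729.ok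
theorem allP730 : pt.chkRange rels 0 280704 = true := PT.chkRange_join (lo := 0) (a := 280320) (b := 384) _ allP729 Cfsg.Agent.Lib.TC.D.Fi24a.P730.ok
theorem allP731 : pt.chkRange rels 0 281088 = true := PT.chkRange_join (lo := 0) (a := 280704) (b := 384) _ allP730 Cfsg.Agent.Lib.TC.D.Fi24a.P731.ok
theorem allP732 : pt.chkRange rels 0 281472 = true := PT.chkRange_join (lo := 0) (a := 281088) (b := 384) _ allP731 Cfsg.Agent.Lib.TC.D.Fi24a.P732.ok
theorem allP733 : pt.chkRange rels 0 281856 = true := PT.chkRange_join (lo := 0) (a := 281472) (b := 384) _ allP732 Cfsg.Agent.Lib.TC.D.Fi24a.P733.ok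
theorem allP734 : pt.chkRange rels 0 282240 = true := PT.chkRange_join (lo := 0) (a := 281856) (b := 384) _ allP733 Cfsg.Agent.Lib.TC.D.Fi24a.P734.ok
theorem allP735 : pt.chkRange rels 0 282624 = true := PT.chkRange_join (lo := 0) (a := 282240) (b := 384) _ allP734 Cfsg.Agent.Lib.TC.D.Fi24a.P735.ok
theorem allP736 : pt.chkRange rels 0 283008 = true := PT.chkRange_join (lo := 0) (a := 282624) (b := 384) _ allP735 Cfsg.Agent.Lib.TC.D.Fi24a.P736.ok
theorem allP737 : pt.chkRange rels 0 283392 = true := PT.chkRange_join (lo := 0) (a := 283008) (b := 384) _ allP736 Cfsg.Agent.Lib.TC.D.Fi24a.P737.ok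
theorem allP738 : pt.chkRange rels 0 283776 = true := PT.chkRange_join (lo := 0) (a := 283392) (b := 384) _ allP737 Cfsg.Agent.Lib.TC.D.Fi24a.P738.ok
theorem allP739 : pt.chkRange rels 0 284160 = true := PT.chkRange_join (lo := 0) (a := 283776) (b := 384) _ allP738 Cfsg.Agent.Lib.TC.D.Fi24a.P739.ok
theorem allP740 : pt.chkRange rels 0 284544 = true := PT.chkRange_join (lo := 0) (a := 284160) (b := 384) _ allP739 Cfsg.Agent.Lib.TC.D.Fi24a.P740.ok
theorem allP741 : pt.chkRange rels 0 284928 = true := PT.chkRange_join (lo := 0) (a := 284544) (b := 384) _ allP740 Cfsg.Agent.Lib.TC.D.Fi24a.P741.ok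
theorem allP742 : pt.chkRange rels 0 285312 = true := PT.chkRange_join (lo := 0) (a := 284928) (b := 384) _ allP741 Cfsg.Agent.Lib.TC.D.Fi24a.P742.ok
theorem allP743 : pt.chkRange rels 0 285696 = true := PT.chkRange_join (lo := 0) (a := 285312) (b := 384) _ allP742 Cfsg.Agent.Lib.TC.D.Fi24a.P743.ok
theorem allP744 : pt.chkRange rels 0 286080 = true := PT.chkRange_join (lo := 0) (a := 285696) (b := 384) _ allP743 Cfsg.Agent.Lib.TC.D.Fi24a.P744.ok
theorem allP745 : pt.chkRange rels 0 286464 = true := PT.chkRange_join (lo := 0) (a := 286080) (b := 384) _ allP744 Cfsg.Agent.Lib.TC.D.Fi24a.P745.ok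
theorem allP746 : pt.chkRange rels 0 286848 = true := PT.chkRange_join (lo := 0) (a := 286464) (b := 384) _ allP745 Cfsg.Agent.Lib.TC.D.Fi24a.P746.ok
theorem allP747 : pt.chkRange rels 0 287232 = true := PT.chkRange_join (lo := 0) (a := 286848) (b := 384) _ allP746 Cfsg.Agent.Lib.TC.D.Fi24a.P747.ok
theorem allP748 : pt.chkRange rels 0 287616 = true := PT.chkRange_join (lo := 0) (a := 287232) (b := 384) _ allP747 Cfsg.Agent.Lib.TC.D.Fi24a.P748.ok
theorem allP749 : pt.chkRange rels 0 288000 = true := PT.chkRange_join (lo := 0) (a := 287616) (b := 384) _ allP748 Cfsg.Agent.Lib.TC.D.Fi24a.P749.ok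
theorem allP750 : pt.chkRange rels 0 288384 = true := PT.chkRange_join (lo := 0) (a := 288000) (b := 384) _ allP749 Cfsg.Agent.Lib.TC.D.Fi24a.P750.ok
theorem allP751 : pt.chkRange rels 0 288768 = true := PT.chkRange_join (lo := 0) (a := 288384) (b := 384) _ allP750 Cfsg.Agent.Lib.TC.D.Fi24a.P751.ok
theorem allP752 : pt.chkRange rels 0 289152 = true := PT.chkRange_join (lo := 0) (a := 288768) (b := 384) _ allP751 Cfsg.Agent.Lib.TC.D.Fi24a.P752.ok
theorem allP753 : pt.chkRange rels 0 289536 = true := PT.chkRange_join (lo := 0) (a := 289152) (b := 384) _ allP752 Cfsg.Agent.Lib.TC.D.Fi24a.P753.ok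
theorem allP754 : pt.chkRange rels 0 289920 = true := PT.chkRange_join (lo := 0) (a := 289536) (b := 384) _ allP753 Cfsg.Agent.Lib.TC.D.Fi24a.P754.ok
theorem allP755 : pt.chkRange rels 0 290304 = true := PT.chkRange_join (lo := 0) (a := 289920) (b := 384) _ allP754 Cfsg.Agent.Lib.TC.D.Fi24a.P755.ok
theorem allP756 : pt.chkRange rels 0 290688 = true := PT.chkRange_join (lo := 0) (a := 290304) (b := 384) _ allP755 Cfsg.Agent.Lib.TC.D.Fi24a.P756.ok
theorem allP757 : pt.chkRange rels 0 291072 = true := PT.chkRange_join (lo := 0) (a := 290688) (b := 384) _ allP756 Cfsg.Agent.Lib.TC.D.Fi24a.P757.ok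
theorem allP758 : pt.chkRange rels 0 291456 = true := PT.chkRange_join (lo := 0) (a := 291072) (b := 384) _ allP757 Cfsg.Agent.Lib.TC.D.Fi24a.P758.ok
theorem allP759 : pt.chkRange rels 0 291840 = true := PT.chkRange_join (lo := 0) (a := 291456) (b := 384) _ allP758 Cfsg.Agent.Lib.TC.D.Fi24a.P759.ok
theorem allP760 : pt.chkRange rels 0 292224 = true := PT.chkRange_join (lo := 0) (a := 291840) (b := 384) _ allP759 Cfsg.Agent.Lib.TC.D.Fi24a.P760.ok
theorem allP761 : pt.chkRange rels 0 292608 = true := PT.chkRange_join (lo := 0) (a := 292224) (b := 384) _ allP760 Cfsg.Agent.Lib.TC.D.Fi24a.P761.ok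
theorem allP762 : pt.chkRange rels 0 292992 = true := PT.chkRange_join (lo := 0) (a := 292608) (b := 384) _ allP761 Cfsg.Agent.Lib.TC.D.Fi24a.P762.ok
theorem allP763 : pt.chkRange rels 0 293376 = true := PT.chkRange_join (lo := 0) (a := 292992) (b := 384) _ allP762 Cfsg.Agent.Lib.TC.D.Fi24a.P763.ok
theorem allP764 : pt.chkRange rels 0 293760 = true := PT.chkRange_join (lo := 0) (a := 293376) (b := 384) _ allP763 Cfsg.Agent.Lib.TC.D.Fi24a.P764.ok
theorem allP765 : pt.chkRange rels 0 294144 = true := PT.chkRange_join (lo := 0) (a := 293760) (b := 384) _ allP764 Cfsg.Agent.Lib.TC.D.Fi24a.P765.ok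
theorem allP766 : pt.chkRange rels 0 294528 = true := PT.chkRange_join (lo := 0) (a := 294144) (b := 384) _ allP765 Cfsg.Agent.Lib.TC.D.Fi24a.P766.ok
theorem allP767 : pt.chkRange rels 0 294912 = true := PT.chkRange_join (lo := 0) (a := 294528) (b := 384) _ allP766 Cfsg.Agent.Lib.TC.D.Fi24a.P767.ok
theorem allP768 : pt.chkRange rels 0 295296 = true := PT.chkRange_join (lo := 0) (a := 294912) (b := 384) _ allP767 Cfsg.Agent.Lib.TC.D.Fi24a.P768.ok
theorem allP769 : pt.chkRange rels 0 295680 = true := PT.chkRange_join (lo := 0) (a := 295296) (b := 384) _ allP768 Cfsg.Agent.Lib.TC.D.Fi24a.P769.ok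
theorem allP770 : pt.chkRange rels 0 296064 = true := PT.chkRange_join (lo := 0) (a := 295680) (b := 384) _ allP769 Cfsg.Agent.Lib.TC.D.Fi24a.P770.ok
theorem allP771 : pt.chkRange rels 0 296448 = true := PT.chkRange_join (lo := 0) (a := 296064) (b := 384) _ allP770 Cfsg.Agent.Lib.TC.D.Fi24a.P771.ok
theorem allP772 : pt.chkRange rels 0 296832 = true := PT.chkRange_join (lo := 0) (a := 296448) (b := 384) _ allP771 Cfsg.Agent.Lib.TC.D.Fi24a.P772.ok
theorem allP773 : pt.chkRange rels 0 297216 = true := PT.chkRange_join (lo := 0) (a := 296832) (b := 384) _ allP772 Cfsg.Agent.Lib.TC.D.Fi24a.P773.ok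
theorem allP774 : pt.chkRange rels 0 297600 = true := PT.chkRange_join (lo := 0) (a := 297216) (b := 384) _ allP773 Cfsg.Agent.Lib.TC.D.Fi24a.P774.ok
theorem allP775 : pt.chkRange rels 0 297984 = true := PT.chkRange_join (lo := 0) (a := 297600) (b := 384) _ allP774 Cfsg.Agent.Lib.TC.D.Fi24a.P775.ok
theorem allP776 : pt.chkRange rels 0 298368 = true := PT.chkRange_join (lo := 0) (a := 297984) (b := 384) _ allP775 Cfsg.Agent.Lib.TC.D.Fi24a.P776.ok
theorem allP777 : pt.chkRange rels 0 298752 = true := PT.chkRange_join (lo := 0) (a := 298368) (b := 384) _ allP776 Cfsg.Agent.Lib.TC.D.Fi24a.P777.ok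
theorem allP778 : pt.chkRange rels 0 299136 = true := PT.chkRange_join (lo := 0) (a := 298752) (b := 384) _ allP777 Cfsg.Agent.Lib.TC.D.Fi24a.P778.ok
theorem allP779 : pt.chkRange rels 0 299520 = true := PT.chkRange_join (lo := 0) (a := 299136) (b := 384) _ allP778 Cfsg.Agent.Lib.TC.D.Fi24a.P779.ok
theorem allP780 : pt.chkRange rels 0 299904 = true := PT.chkRange_join (lo := 0) (a := 299520) (b := 384) _ allP779 Cfsg.Agent.Lib.TC.D.Fi24a.P780.ok
theorem allP781 : pt.chkRange rels 0 300288 = true := PT.chkRange_join (lo := 0) (a := 299904) (b := 384) _ allP780 Cfsg.Agent.Lib.TC.D.Fi24a.P781.ok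
theorem allP782 : pt.chkRange rels 0 300672 = true := PT.chkRange_join (lo := 0) (a := 300288) (b := 384) _ allP781 Cfsg.Agent.Lib.TC.D.Fi24a.P782.ok
theorem allP783 : pt.chkRange rels 0 301056 = true := PT.chkRange_join (lo := 0) (a := 300672) (b := 384) _ allP782 Cfsg.Agent.Lib.TC.D.Fi24a.P783.ok
theorem allP784 : pt.chkRange rels 0 301440 = true := PT.chkRange_join (lo := 0) (a := 301056) (b := 384) _ allP783 Cfsg.Agent.Lib.TC.D.Fi24a.P784.ok
theorem allP785 : pt.chkRange rels 0 301824 = true := PT.chkRange_join (lo := 0) (a := 301440) (b := 384) _ allP784 Cfsg.Agent.Lib.TC.D.Fi24a.P785.ok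
theorem allP786 : pt.chkRange rels 0 302208 = true := PT.chkRange_join (lo := 0) (a := 301824) (b := 384) _ allP785 Cfsg.Agent.Lib.TC.D.Fi24a.P786.ok
theorem allP787 : pt.chkRange rels 0 302592 = true := PT.chkRange_join (lo := 0) (a := 302208) (b := 384) _ allP786 Cfsg.Agent.Lib.TC.D.Fi24a.P787.ok
theorem allP788 : pt.chkRange rels 0 302976 = true := PT.chkRange_join (lo := 0) (a := 302592) (b := 384) _ allP787 Cfsg.Agent.Lib.TC.D.Fi24a.P788.ok
theorem allP789 : pt.chkRange rels 0 303360 = true := PT.chkRange_join (lo := 0) (a := 302976) (b := 384) _ allP788 Cfsg.Agent.Lib.TC.D.Fi24a.P789.ok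
theorem allP790 : pt.chkRange rels 0 303744 = true := PT.chkRange_join (lo := 0) (a := 303360) (b := 384) _ allP789 Cfsg.Agent.Lib.TC.D.Fi24a.P790.ok
theorem allP791 : pt.chkRange rels 0 304128 = true := PT.chkRange_join (lo := 0) (a := 303744) (b := 384) _ allP790 Cfsg.Agent.Lib.TC.D.Fi24a.P791.ok
theorem allP792 : pt.chkRange rels 0 304512 = true := PT.chkRange_join (lo := 0) (a := 304128) (b := 384) _ allP791 Cfsg.Agent.Lib.TC.D.Fi24a.P792.ok
theorem allP793 : pt.chkRange rels 0 304896 = true := PT.chkRange_join (lo := 0) (a := 304512) (b := 384) _ allP792 Cfsg.Agent.Lib.TC.D.Fi24a.P793.ok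
theorem allP794 : pt.chkRange rels 0 305280 = true := PT.chkRange_join (lo := 0) (a := 304896) (b := 384) _ allP793 Cfsg.Agent.Lib.TC.D.Fi24a.P794.ok
theorem allP795 : pt.chkRange rels 0 305664 = true := PT.chkRange_join (lo := 0) (a := 305280) (b := 384) _ allP794 Cfsg.Agent.Lib.TC.D.Fi24a.P795.ok
theorem allP796 : pt.chkRange rels 0 306048 = true := PT.chkRange_join (lo := 0) (a := 305664) (b := 384) _ allP795 Cfsg.Agent.Lib.TC.D.Fi24a.P796.ok
theorem allP797 : pt.chkRange rels 0 306432 = true := PT.chkRange_join (lo := 0) (a := 306048) (b := 384) _ allP796 Cfsg.Agent.Lib.TC.D.Fi24a.P797.ok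
theorem allP798 : pt.chkRange rels 0 306816 = true := PT.chkRange_join (lo := 0) (a := 306432) (b := 384) _ allP797 Cfsg.Agent.Lib.TC.D.Fi24a.P798.ok
theorem allP799 : pt.chkRange rels 0 306936 = true := PT.chkRange_join (lo := 0) (a := 306816) (b := 120) _ allP798 Cfsg.Agent.Lib.TC.D.Fi24a.P799.ok

theorem allF0 : cert.chkFinal 0 10000 = true := Cfsg.Agent.Lib.TC.D.Fi24a.F0.ok
theorem allN0 : countAcc (fun i => cert.eLvl (cert.par i)) cert.MAX 0 10000 0 = 7598 := Cfsg.Agent.Lib.TC.D.Fi24a.F0.cnt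
theorem allF1 : cert.chkFinal 0 20000 = true := cert.chkFinal_join (lo := 0) (a := 10000) (b := 10000) allF0 Cfsg.Agent.Lib.TC.D.Fi24a.F1.ok
theorem allN1 : countAcc (fun i => cert.eLvl (cert.par i)) cert.MAX 0 20000 0 = 15220 := Cfsg.Agent.Lib.TC.Split.countAcc_join (lo := 0) (a := 10000) (b := 10000) (x := 7598) (y := 7622) allN0 Cfsg.Agent.Lib.TC.D.Fi24a.F1.cnt
theorem allF2 : cert.chkFinal 0 30000 = true := cert.chkFinal_join (lo := 0) (a := 20000) (b := 10000) allF1 Cfsg.Agent.Lib.TC.D.Fi24a.F2.ok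
theorem allN2 : countAcc (fun i => cert.eLvl (cert.par i)) cert.MAX 0 30000 0 = 21628 := Cfsg.Agent.Lib.TC.Split.countAcc_join (lo := 0) (a := 20000) (b := 10000) (x := 15220) (y := 6408) allN1 Cfsg.Agent.Lib.TC.D.Fi24a.F2.cnt
theorem allF3 : cert.chkFinal 0 40000 = true := cert.chkFinal_join (lo := 0) (a := 30000) (b := 10000) allF2 Cfsg.Agent.Lib.TC.D.Fi24a.F3.ok
theorem allN3 : countAcc (fun i => cert.eLvl (cert.par i)) cert.MAX 0 40000 0 = 27489 := Cfsg.Agent.Lib.TC.Split.countAcc_join (lo := 0) (a := 30000) (b := 10000) (x := 21628) (y := 5861) allN2 Cfsg.Agent.Lib.TC.D.Fi24a.F3.cnt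
theorem allF4 : cert.chkFinal 0 50000 = true := cert.chkFinal_join (lo := 0) (a := 40000) (b := 10000) allF3 Cfsg.Agent.Lib.TC.D.Fi24a.F4.ok
theorem allN4 : countAcc (fun i => cert.eLvl (cert.par i)) cert.MAX 0 50000 0 = 33697 := Cfsg.Agent.Lib.TC.Split.countAcc_join (lo := 0) (a := 40000) (b := 10000) (x := 27489) (y := 6208) allN3 Cfsg.Agent.Lib.TC.D.Fi24a.F4.cnt
theorem allF5 : cert.chkFinal 0 60000 = true := cert.chkFinal_join (lo := 0) (a := 50000) (b := 10000) allF4 Cfsg.Agent.Lib.TC.D.Fi24a.F5.ok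
theorem allN5 : countAcc (fun i => cert.eLvl (cert.par i)) cert.MAX 0 60000 0 = 38598 := Cfsg.Agent.Lib.TC.Split.countAcc_join (lo := 0) (a := 50000) (b := 10000) (x := 33697) (y := 4901) allN4 Cfsg.Agent.Lib.TC.D.Fi24a.F5.cnt
theorem allF6 : cert.chkFinal 0 70000 = true := cert.chkFinal_join (lo := 0) (a := 60000) (b := 10000) allF5 Cfsg.Agent.Lib.TC.D.Fi24a.F6.ok
theorem allN6 : countAcc (fun i => cert.eLvl (cert.par i)) cert.MAX 0 70000 0 = 44164 := Cfsg.Agent.Lib.TC.Split.countAcc_join (lo := 0) (a := 60000) (b := 10000) (x := 38598) (y := 5566) allN5 Cfsg.Agent.Lib.TC.D.Fi24a.F6.cnt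
theorem allF7 : cert.chkFinal 0 80000 = true := cert.chkFinal_join (lo := 0) (a := 70000) (b := 10000) allF6 Cfsg.Agent.Lib.TC.D.Fi24a.F7.ok
theorem allN7 : countAcc (fun i => cert.eLvl (cert.par i)) cert.MAX 0 80000 0 = 48170 := Cfsg.Agent.Lib.TC.Split.countAcc_join (lo := 0) (a := 70000) (b := 10000) (x := 44164) (y := 4006) allN6 Cfsg.Agent.Lib.TC.D.Fi24a.F7.cnt
theorem allF8 : cert.chkFinal 0 90000 = true := cert.chkFinal_join (lo := 0) (a := 80000) (b := 10000) allF7 Cfsg.Agent.Lib.TC.D.Fi24a.F8.ok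
theorem allN8 : countAcc (fun i => cert.eLvl (cert.par i)) cert.MAX 0 90000 0 = 53824 := Cfsg.Agent.Lib.TC.Split.countAcc_join (lo := 0) (a := 80000) (b := 10000) (x := 48170) (y := 5654) allN7 Cfsg.Agent.Lib.TC.D.Fi24a.F8.cnt
theorem allF9 : cert.chkFinal 0 100000 = true := cert.chkFinal_join (lo := 0) (a := 90000) (b := 10000) allF8 Cfsg.Agent.Lib.TC.D.Fi24a.F9.ok
theorem allN9 : countAcc (fun i => cert.eLvl (cert.par i)) cert.MAX 0 100000 0 = 57952 := Cfsg.Agent.Lib.TC.Split.countAcc_join (lo := 0) (a := 90000) (b := 10000) (x := 53824) (y := 4128) allN8 Cfsg.Agent.Lib.TC.D.Fi24a.F9.cnt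
theorem allF10 : cert.chkFinal 0 110000 = true := cert.chkFinal_join (lo := 0) (a := 100000) (b := 10000) allF9 Cfsg.Agent.Lib.TC.D.Fi24a.F10.ok
theorem allN10 : countAcc (fun i => cert.eLvl (cert.par i)) cert.MAX 0 110000 0 = 63078 := Cfsg.Agent.Lib.TC.Split.countAcc_join (lo := 0) (a := 100000) (b := 10000) (x := 57952) (y := 5126) allN9 Cfsg.Agent.Lib.TC.D.Fi24a.F10.cnt
theorem allF11 : cert.chkFinal 0 120000 = true := cert.chkFinal_join (lo := 0) (a := 110000) (b := 10000) allF10 Cfsg.Agent.Lib.TC.D.Fi24a.F11.ok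
theorem allN11 : countAcc (fun i => cert.eLvl (cert.par i)) cert.MAX 0 120000 0 = 68954 := Cfsg.Agent.Lib.TC.Split.countAcc_join (lo := 0) (a := 110000) (b := 10000) (x := 63078) (y := 5876) allN10 Cfsg.Agent.Lib.TC.D.Fi24a.F11.cnt
theorem allF12 : cert.chkFinal 0 130000 = true := cert.chkFinal_join (lo := 0) (a := 120000) (b := 10000) allF11 Cfsg.Agent.Lib.TC.D.Fi24a.F12.ok
theorem allN12 : countAcc (fun i => cert.eLvl (cert.par i)) cert.MAX 0 130000 0 = 73129 := Cfsg.Agent.Lib.TC.Split.countAcc_join (lo := 0) (a := 120000) (b := 10000) (x := 68954) (y := 4175) allN11 Cfsg.Agent.Lib.TC.D.Fi24a.F12.cnt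
theorem allF13 : cert.chkFinal 0 140000 = true := cert.chkFinal_join (lo := 0) (a := 130000) (b := 10000) allF12 Cfsg.Agent.Lib.TC.D.Fi24a.F13.ok
theorem allN13 : countAcc (fun i => cert.eLvl (cert.par i)) cert.MAX 0 140000 0 = 80508 := Cfsg.Agent.Lib.TC.Split.countAcc_join (lo := 0) (a := 130000) (b := 10000) (x := 73129) (y := 7379) allN12 Cfsg.Agent.Lib.TC.D.Fi24a.F13.cnt
theorem allF14 : cert.chkFinal 0 150000 = true := cert.chkFinal_join (lo := 0) (a := 140000) (b := 10000) allF13 Cfsg.Agent.Lib.TC.D.Fi24a.F14.ok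
theorem allN14 : countAcc (fun i => cert.eLvl (cert.par i)) cert.MAX 0 150000 0 = 90504 := Cfsg.Agent.Lib.TC.Split.countAcc_join (lo := 0) (a := 140000) (b := 10000) (x := 80508) (y := 9996) allN13 Cfsg.Agent.Lib.TC.D.Fi24a.F14.cnt
theorem allF15 : cert.chkFinal 0 160000 = true := cert.chkFinal_join (lo := 0) (a := 150000) (b := 10000) allF14 Cfsg.Agent.Lib.TC.D.Fi24a.F15.ok
theorem allN15 : countAcc (fun i => cert.eLvl (cert.par i)) cert.MAX 0 160000 0 = 100504 := Cfsg.Agent.Lib.TC.Split.countAcc_join (lo := 0) (a := 150000) (b := 10000) (x := 90504) (y := 10000) allN14 Cfsg.Agent.Lib.TC.D.Fi24a.F15.cnt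
theorem allF16 : cert.chkFinal 0 170000 = true := cert.chkFinal_join (lo := 0) (a := 160000) (b := 10000) allF15 Cfsg.Agent.Lib.TC.D.Fi24a.F16.ok
theorem allN16 : countAcc (fun i => cert.eLvl (cert.par i)) cert.MAX 0 170000 0 = 110504 := Cfsg.Agent.Lib.TC.Split.countAcc_join (lo := 0) (a := 160000) (b := 10000) (x := 100504) (y := 10000) allN15 Cfsg.Agent.Lib.TC.D.Fi24a.F16.cnt
theorem allF17 : cert.chkFinal 0 180000 = true := cert.chkFinal_join (lo := 0) (a := 170000) (b := 10000) allF16 Cfsg.Agent.Lib.TC.D.Fi24a.F17.ok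
theorem allN17 : countAcc (fun i => cert.eLvl (cert.par i)) cert.MAX 0 180000 0 = 120504 := Cfsg.Agent.Lib.TC.Split.countAcc_join (lo := 0) (a := 170000) (b := 10000) (x := 110504) (y := 10000) allN16 Cfsg.Agent.Lib.TC.D.Fi24a.F17.cnt
theorem allF18 : cert.chkFinal 0 190000 = true := cert.chkFinal_join (lo := 0) (a := 180000) (b := 10000) allF17 Cfsg.Agent.Lib.TC.D.Fi24a.F18.ok
theorem allN18 : countAcc (fun i => cert.eLvl (cert.par i)) cert.MAX 0 190000 0 = 130504 := Cfsg.Agent.Lib.TC.Split.countAcc_join (lo := 0) (a := 180000) (b := 10000) (x := 120504) (y := 10000) allN17 Cfsg.Agent.Lib.TC.D.Fi24a.F18.cnt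
theorem allF19 : cert.chkFinal 0 200000 = true := cert.chkFinal_join (lo := 0) (a := 190000) (b := 10000) allF18 Cfsg.Agent.Lib.TC.D.Fi24a.F19.ok
theorem allN19 : countAcc (fun i => cert.eLvl (cert.par i)) cert.MAX 0 200000 0 = 140504 := Cfsg.Agent.Lib.TC.Split.countAcc_join (lo := 0) (a := 190000) (b := 10000) (x := 130504) (y := 10000) allN18 Cfsg.Agent.Lib.TC.D.Fi24a.F19.cnt
theorem allF20 : cert.chkFinal 0 210000 = true := cert.chkFinal_join (lo := 0) (a := 200000) (b := 10000) allF19 Cfsg.Agent.Lib.TC.D.Fi24a.F20.ok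
theorem allN20 : countAcc (fun i => cert.eLvl (cert.par i)) cert.MAX 0 210000 0 = 150494 := Cfsg.Agent.Lib.TC.Split.countAcc_join (lo := 0) (a := 200000) (b := 10000) (x := 140504) (y := 9990) allN19 Cfsg.Agent.Lib.TC.D.Fi24a.F20.cnt
theorem allF21 : cert.chkFinal 0 220000 = true := cert.chkFinal_join (lo := 0) (a := 210000) (b := 10000) allF20 Cfsg.Agent.Lib.TC.D.Fi24a.F21.ok
theorem allN21 : countAcc (fun i => cert.eLvl (cert.par i)) cert.MAX 0 220000 0 = 160475 := Cfsg.Agent.Lib.TC.Split.countAcc_join (lo := 0) (a := 210000) (b := 10000) (x := 150494) (y := 9981) allN20 Cfsg.Agent.Lib.TC.D.Fi24a.F21.cnt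
theorem allF22 : cert.chkFinal 0 230000 = true := cert.chkFinal_join (lo := 0) (a := 220000) (b := 10000) allF21 Cfsg.Agent.Lib.TC.D.Fi24a.F22.ok
theorem allN22 : countAcc (fun i => cert.eLvl (cert.par i)) cert.MAX 0 230000 0 = 170475 := Cfsg.Agent.Lib.TC.Split.countAcc_join (lo := 0) (a := 220000) (b := 10000) (x := 160475) (y := 10000) allN21 Cfsg.Agent.Lib.TC.D.Fi24a.F22.cnt
theorem allF23 : cert.chkFinal 0 240000 = true := cert.chkFinal_join (lo := 0) (a := 230000) (b := 10000) allF22 Cfsg.Agent.Lib.TC.D.Fi24a.F23.ok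
theorem allN23 : countAcc (fun i => cert.eLvl (cert.par i)) cert.MAX 0 240000 0 = 180475 := Cfsg.Agent.Lib.TC.Split.countAcc_join (lo := 0) (a := 230000) (b := 10000) (x := 170475) (y := 10000) allN22 Cfsg.Agent.Lib.TC.D.Fi24a.F23.cnt
theorem allF24 : cert.chkFinal 0 250000 = true := cert.chkFinal_join (lo := 0) (a := 240000) (b := 10000) allF23 Cfsg.Agent.Lib.TC.D.Fi24a.F24.ok
theorem allN24 : countAcc (fun i => cert.eLvl (cert.par i)) cert.MAX 0 250000 0 = 190475 := Cfsg.Agent.Lib.TC.Split.countAcc_join (lo := 0) (a := 240000) (b := 10000) (x := 180475) (y := 10000) allN23 Cfsg.Agent.Lib.TC.D.Fi24a.F24.cnt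
theorem allF25 : cert.chkFinal 0 260000 = true := cert.chkFinal_join (lo := 0) (a := 250000) (b := 10000) allF24 Cfsg.Agent.Lib.TC.D.Fi24a.F25.ok
theorem allN25 : countAcc (fun i => cert.eLvl (cert.par i)) cert.MAX 0 260000 0 = 200475 := Cfsg.Agent.Lib.TC.Split.countAcc_join (lo := 0) (a := 250000) (b := 10000) (x := 190475) (y := 10000) allN24 Cfsg.Agent.Lib.TC.D.Fi24a.F25.cnt
theorem allF26 : cert.chkFinal 0 270000 = true := cert.chkFinal_join (lo := 0) (a := 260000) (b := 10000) allF25 Cfsg.Agent.Lib.TC.D.Fi24a.F26.ok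
theorem allN26 : countAcc (fun i => cert.eLvl (cert.par i)) cert.MAX 0 270000 0 = 210475 := Cfsg.Agent.Lib.TC.Split.countAcc_join (lo := 0) (a := 260000) (b := 10000) (x := 200475) (y := 10000) allN25 Cfsg.Agent.Lib.TC.D.Fi24a.F26.cnt
theorem allF27 : cert.chkFinal 0 280000 = true := cert.chkFinal_join (lo := 0) (a := 270000) (b := 10000) allF26 Cfsg.Agent.Lib.TC.D.Fi24a.F27.ok
theorem allN27 : countAcc (fun i => cert.eLvl (cert.par i)) cert.MAX 0 280000 0 = 220475 := Cfsg.Agent.Lib.TC.Split.countAcc_join (lo := 0) (a := 270000) (b := 10000) (x := 210475) (y := 10000) allN26 Cfsg.Agent.Lib.TC.D.Fi24a.F27.cnt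
theorem allF28 : cert.chkFinal 0 290000 = true := cert.chkFinal_join (lo := 0) (a := 280000) (b := 10000) allF27 Cfsg.Agent.Lib.TC.D.Fi24a.F28.ok
theorem allN28 : countAcc (fun i => cert.eLvl (cert.par i)) cert.MAX 0 290000 0 = 230475 := Cfsg.Agent.Lib.TC.Split.countAcc_join (lo := 0) (a := 280000) (b := 10000) (x := 220475) (y := 10000) allN27 Cfsg.Agent.Lib.TC.D.Fi24a.F28.cnt
theorem allF29 : cert.chkFinal 0 300000 = true := cert.chkFinal_join (lo := 0) (a := 290000) (b := 10000) allF28 Cfsg.Agent.Lib.TC.D.Fi24a.F29.ok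
theorem allN29 : countAcc (fun i => cert.eLvl (cert.par i)) cert.MAX 0 300000 0 = 240475 := Cfsg.Agent.Lib.TC.Split.countAcc_join (lo := 0) (a := 290000) (b := 10000) (x := 230475) (y := 10000) allN28 Cfsg.Agent.Lib.TC.D.Fi24a.F29.cnt
theorem allF30 : cert.chkFinal 0 310000 = true := cert.chkFinal_join (lo := 0) (a := 300000) (b := 10000) allF29 Cfsg.Agent.Lib.TC.D.Fi24a.F30.ok
theorem allN30 : countAcc (fun i => cert.eLvl (cert.par i)) cert.MAX 0 310000 0 = 250475 := Cfsg.Agent.Lib.TC.Split.countAcc_join (lo := 0) (a := 300000) (b := 10000) (x := 240475) (y := 10000) allN29 Cfsg.Agent.Lib.TC.D.Fi24a.F30.cnt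
theorem allF31 : cert.chkFinal 0 320000 = true := cert.chkFinal_join (lo := 0) (a := 310000) (b := 10000) allF30 Cfsg.Agent.Lib.TC.D.Fi24a.F31.ok
theorem allN31 : countAcc (fun i => cert.eLvl (cert.par i)) cert.MAX 0 320000 0 = 260475 := Cfsg.Agent.Lib.TC.Split.countAcc_join (lo := 0) (a := 310000) (b := 10000) (x := 250475) (y := 10000) allN30 Cfsg.Agent.Lib.TC.D.Fi24a.F31.cnt
theorem allF32 : cert.chkFinal 0 330000 = true := cert.chkFinal_join (lo := 0) (a := 320000) (b := 10000) allF31 Cfsg.Agent.Lib.TC.D.Fi24a.F32.ok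
theorem allN32 : countAcc (fun i => cert.eLvl (cert.par i)) cert.MAX 0 330000 0 = 270475 := Cfsg.Agent.Lib.TC.Split.countAcc_join (lo := 0) (a := 320000) (b := 10000) (x := 260475) (y := 10000) allN31 Cfsg.Agent.Lib.TC.D.Fi24a.F32.cnt
theorem allF33 : cert.chkFinal 0 340000 = true := cert.chkFinal_join (lo := 0) (a := 330000) (b := 10000) allF32 Cfsg.Agent.Lib.TC.D.Fi24a.F33.ok
theorem allN33 : countAcc (fun i => cert.eLvl (cert.par i)) cert.MAX 0 340000 0 = 280475 := Cfsg.Agent.Lib.TC.Split.countAcc_join (lo := 0) (a := 330000) (b := 10000) (x := 270475) (y := 10000) allN32 Cfsg.Agent.Lib.TC.D.Fi24a.F33.cnt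
theorem allF34 : cert.chkFinal 0 350000 = true := cert.chkFinal_join (lo := 0) (a := 340000) (b := 10000) allF33 Cfsg.Agent.Lib.TC.D.Fi24a.F34.ok
theorem allN34 : countAcc (fun i => cert.eLvl (cert.par i)) cert.MAX 0 350000 0 = 290475 := Cfsg.Agent.Lib.TC.Split.countAcc_join (lo := 0) (a := 340000) (b := 10000) (x := 280475) (y := 10000) allN33 Cfsg.Agent.Lib.TC.D.Fi24a.F34.cnt
theorem allF35 : cert.chkFinal 0 360000 = true := cert.chkFinal_join (lo := 0) (a := 350000) (b := 10000) allF34 Cfsg.Agent.Lib.TC.D.Fi24a.F35.ok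
theorem allN35 : countAcc (fun i => cert.eLvl (cert.par i)) cert.MAX 0 360000 0 = 300475 := Cfsg.Agent.Lib.TC.Split.countAcc_join (lo := 0) (a := 350000) (b := 10000) (x := 290475) (y := 10000) allN34 Cfsg.Agent.Lib.TC.D.Fi24a.F35.cnt
theorem allF36 : cert.chkFinal 0 366461 = true := cert.chkFinal_join (lo := 0) (a := 360000) (b := 6461) allF35 Cfsg.Agent.Lib.TC.D.Fi24a.F36.ok
theorem allN36 : countAcc (fun i => cert.eLvl (cert.par i)) cert.MAX 0 366461 0 = 306936 := Cfsg.Agent.Lib.TC.Split.countAcc_join (lo := 0) (a := 360000) (b := 6461) (x := 300475) (y := 6461) allN35 Cfsg.Agent.Lib.TC.D.Fi24a.F36.cnt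

theorem hFinal : cert.chkFinal 0 366461 = true := allF36

theorem h0 : cert.eLvl (cert.par (cert.find cert.MAX cert.D 0)) = cert.MAX := by decide +kernel

theorem hcount : cert.countRoots cert.N = pt.n := by
  rw [countRoots_eq_acc]
  exact allN36

theorem hgood : pt.Good rels where
  hpos := by decide
  hinv := by decide +kernel
  hrels := by decide +kernel
  hchk := allP799

theorem hchecked : Checked cert where
  hN := by decide
  hC := allC129
  hF := hFinal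
  h0 := h0

theorem hsubs : subW.map K.word = subs := by decide +kernel

theorem ok : Ok K Rel cert pt rels subs witT.get where
  hK := valid
  hCk := by decide
  hPk := by decide
  hPinv := fun _ => rfl
  hR := hR
  hrels := hrels
  hG := hgood
  hsubk := by decide +kernel
  hsub0 := by decide +kernel
  h1 := by decide +kernel
  h2 := by decide +kernel
  hC := hchecked
  hcount := hcount

end Cfsg.Agent.Lib.TC.D.Fi24a.Ok
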